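import Cfsg.Agent.U43Type.Words2

/-!
Every element of the centraliser is a word in four letters.
-/

set_option autoImplicit false
set_option maxRecDepth 100000

namespace Cfsg.Agent.U43Type

/-- Words for one factor. -/
def sideList : List (List Nat) := [[3], [0, 2, 0], [0], [2], [0, 2, 2], [0, 3, 0], [], [3, 1], [0, 2], [2, 0], [0, 3, 1], [1, 2, 2], [1, 3], [1, 3, 1], [1, 3, 0], [2, 2], [0, 3], [2, 1], [1, 2], [1, 2, 0], [1, 2, 1], [3, 0], [1], [0, 2, 1]]

/-- A word for an index. -/
def wordOf (i : Nat) : List Nat :=
  sideList.getD (c1 i) [] ++ [4] ++ sideList.getD (c2 i) [] ++ [4] ++ (bif cs i then [4] else []) ++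
    (bif cd i then [6] else [])

theorem wordOf_ok : ((List.range 1152).all fun i => hWord (wordOf i) && (hv (wordOf i) == i)) = true := by
  decide +kernel

/-- The indices of a Sylow two-subgroup. -/
def inT (i : Nat) : Bool := Nat.blt i 1152 && inQ8 (c1 i) && inQ8 (c2 i)

/-- Its list. -/
def tList : List Nat := (List.range 1152).filter inT

theorem t_table : tList.length = 128 ∧ inT oI = true ∧ inT zI = true ∧
    (tList.all fun i => tList.all fun j => inT (hh i j)) = true ∧
    (tList.all fun i => !(tList.all fun j => hh i j == hh j i) || (i == oI) || (i == zI)) = true := by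
  decide +kernel

end Cfsg.Agent.U43Type
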