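import Cfsg.Agent.U43Type.Mat
import Cfsg.Agent.U43Type.GenWords

/-!
The elements of order three commuting with two non-commuting elements of order four.
-/

set_option autoImplicit false
set_option maxRecDepth 100000
set_option maxHeartbeats 1000000

namespace Cfsg.Agent.U43Type

/-- An element, a word for it, and two words commuting with it whose commutator it is. -/
def rootList : List (Nat × List Nat × List Nat × List Nat) := [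
  (156, [0, 2, 0, 4, 2, 2, 4], [8, 1, 2, 8, 0, 2, 8], [8, 2, 0, 8, 2, 1, 8]),
  (216, [0, 4, 4], [8, 0, 2, 8, 1, 2, 8], [8, 2, 1, 8, 2, 0, 8]),
  (296, [4, 0, 4], [8, 1, 6, 8, 1, 6, 8], [8, 6, 1, 8, 6, 1, 8]),
  (308, [4, 0, 3, 0, 4], [8, 0, 6, 8, 0, 6, 8], [8, 6, 0, 8, 6, 0, 8]),
  (316, [4, 3, 1, 4], [8, 1, 6, 8, 0, 6, 8, 2], [8, 6, 1, 4, 8, 1, 8]),
  (320, [4, 0, 2, 4], [0, 8, 6, 1, 4, 8, 1, 8], [8, 6, 1, 4, 8, 1, 8, 0]),
  (324, [4, 2, 0, 4], [8, 0, 4, 8, 4, 0, 8, 2], [8, 6, 0, 4, 8, 0, 8]),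
  (336, [4, 1, 3, 4], [1, 8, 6, 0, 4, 8, 0, 8], [8, 6, 0, 4, 8, 0, 8, 1]),
  (368, [4, 1, 2, 1, 4], [1, 8, 6, 0, 8, 6, 0, 8], [8, 6, 0, 8, 6, 0, 8, 1]),
  (376, [4, 1, 4], [8, 6, 0, 4, 8, 1, 8, 2], [8, 6, 1, 8, 6, 1, 8]),
  (408, [3, 1, 4, 4], [8, 0, 8, 0, 2, 0, 8], [2, 8, 0, 8, 1, 8, 1]),
  (504, [0, 2, 4, 4], [8, 0, 8, 0, 2, 0, 8], [8, 1, 8, 0, 8, 2, 1]),
  (600, [2, 0, 4, 4], [8, 0, 2, 0, 8, 0, 8], [8, 0, 8, 1, 8, 1, 2]),
  (828, [1, 2, 2, 4, 2, 2, 4], [8, 2, 1, 8, 2, 0, 8, 0], [8, 0, 2, 8, 1, 2, 8]),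
  (888, [1, 3, 4, 4], [8, 1, 8, 2, 0, 2, 8], [8, 0, 8, 1, 8, 1, 2]),
  (1020, [1, 3, 1, 4, 2, 2, 4], [0, 8, 1, 8, 0, 8, 2, 0], [8, 2, 0, 8, 2, 1, 8])]

/-- The elements of order four squaring to the central involution. -/
def fourZ : List Nat := (List.range 1152).filter fun j => hh j j == zI

theorem root_complete : ((List.range 1152).all fun i => !(hh i (hh i i) == oI) || (i == oI) ||
    (rootList.any fun p => p.1 == i) ||
    (let c := fourZ.filter fun j => hh i j == hh j i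
     c.all fun j => c.all fun k => hh j k == hh k j)) = true := by
  decide +kernel

theorem root_ok : (rootList.all fun p => hWord p.2.1 && (hv p.2.1 == p.1) &&
    isScal (p.2.2.1 ++ p.2.1 ++ invW p.2.2.1 ++ invW p.2.1) &&
    isScal (p.2.2.2 ++ p.2.1 ++ invW p.2.2.2 ++ invW p.2.1) &&
    isScal (p.2.2.1 ++ p.2.2.2 ++ invW p.2.2.1 ++ invW p.2.2.2 ++ invW p.2.1)) = true := by
  decide +kernel

end Cfsg.Agent.U43Type
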