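import Cfsg.Agent.U43Type.Main
import Cfsg.Agent.U43Type.RootData

/-!
An element of order three in a factor is a commutator inside its centraliser.
-/

set_option autoImplicit false
set_option linter.all false

namespace Cfsg.Agent.U43Type

variable {G : Type*} [Group G] [Finite G] {z : G}

namespace Std

variable (S : Std z)

theorem val_one_of_scal {w : List Nat} (h : isScal w = true) : S.val w = 1 := by
  have e : chi card_F9 (pVal w) = 1 := by
    rw [chi_pVal]
    exact (valP_one_iff card_F9 w).2 (scal_center card_F9 h)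
  have e1 : pVal w = 1 := (chi_bijective card_F9 S).1 (e.trans (map_one _).symm)
  rw [← S.psi_pVal, e1, map_one]

include S in
theorem root_comm {x j k : G} (xz : x * z = z * x) (x3 : x * (x * x) = 1) (x1 : x ≠ 1)
    (jz : j * z = z * j) (kz : k * z = z * k) (jj : j * j = z) (kk : k * k = z)
    (xj : x * j = j * x) (xk : x * k = k * x) (jk : j * k ≠ k * j) :
    ∃ u v : G, u * x = x * u ∧ v * x = x * v ∧ u * v * u⁻¹ * v⁻¹ = x := by
  obtain ⟨i, li, rfl⟩ := S.φ_surj x xz
  obtain ⟨a, la, rfl⟩ := S.φ_surj j jz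
  obtain ⟨b, lb, rfl⟩ := S.φ_surj k kz
  have hz : zI < 1152 := zI_lt
  have ho : oI < 1152 := oI_lt
  have hii : hh i (hh i i) = oI := S.φ_inj _ (S.φ_mul i li _ (S.φ_mul i li i li).1).1 _ ho (by
    rw [(S.φ_mul i li _ (S.φ_mul i li i li).1).2, (S.φ_mul i li i li).2, x3, S.φ_one])
  have hi1 : i ≠ oI := fun e => x1 (by rw [e, S.φ_one])
  have four : ∀ c, c < 1152 → S.φ c * S.φ c = z → S.φ i * S.φ c = S.φ c * S.φ i →
      c ∈ fourZ.filter (fun j => hh i j == hh j i) := by
    intro c lc e1 e2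
    refine List.mem_filter.2 ⟨List.mem_filter.2 ⟨List.mem_range.2 lc, beq_iff_eq.2 ?_⟩, beq_iff_eq.2 ?_⟩
    · exact S.φ_inj _ (S.φ_mul c lc c lc).1 _ hz (by rw [(S.φ_mul c lc c lc).2, e1, S.φ_z])
    · exact S.φ_inj _ (S.φ_mul i li c lc).1 _ (S.φ_mul c lc i li).1 (by
        rw [(S.φ_mul i li c lc).2, (S.φ_mul c lc i li).2, e2])
  have h := List.all_eq_true.1 root_complete i (List.mem_range.2 li)
  simp only [hii, beq_self_eq_true, Bool.not_true, Bool.false_or, beq_eq_false_iff_ne.2 hi1, Bool.or_eq_true,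
    List.any_eq_true, List.all_eq_true, beq_iff_eq] at h
  rcases h with ⟨p, hp, rfl⟩ | h
  · have hok := List.all_eq_true.1 root_ok p hp
    simp only [Bool.and_eq_true, beq_iff_eq] at hok
    obtain ⟨⟨⟨⟨hw, hv'⟩, c1⟩, c2⟩, c3⟩ := hok
    have ex : S.val p.2.1 = S.φ p.1 := by rw [(S.val_H hw).2, hv']
    have e1 := S.val_one_of_scal c1
    have e2 := S.val_one_of_scal c2
    have e3 := S.val_one_of_scal c3
    simp only [val_append, val_inv, ex] at e1 e2 e3
    refine ⟨S.val p.2.2.1, S.val p.2.2.2, ?_, ?_, mul_inv_eq_one.1 e3⟩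
    · exact mul_inv_eq_iff_eq_mul.1 (mul_inv_eq_one.1 e1)
    · exact mul_inv_eq_iff_eq_mul.1 (mul_inv_eq_one.1 e2)
  · exact absurd (by rw [← (S.φ_mul a la b lb).2, ← (S.φ_mul b lb a la).2,
      h a (four a la jj xj) b (four b lb kk xk)]) jk

end Std

end Cfsg.Agent.U43Type
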