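import Cfsg.Agent.U43Type.Setup

/-!
The element exchanging `z` and a second involution of the two-core.
-/

set_option autoImplicit false
set_option maxRecDepth 100000
set_option linter.all false

namespace Cfsg.Agent.U43Type

open Subgroup

/-- The second coordinate of `y`. -/
def yk (σ : Bool) : Nat := bif σ then sm sK sZ else sK

/-- `x` is the identity or the sign. -/
def pm1 (x : Nat) : Bool := decide (x = sO) || decide (x = sZ)

/-- `x` is plus or minus the special element of order four. -/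
def pmK (x : Nat) : Bool := decide (x = sK) || decide (x = sm sK sZ)

/-- The pair lies in the four group of `z` and `y`. -/
def inFour (u v : Nat) : Bool := (pm1 u && pm1 v) || (pmK u && pmK v)

theorem yk_facts : ∀ σ, yk σ < 24 ∧ inQ8 (yk σ) = true ∧ pmK (yk σ) = true ∧ sm (yk σ) (yk σ) = sZ := by
  decide +kernel

theorem q8_comm : ∀ u < 24, inQ8 u = true → ∀ a < 24, inQ8 a = true → sm u a = sm a u ∨ sm u a = sm (sm a u) sZ := by
  decide +kernel

theorem q8_conjK : ∀ a < 24, inQ8 a = true → a ≠ sO → a ≠ sZ → ∃ g < 24, sm g a = sm sK g := by decide +kernel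

theorem q8_invol : ∀ a < 24, ∀ b < 24, inQ8 a = true → inQ8 b = true →
    (sm a a = sO ∧ sm b b = sO) ∨ (sm a a = sZ ∧ sm b b = sZ) →
    ((a = sO ∨ a = sZ) ∧ (b = sO ∨ b = sZ)) ∨ ((a ≠ sO ∧ a ≠ sZ) ∧ (b ≠ sO ∧ b ≠ sZ)) := by
  have h : ((List.range 24).all fun a => (List.range 24).all fun b => decide (inQ8 a = true → inQ8 b = true →
    (sm a a = sO ∧ sm b b = sO) ∨ (sm a a = sZ ∧ sm b b = sZ) →
    ((a = sO ∨ a = sZ) ∧ (b = sO ∨ b = sZ)) ∨ ((a ≠ sO ∧ a ≠ sZ) ∧ (b ≠ sO ∧ b ≠ sZ)))) = true := by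
    decide +kernel
  intro a ha b hb
  exact of_decide_eq_true (List.all_eq_true.1 (List.all_eq_true.1 h a (List.mem_range.2 ha)) b (List.mem_range.2 hb))

theorem four_of_comm : ∀ a < 24, ∀ b < 24, inQ8 a = true → inQ8 b = true → sm sK a = sm a sK → sm sK b = sm b sK →
    (sm sP a = sm a sP ↔ sm sP b = sm b sP) → inFour a b = true := by
  have h : ((List.range 24).all fun a => (List.range 24).all fun b => decide (inQ8 a = true → inQ8 b = true → sm sK a = sm a sK → sm sK b = sm b sK →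
    (sm sP a = sm a sP ↔ sm sP b = sm b sP) → inFour a b = true)) = true := by
    decide +kernel
  intro a ha b hb
  exact of_decide_eq_true (List.all_eq_true.1 (List.all_eq_true.1 h a (List.mem_range.2 ha)) b (List.mem_range.2 hb))

variable {G : Type*} [Group G]

/-- A setup with an element exchanging `z` and `y`. -/
structure Pair (z : G) extends Setup z where
  σ : Bool
  t : G
  hzy : t * z * t⁻¹ = C.f1 sK * C.f2 (yk σ)
  hyz : t * (C.f1 sK * C.f2 (yk σ)) * t⁻¹ = z
  zne : z ≠ 1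
  zsq : z * z = 1

namespace Setup

variable {z : G} (S : Setup z)

theorem inQ_pair {a b : Nat} (ha : a < 24) (hb : b < 24) (qa : inQ8 a = true) (qb : inQ8 b = true) :
    S.C.f1 a * S.C.f2 b ∈ S.QG := (S.memQ _).2 ⟨a, ha, b, hb, qa, qb, rfl⟩

theorem Q_comm {q : G} (hq : q ∈ S.QG) : q * z = z * q := by
  obtain ⟨a, ha, b, hb, -, -, rfl⟩ := (S.memQ q).1 hq
  rw [mul_assoc, S.C.z_comm2 hb, ← mul_assoc, S.C.z_comm1 ha, mul_assoc]

theorem f1_mem {a : Nat} (ha : a < 24) (qa : inQ8 a = true) : S.C.f1 a ∈ S.QG := by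
  have h := S.inQ_pair ha (show sO < 24 by decide) qa q8_noncomm.2.2.2.2.2.2.2.2.2.1
  rwa [S.C.one2, mul_one] at h

theorem z_mem : z ∈ S.QG := by
  simpa only [S.C.zz1] using S.f1_mem (show sZ < 24 by decide) q8_noncomm.2.2.2.2.2.2.2.2.2.2

/-- Involutions of the two-core other than `z` are conjugate to the canonical one. -/
theorem to_y (hz : z * z = 1) {q : G} (hq : q ∈ S.QG) (h2 : q * q = 1) (h1 : q ≠ 1) (hne : q ≠ z) :
    ∃ h : G, h * z = z * h ∧ h * q * h⁻¹ = S.C.f1 sK * S.C.f2 (yk false) := by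
  obtain ⟨a, ha, b, hb, qa, qb, rfl⟩ := (S.memQ q).1 hq
  have hlt := @Coords.lt_sm
  have hc : (sm a a = sO ∧ sm b b = sO) ∨ (sm a a = sZ ∧ sm b b = sZ) := by
    rw [S.C.pair_mul ha hb ha hb, ← mul_one (1 : G)] at h2
    nth_rw 1 [← S.C.one1] at h2
    rw [← S.C.one2] at h2
    rcases S.C.pair_inj (hlt ha ha) (hlt hb hb) (show sO < 24 by decide) (show sO < 24 by decide) h2 with h | h
    · exact Or.inl h
    · rw [show sm sO sZ = sZ by decide +kernel] at h
      exact Or.inr h
  rcases q8_invol a ha b hb qa qb hc with ⟨h3, h4⟩ | ⟨⟨a1, a2⟩, b1, b2⟩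
  · exfalso
    rcases h3 with rfl | rfl <;> rcases h4 with rfl | rfl
    · exact h1 (by rw [S.C.one1, S.C.one2, one_mul])
    · exact hne (by simp only [S.C.one1, S.C.zz2, one_mul])
    · exact hne (by simp only [S.C.one2, S.C.zz1, mul_one])
    · exact h1 (by simpa only [S.C.zz1, S.C.zz2] using hz)
  · obtain ⟨g1, hg1, e1⟩ := q8_conjK a ha qa a1 a2
    obtain ⟨g2, hg2, e2⟩ := q8_conjK b hb qb b1 b2
    refine ⟨S.C.f1 g1 * S.C.f2 g2, ?_, ?_⟩
    · rw [mul_assoc, S.C.z_comm2 hg2, ← mul_assoc, S.C.z_comm1 hg1, mul_assoc]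
    · rw [mul_inv_eq_iff_eq_mul, S.C.pair_mul hg1 hg2 ha hb, e1, e2,
        S.C.pair_mul (show sK < 24 by decide) (yk_facts false).1 hg1 hg2]
      rfl

/-- Elements commute up to sign. -/
theorem comm_sign {c e : G} (hc : c ∈ S.QG) (he : e ∈ S.QG) : c * e = e * c ∨ c * e = z * (e * c) := by
  obtain ⟨u, hu, v, hv, qu, qv, rfl⟩ := (S.memQ c).1 hc
  obtain ⟨a, ha, b, hb, qa, qb, rfl⟩ := (S.memQ e).1 he
  have hlt := @Coords.lt_sm
  have hz1 : ∀ w : Nat, w < 24 → S.C.f1 (sm w sZ) = S.C.f1 w * z := fun w hw => by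
    simpa only [S.C.zz1] using S.C.mul1 w hw sZ (by decide)
  have hz2 : ∀ w : Nat, w < 24 → S.C.f2 (sm w sZ) = S.C.f2 w * z := fun w hw => by
    simpa only [S.C.zz2] using S.C.mul2 w hw sZ (by decide)
  have hzz : z * z = 1 := by
    have h := S.C.mul1 sZ (by decide) sZ (by decide)
    rw [show sm sZ sZ = sO by decide +kernel, S.C.one1] at h
    simpa only [S.C.zz1] using h.symm
  rw [S.C.pair_mul hu hv ha hb, S.C.pair_mul ha hb hu hv]
  have k1 := S.C.z_comm1 (hlt ha hu)
  have k2 := S.C.z_comm2 (hlt hb hv)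
  rcases q8_comm u hu qu a ha qa with e1 | e1 <;> rcases q8_comm v hv qv b hb qb with e2 | e2 <;> rw [e1, e2]
  · exact Or.inl rfl
  · refine Or.inr ?_
    rw [hz2 _ (hlt hb hv), k2, ← mul_assoc, k1, mul_assoc]
  · refine Or.inr ?_
    rw [hz1 _ (hlt ha hu), k1, mul_assoc]
  · refine Or.inl ?_
    rw [hz1 _ (hlt ha hu), hz2 _ (hlt hb hv), k2, mul_assoc, ← mul_assoc z z, hzz, one_mul]

include S in
/-- Existence of the exchanging element. -/
theorem exists_pair (hz1 : z ≠ 1) (hzz : z * z = 1) : Nonempty (Pair z) := by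
  classical
  obtain ⟨g0, hm, hne⟩ := S.nwc
  have hsq : ∀ x : G, x * z * x⁻¹ * (x * z * x⁻¹) = 1 := fun x => by
    calc x * z * x⁻¹ * (x * z * x⁻¹) = x * (z * z) * x⁻¹ := by group
      _ = 1 := by rw [hzz]; group
  obtain ⟨h0, hh0, e0⟩ := S.to_y hzz hm (hsq g0) (fun e => hz1 (by
      calc z = g0⁻¹ * (g0 * z * g0⁻¹) * g0 := by group
        _ = 1 := by rw [e]; group)) hne
  obtain ⟨g, hg⟩ : ∃ g, g = h0 * g0 := ⟨_, rfl⟩
  have hy : g * z * g⁻¹ = S.C.f1 sK * S.C.f2 (yk false) := by rw [← e0, hg]; group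
  have ymem : g * z * g⁻¹ ∈ S.QG := by
    rw [hy]; exact S.inQ_pair (by decide) (yk_facts false).1 q8_noncomm.2.2.2.1 (yk_facts false).2.1
  have yne : g * z * g⁻¹ ≠ z := fun e => hne (by
    have h1 : h0⁻¹ * z * h0 = z := by rw [mul_assoc, ← hh0]; group
    calc g0 * z * g0⁻¹ = h0⁻¹ * (g * z * g⁻¹) * h0 := by rw [hg]; group
      _ = z := by rw [e, h1])
  set E := S.QG ⊓ S.QG.map (MulAut.conj g).toMonoidHom with hE
  have memE : ∀ e, e ∈ E ↔ e ∈ S.QG ∧ g⁻¹ * e * g ∈ S.QG := by
    intro e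
    rw [hE, mem_inf, mem_map]
    refine and_congr_right fun _ => ⟨?_, fun h => ⟨_, h, by simp [mul_assoc]⟩⟩
    rintro ⟨w, hw, rfl⟩
    simpa [mul_assoc] using hw
  have key : z ∈ E := by
    by_contra hzE
    have sub : (E : Set G) ⊆ ({1, g * z * g⁻¹, z * (g * z * g⁻¹)} : Finset G) := by
      intro e he
      obtain ⟨he1, he2⟩ := (memE e).1 he
      have ey : e * (g * z * g⁻¹) = g * z * g⁻¹ * e := by
        calc e * (g * z * g⁻¹) = g * (g⁻¹ * e * g * z) * g⁻¹ := by group
          _ = g * (z * (g⁻¹ * e * g)) * g⁻¹ := by rw [S.Q_comm he2]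
          _ = _ := by group
      have cent : ∀ c ∈ S.QG, c * (g * z * g⁻¹) = g * z * g⁻¹ * c → c * e = e * c := by
        intro c hc hcy
        have hc' : g⁻¹ * c * g * z = z * (g⁻¹ * c * g) := by
          calc g⁻¹ * c * g * z = g⁻¹ * (c * (g * z * g⁻¹)) * g := by group
            _ = _ := by rw [hcy]; group
        have h3 : c * e * c⁻¹ ∈ E := (memE _).2 ⟨S.QG.mul_mem (S.QG.mul_mem hc he1) (S.QG.inv_mem hc), by
          have := S.qnormal _ hc' _ he2
          simpa [mul_assoc] using this⟩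
        rcases S.comm_sign hc he1 with h | h
        · exact h
        · exfalso
          refine hzE ?_
          have : z = c * e * c⁻¹ * e⁻¹ := by rw [h]; group
          rw [this]
          exact E.mul_mem h3 (E.inv_mem he)
      obtain ⟨a, ha, b, hb, qa, qb, rfl⟩ := (S.memQ e).1 he1
      have hlt := @Coords.lt_sm
      have hK : sK < 24 := by decide
      have hP : sP < 24 := by decide
      have hO : sO < 24 := by decide
      have zn : ∀ w < 24, sm w sZ ≠ w := by decide +kernel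
      have c1 : sm sK a = sm a sK := by
        have h := cent (S.C.f1 sK) (S.f1_mem hK q8_noncomm.2.2.2.1) (by
          rw [hy]
          exact ((Commute.refl _).mul_right (S.C.com sK hK _ (yk_facts false).1)).eq)
        have h' : S.C.f1 sK * S.C.f1 a = S.C.f1 a * S.C.f1 sK := mul_right_cancel (b := S.C.f2 b) (by
          rw [mul_assoc, h, mul_assoc, mul_assoc, S.C.com sK hK b hb])
        rw [← S.C.mul1 sK hK a ha, ← S.C.mul1 a ha sK hK] at h'
        exact S.C.inj1 _ (hlt hK ha) _ (hlt ha hK) h'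
      have c2 : sm sK b = sm b sK := by
        have h := ey
        rw [hy, S.C.pair_mul ha hb hK (yk_facts false).1, S.C.pair_mul hK (yk_facts false).1 ha hb, c1] at h
        exact (S.C.inj2 _ (hlt hb hK) _ (hlt hK hb) (mul_left_cancel h)).symm
      have c3 : sm sP a = sm a sP ↔ sm sP b = sm b sP := by
        have h := cent (S.C.f1 sP * S.C.f2 sP) (S.inQ_pair hP hP q8_noncomm.2.2.2.2.1 q8_noncomm.2.2.2.2.1) (by
          rw [hy, S.C.pair_mul hP hP hK (yk_facts false).1, S.C.pair_mul hK (yk_facts false).1 hP hP,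
            show sm sP sK = sm (sm sK sP) sZ by decide +kernel, show sm sP (yk false) = sm (sm (yk false) sP) sZ by decide +kernel,
            S.C.neg_mul_neg (hlt hK hP) (hlt (yk_facts false).1 hP)])
        rw [S.C.pair_mul hP hP ha hb, S.C.pair_mul ha hb hP hP] at h
        rcases S.C.pair_inj (hlt hP ha) (hlt hP hb) (hlt ha hP) (hlt hb hP) h with ⟨p, q⟩ | ⟨p, q⟩
        · exact iff_of_true p q
        · exact iff_of_false (fun e => zn _ (hlt ha hP) (p.symm.trans e)) (fun e => zn _ (hlt hb hP) (q.symm.trans e))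
      have h4 := four_of_comm a ha b hb qa qb c1 c2 c3
      simp only [inFour, pm1, pmK, Bool.or_eq_true, Bool.and_eq_true, decide_eq_true_eq] at h4
      have hyk : yk false = sK := rfl
      rw [hyk] at hy
      have neg1 : ∀ w < 24, S.C.f1 (sm w sZ) = z * S.C.f1 w := fun w hw => by
        rw [← S.C.z_comm1 hw]; simpa only [S.C.zz1] using S.C.mul1 w hw sZ (by decide)
      have neg2 : ∀ w < 24, S.C.f2 (sm w sZ) = S.C.f2 w * z := fun w hw => by
        simpa only [S.C.zz2] using S.C.mul2 w hw sZ (by decide)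
      simp only [Finset.coe_insert, Finset.coe_singleton, Set.mem_insert_iff, Set.mem_singleton_iff]
      rcases h4 with ⟨p, q⟩ | ⟨p, q⟩
      · rcases p with rfl | rfl <;> rcases q with rfl | rfl
        · exact Or.inl (by rw [S.C.one1, S.C.one2, one_mul])
        · exfalso; refine hzE (SetLike.mem_coe.1 ?_); simpa only [S.C.one1, S.C.zz2, one_mul] using he
        · exfalso; refine hzE (SetLike.mem_coe.1 ?_); simpa only [S.C.one2, S.C.zz1, mul_one] using he
        · exact Or.inl (by simpa only [S.C.zz1, S.C.zz2] using hzz)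
      · rcases p with rfl | rfl <;> rcases q with rfl | rfl
        · exact Or.inr (Or.inl hy.symm)
        · refine Or.inr (Or.inr ?_)
          rw [neg2 _ hK, hy, S.C.z_comm2 hK, ← mul_assoc, S.C.z_comm1 hK, mul_assoc]
        · refine Or.inr (Or.inr ?_)
          rw [neg1 _ hK, hy, mul_assoc]
        · exact Or.inr (Or.inl (by rw [S.C.neg_mul_neg hK hK]; exact hy.symm))
    have h3 : Nat.card E ≤ 3 := by
      rw [← SetLike.coe_sort_coe, Nat.card_coe_set_eq]
      refine (Set.ncard_le_ncard sub (Finset.finite_toSet _)).trans ?_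
      rw [Set.ncard_coe_finset]
      exact Finset.card_le_three
    have h4 : Nat.card E = 4 := S.qq g ymem yne
    omega
  obtain ⟨-, hw⟩ := (memE z).1 key
  obtain ⟨h, hh, e⟩ := S.to_y hzz hw (by
      simpa using hsq g⁻¹)
    (fun e => hz1 (by
      calc z = g * (g⁻¹ * z * g) * g⁻¹ := by group
        _ = 1 := by rw [e]; group))
    (fun e => yne (by
      calc g * z * g⁻¹ = g * (g⁻¹ * z * g) * g⁻¹ := by rw [e]
        _ = z := by group))
  refine ⟨{ S with σ := false, t := h * g⁻¹, hzy := ?_, hyz := ?_, zne := hz1, zsq := hzz }⟩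
  · rw [← e]; group
  · rw [← hy]
    calc h * g⁻¹ * (g * z * g⁻¹) * (h * g⁻¹)⁻¹ = h * z * h⁻¹ := by group
      _ = z := by rw [hh]; group

end Setup

end Cfsg.Agent.U43Type
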