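import Cfsg.Agent.U43Type.StageData
import Cfsg.Agent.U43Type.Pair

/-!
Finite checks on the candidates for the exchanging element.
-/

set_option autoImplicit false
set_option maxRecDepth 100000
set_option linter.all false
set_option maxHeartbeats 1000000

namespace Cfsg.Agent.U43Type

abbrev oI : Nat := mk sO sO false false
abbrev zI : Nat := mk sZ sO false false
abbrev kI : Nat := mk sK sO false false
abbrev pI : Nat := mk sP sP false false
abbrev kpI : Nat := mk (sm sK sP) sP false false
abbrev sIx : Nat := mk sO sO true false
abbrev yI (σ : Bool) : Nat := mk sK (yk σ) false false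
abbrev zyI (σ : Bool) : Nat := mk (sm sZ sK) (yk σ) false false

/-- The four group. -/
def eList (σ : Bool) : List Nat := [oI, zI, yI σ, zyI σ]

/-- Its elements by position. -/
def eI (σ : Bool) (k : Nat) : Nat := (eList σ).getD k oI

/-- The exchange of `z` and `y` by position. -/
def swk (k : Nat) : Nat := [0, 2, 1, 3].getD k 0

section

variable (δ ε σ : Bool)

/-- The centraliser of `y` in the two-core. -/
def cqList : List Nat := (eList σ).flatMap fun e => [oI, kI, pI, kpI].map (hm δ ε e)

/-- The second two-core inside the centraliser of `z`. -/
def rList (r : Nat) : List Nat := (eList σ).flatMap fun e => [oI, sIx, r, hm δ ε sIx r].map (hm δ ε e)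

/-- A possible keeper. -/
def validR (r : Nat) : Bool :=
  ((hm δ ε r r == oI) || (hm δ ε r r == yI σ)) && (hm δ ε r (yI σ) == hm δ ε (yI σ) r) &&
  ((hm δ ε sIx r == hm δ ε r sIx) || (hm δ ε sIx r == hm δ ε (yI σ) (hm δ ε r sIx))) &&
  ((cqList δ ε σ).all fun c => ((eList σ).any fun e => hm δ ε sIx c == hm δ ε e (hm δ ε c sIx)) &&
    (eList σ).any fun e => hm δ ε r c == hm δ ε e (hm δ ε c r))

/-- A possible image by squares. -/
def sqOk (g u : Nat) : Bool :=
  (List.range 4).all fun k => !(hm δ ε g g == eI σ k) || (hm δ ε u u == eI σ (swk k))

/-- A possible pair of images by commutators. -/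
def comOk (g h u v : Nat) : Bool :=
  (List.range 4).all fun k => !(hm δ ε g h == hm δ ε (eI σ k) (hm δ ε h g)) ||
    (hm δ ε u v == hm δ ε (eI σ (swk k)) (hm δ ε v u))

/-- Independence modulo the four group. -/
def indep (a b : Nat) : Bool :=
  !((eList σ).contains a) && !((eList σ).contains b) && !((eList σ).contains (hm δ ε a b))

/-- The candidates for the images of the four generators. -/
def candList (r : Nat) : List (List Nat) :=
  ((rList δ ε σ r).filter fun a => sqOk δ ε σ kI a).flatMap fun a =>
  ((rList δ ε σ r).filter fun b => sqOk δ ε σ pI b && comOk δ ε σ kI pI a b && indep δ ε σ a b).flatMap fun b =>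
  ((cqList δ ε σ).filter fun c => sqOk δ ε σ sIx c && comOk δ ε σ kI sIx a c && comOk δ ε σ pI sIx b c).flatMap fun c =>
  ((cqList δ ε σ).filter fun e => sqOk δ ε σ r e && comOk δ ε σ kI r a e && comOk δ ε σ pI r b e &&
    comOk δ ε σ sIx r c e && indep δ ε σ c e).map fun e => [a, b, c, e]

/-- The first check. -/
def stageA : Bool :=
  (List.range 24).all fun g1 => !inQ8 g1 || (List.range 24).all fun g2 => !inQ8 g2 ||
    !validR δ ε σ (mk g1 g2 false true) ||
      (decide (rList δ ε σ (mk g1 g2 false true)).Nodup &&
        ((candList δ ε σ (mk g1 g2 false true)).isEmpty ||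
          (δ && ε && !σ && (rList δ ε σ (mk g1 g2 false true)).contains rI)))

/-- A product in the normal form. -/
def elt (E : Nat → Nat) (g : List Nat) (n : Nat) : Nat :=
  let p := fun (x : Nat) (j : Nat) => bif Nat.testBit n (j + 2) then hm δ ε x (g.getD j oI) else x
  p (p (p (p (E (n % 4)) 0) 1) 2) 3

end

theorem stageA_ok : ∀ δ ε σ : Bool, stageA δ ε σ = true := by decide +kernel

/-- The final product. -/
abbrev hh (i j : Nat) : Nat := hm true true i j

/-- The four generators. -/
def genList : List Nat := [kI, pI, sIx, rI]

/-- The extension of images to the centraliser of the four group. -/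
def fmap (im : List Nat) (x : Nat) : Nat :=
  elt true true (fun k => eI false (swk k)) im (t0List.idxOf x)

theorem t0_src : ((List.range 64).all fun n => elt true true (eI false) genList n == t0List.getD n oI) = true ∧
    t0List.length = 64 := by decide +kernel

theorem t0_complete : ((List.range 1152).all fun i => !(hh i (yI false) == hh (yI false) i) || t0List.contains i) = true := by
  decide +kernel

theorem t0_central : (t0List.all fun i => (hh i (yI false) == hh (yI false) i) && Nat.blt i 1152) = true := by
  decide +kernel

theorem inn_complete : (t0List.all fun c => innList.any fun t =>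
    (List.range 4).all fun j => (hh c (genList.getD j oI) == hh (t.getD j oI) c) && Nat.blt (t.getD j oI) 1152) = true := by
  decide +kernel

/-- The second check. -/
def stageB : Bool :=
  (candList true true false rI).all fun im =>
    !(innList.contains (im.map (fmap im))) || okList.any fun o => o.drop 2 == im

theorem stageB_ok : stageB = true := by decide +kernel

theorem ok_ok : (okList.all fun o => t0List.contains (o.getD 0 oI) && Nat.blt (o.getD 1 oI) 8 &&
    (List.range 4).all fun j => (hh (o.getD 0 oI) ((repList.getD (o.getD 1 oI) []).getD j oI) ==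
      hh (o.getD (j + 2) oI) (o.getD 0 oI)) && Nat.blt ((repList.getD (o.getD 1 oI) []).getD j oI) 1152 &&
      Nat.blt (o.getD (j + 2) oI) 1152) = true ∧ repList.getD 0 [] = imgList ∧ repList.length = 8 := by
  decide +kernel

/-- One step of a trajectory; `1152` stands for the exchanging element. -/
def stepOk (im : List Nat) (g u v : Nat) : Bool :=
  Nat.blt u 1152 && Nat.blt v 1152 &&
    bif g == 1152 then t0List.contains u && (v == fmap im u) else Nat.blt g 1152 && (hh g u == hh v g)

/-- A trajectory under a word. -/
def trajOk (im : List Nat) : List Nat → List Nat → Bool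
  | [], [_] => true
  | g :: w, u :: v :: l => stepOk im g u v && trajOk im w (v :: l)
  | _, _ => false

/-- A contradiction certificate. -/
def killOk (im : List Nat) (c : List Nat × List (List Nat)) : Bool :=
  (c.2.all fun tr => trajOk im c.1 tr) &&
  (match c.2 with
    | tr :: _ => (tr.head? == some zI) && (tr.getLast? == some zI)
    | [] => false) &&
  (List.range 1152).all fun h => c.2.any fun tr => !(hh h (tr.headD oI) == hh (tr.getLastD oI) h)

theorem kill_ok : ((List.range 7).all fun k => killOk (repList.getD (k + 1) []) (killList.getD k ([], []))) = true := by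
  decide +kernel

theorem img_ok : ((List.range 64).all fun n => fmap imgList (fmap imgList (t0List.getD n oI)) == t0List.getD n oI) = true ∧
    (t0List.all fun c => !((genList.all fun g => hh c g == hh g c) && fmap imgList c == c) || (c == oI) || (c == zyI false)) = true := by
  decide +kernel

end Cfsg.Agent.U43Type
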