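import Cfsg.Agent.U43Type.Model
import Cfsg.Agent.U43Type.Stage

/-!
The exchanging element in normal form.
-/

set_option autoImplicit false
set_option maxRecDepth 100000
set_option linter.all false
set_option maxHeartbeats 1000000

namespace Cfsg.Agent.U43Type

theorem cq_facts : ∀ δ ε σ : Bool, ((List.range 1152).all fun i =>
    (inQ8 (c1 i) && inQ8 (c2 i) && !cs i && !cd i && (hm δ ε i (yI σ) == hm δ ε (yI σ) i)) ==
      (cqList δ ε σ).contains i) = true ∧
    ((cqList δ ε σ).all fun c => Nat.blt c 1152 && ((hm δ ε c c == oI) || (hm δ ε c c == zI))) = true ∧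
    (cqList δ ε σ).length = 16 := by
  decide +kernel

theorem q8_neg : ∀ a < 24, inQ8 (sm a sZ) = inQ8 a := by decide +kernel

theorem e_indep : ∀ δ ε σ : Bool, ((List.range 24).all fun g1 => (List.range 24).all fun g2 =>
    !((eList σ).contains (mk g1 g2 false true)) && !((eList σ).contains (hm δ ε sIx (mk g1 g2 false true)))) = true ∧
    ([kI, pI, sIx, hm δ ε kI pI].all fun g => !((eList σ).contains g)) = true ∧
    ([oI, zI, kI, pI, kpI, sIx, yI σ, zyI σ, rI].all fun g => Nat.blt g 1152) = true := by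
  decide +kernel

variable {G : Type*} [Group G]

/-- The numbered centraliser after the first stage. -/
structure Base (z : G) where
  φ : Nat → G
  φ_mul : ∀ i < 1152, ∀ j < 1152, hh i j < 1152 ∧ φ (hh i j) = φ i * φ j
  φ_inj : ∀ i < 1152, ∀ j < 1152, φ i = φ j → i = j
  φ_surj : ∀ x, x * z = z * x → ∃ i < 1152, φ i = x
  φ_cen : ∀ i < 1152, φ i * z = z * φ i
  φ_one : φ oI = 1
  φ_z : φ zI = z
  φ_zy : φ (zyI false) = z * φ (yI false)
  zsq : z * z = 1
  zne : z ≠ 1

namespace Model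

variable {z : G} (M : Model z)

theorem lt_mk {a b : Nat} (ha : a < 24) (hb : b < 24) (p q : Bool) : U43Type.mk a b p q < 1152 :=
  (mk_decode a ha b hb p q).1

theorem φ_oI : M.φ oI = 1 := by rw [oI, M.φ_pair _ (by decide) _ (by decide), M.C.one1, M.C.one2, one_mul]

theorem φ_zI : M.φ zI = z := by
  rw [zI, M.φ_pair _ (by decide) _ (by decide), M.C.one2, mul_one]
  simp only [M.C.zz1]

theorem φ_yI : M.φ (yI M.σ) = M.toPair.Y := M.φ_pair _ (by decide) _ (yk_facts M.σ).1

theorem φ_zyI : M.φ (zyI M.σ) = z * M.toPair.Y := by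
  rw [zyI, M.φ_pair _ (Coords.lt_sm (by decide) (by decide)) _ (yk_facts M.σ).1, M.C.mul1 _ (by decide) _ (by decide)]
  simp only [M.C.zz1]
  rw [mul_assoc]
  rfl

theorem lt_small : ∀ g ∈ [oI, zI, kI, pI, kpI, sIx, yI M.σ, zyI M.σ, rI], g < 1152 := fun g hg =>
  Nat.ble_eq.mp (List.all_eq_true.1 (e_indep M.δ M.ε M.σ).2.2 g hg)

theorem mem_eList {e : Nat} (he : e ∈ eList M.σ) : e < 1152 ∧ M.toPair.inE (M.φ e) := by
  simp only [eList, List.mem_cons, List.not_mem_nil, or_false] at he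
  rcases he with rfl | rfl | rfl | rfl
  · exact ⟨M.lt_small _ (by simp), by
      rw [M.φ_oI]; exact (M.toPair.mem_ESub 1).1 M.toPair.ESub.one_mem⟩
  · exact ⟨M.lt_small _ (by simp), by rw [M.φ_zI]; exact M.toPair.E_z⟩
  · exact ⟨M.lt_small _ (by simp), by rw [M.φ_yI]; exact M.toPair.E_Y⟩
  · exact ⟨M.lt_small _ (by simp), by
      rw [M.φ_zyI]
      exact (M.toPair.mem_ESub _).1 (M.toPair.ESub.mul_mem ((M.toPair.mem_ESub _).2 M.toPair.E_z)
        ((M.toPair.mem_ESub _).2 M.toPair.E_Y))⟩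

theorem inE_list {x : G} (hx : M.toPair.inE x) : ∃ e ∈ eList M.σ, M.φ e = x := by
  rcases M.toPair.E_cases hx with rfl | rfl | rfl | rfl
  · exact ⟨oI, by simp [eList], M.φ_oI⟩
  · exact ⟨zI, by simp [eList], M.φ_zI⟩
  · exact ⟨yI M.σ, by simp [eList], M.φ_yI⟩
  · exact ⟨zyI M.σ, by simp [eList], M.φ_zyI⟩

/-- The exchange on the four group. -/
theorem t_eI {k : Nat} (hk : k < 4) :
    M.t * M.φ (eI M.σ k) * M.t⁻¹ = M.φ (eI M.σ (swk k)) ∧ eI M.σ k ∈ eList M.σ ∧ eI M.σ (swk k) ∈ eList M.σ := by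
  interval_cases k <;> simp only [eI, eList, swk, List.getD_cons_zero, List.getD_cons_succ, List.mem_cons,
    List.not_mem_nil, or_false, true_or, or_true, and_true]
  · rw [M.φ_oI]; group
  · rw [M.φ_zI, M.φ_yI]; exact M.toPair.tz
  · rw [M.φ_zI, M.φ_yI]; exact M.toPair.tY
  · rw [M.φ_zyI]
    calc M.t * (z * M.toPair.Y) * M.t⁻¹ = M.t * z * M.t⁻¹ * (M.t * M.toPair.Y * M.t⁻¹) := by group
      _ = M.toPair.Y * z := by rw [M.toPair.tz, M.toPair.tY]
      _ = _ := M.toPair.commYz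

theorem cq_iff (x : G) : (x ∈ M.QG ∧ x * M.toPair.Y = M.toPair.Y * x) ↔
    ∃ c ∈ cqList M.δ M.ε M.σ, c < 1152 ∧ M.φ c = x := by
  obtain ⟨h1, h2, -⟩ := cq_facts M.δ M.ε M.σ
  have hy := M.lt_small (yI M.σ) (by simp)
  constructor
  · rintro ⟨hx, hY⟩
    obtain ⟨a, ha, b, hb, qa, qb, rfl⟩ := (M.memQ x).1 hx
    obtain ⟨hi, e1, e2, e3⟩ := mk_decode a ha b hb false false
    refine ⟨_, ?_, hi, M.φ_pair a ha b hb⟩
    have hcom : hm M.δ M.ε (U43Type.mk a b false false) (yI M.σ) = hm M.δ M.ε (yI M.σ) (U43Type.mk a b false false) :=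
      M.φ_inj _ (M.φ_mul _ hi _ hy).1 _ (M.φ_mul _ hy _ hi).1 (by
        rw [(M.φ_mul _ hi _ hy).2, (M.φ_mul _ hy _ hi).2, M.φ_pair a ha b hb, M.φ_yI, hY])
    have h := List.all_eq_true.1 h1 _ (List.mem_range.2 hi)
    rw [beq_iff_eq] at h
    refine List.contains_iff_mem.1 ?_
    rw [← h]
    rcases e3 with ⟨p, q⟩ | ⟨p, q⟩ <;> simp [p, q, e1, e2, hcom, qa, qb, q8_neg a ha, q8_neg b hb]
  · rintro ⟨c, hc, hlt, rfl⟩
    have h := List.all_eq_true.1 h1 c (List.mem_range.2 hlt)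
    rw [beq_iff_eq, List.contains_iff_mem.2 hc] at h
    simp only [Bool.and_eq_true, Bool.not_eq_true', beq_iff_eq] at h
    obtain ⟨⟨⟨⟨qa, qb⟩, e1⟩, e2⟩, hcom⟩ := h
    obtain ⟨la, lb, em, -⟩ := mk_encode c hlt
    rw [e1, e2] at em
    refine ⟨?_, ?_⟩
    · rw [← em, M.φ_pair _ la _ lb]
      exact M.inQ_pair la lb qa qb
    · rw [← M.φ_yI, ← (M.φ_mul _ hlt _ hy).2, ← (M.φ_mul _ hy _ hlt).2, hcom]

theorem R_iff (x : G) : M.toPair.inR x ↔ ∃ c ∈ cqList M.δ M.ε M.σ, x = M.t * M.φ c * M.t⁻¹ := by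
  constructor
  · intro h
    obtain ⟨c, hc, -, e⟩ := (M.cq_iff _).1 h
    exact ⟨c, hc, by rw [e]; group⟩
  · rintro ⟨c, hc, rfl⟩
    have hlt : c < 1152 := by
      have := List.all_eq_true.1 (cq_facts M.δ M.ε M.σ).2.1 c hc
      simp only [Bool.and_eq_true] at this
      exact Nat.ble_eq.mp this.1
    have h := (M.cq_iff _).2 ⟨c, hc, hlt, rfl⟩
    unfold Pair.inR
    rw [show M.t⁻¹ * (M.t * M.φ c * M.t⁻¹) * M.t = M.φ c by group]
    exact h

theorem eq_idx {i j k l : Nat} (hi : i < 1152) (hj : j < 1152) (hk : k < 1152) (hl : l < 1152)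
    (h : M.φ i * M.φ j = M.φ k * M.φ l) : hm M.δ M.ε i j = hm M.δ M.ε k l :=
  M.φ_inj _ (M.φ_mul i hi j hj).1 _ (M.φ_mul k hk l hl).1 (by
    rw [(M.φ_mul i hi j hj).2, (M.φ_mul k hk l hl).2, h])

theorem valid {r : Nat} (hr : r < 1152) (hR : M.toPair.inR (M.φ r)) : validR M.δ M.ε M.σ r = true := by
  have hy := M.lt_small (yI M.σ) (by simp)
  have hs := M.lt_small sIx (by simp)
  have ho := M.lt_small oI (by simp)
  have hsR : M.toPair.inR (M.φ sIx) := by rw [M.φ_s]; exact M.s_R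
  obtain ⟨c, hc, hcc⟩ := (M.R_iff _).1 hR
  obtain ⟨c', hc', hcc'⟩ := (M.R_iff _).1 hsR
  have cfacts := List.all_eq_true.1 (cq_facts M.δ M.ε M.σ).2.1 c hc
  simp only [Bool.and_eq_true, Bool.or_eq_true, beq_iff_eq] at cfacts
  have clt : c < 1152 := Nat.ble_eq.mp cfacts.1
  have csq : M.φ c * M.φ c = 1 ∨ M.φ c * M.φ c = z := by
    rw [← (M.φ_mul c clt c clt).2]
    rcases cfacts.2 with e | e <;> rw [e]
    · exact Or.inl M.φ_oI
    · exact Or.inr M.φ_zI
  simp only [validR, Bool.and_eq_true, Bool.or_eq_true, beq_iff_eq, List.all_eq_true, List.any_eq_true]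
  refine ⟨⟨⟨?_, ?_⟩, ?_⟩, ?_⟩
  · have h1 : M.φ r * M.φ r = M.t * (M.φ c * M.φ c) * M.t⁻¹ := by rw [hcc]; group
    rcases csq with e | e <;> rw [e] at h1
    · left
      refine M.φ_inj _ (M.φ_mul r hr r hr).1 _ ho ?_
      rw [(M.φ_mul r hr r hr).2, h1, M.φ_oI]; group
    · right
      refine M.φ_inj _ (M.φ_mul r hr r hr).1 _ hy ?_
      rw [(M.φ_mul r hr r hr).2, h1, M.φ_yI]; exact M.toPair.tz
  · exact M.eq_idx hr hy hy hr (by rw [M.φ_yI]; exact M.toPair.R_Y hR)
  · rcases M.comm_sign ((M.R_iff _).1 hsR |> fun _ => hsR.1) hR.1 with e | e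
    · left
      refine M.eq_idx hs hr hr hs ?_
      calc M.φ sIx * M.φ r = M.t * (M.t⁻¹ * M.φ sIx * M.t * (M.t⁻¹ * M.φ r * M.t)) * M.t⁻¹ := by group
        _ = _ := by rw [e]; group
    · right
      refine M.eq_idx hs hr hy (M.φ_mul r hr _ hs).1 ?_
      rw [(M.φ_mul r hr _ hs).2, M.φ_yI]
      calc M.φ sIx * M.φ r = M.t * (M.t⁻¹ * M.φ sIx * M.t * (M.t⁻¹ * M.φ r * M.t)) * M.t⁻¹ := by group
        _ = M.t * z * M.t⁻¹ * (M.φ r * M.φ sIx) := by rw [e]; group
        _ = _ := by rw [M.toPair.tz]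
  · intro u hu
    have hult : u < 1152 := by
      have := List.all_eq_true.1 (cq_facts M.δ M.ε M.σ).2.1 u hu
      simp only [Bool.and_eq_true] at this
      exact Nat.ble_eq.mp this.1
    obtain ⟨hq, hqY⟩ := (M.cq_iff _).2 ⟨u, hu, hult, rfl⟩
    have key : ∀ x < 1152, M.toPair.inR (M.φ x) →
        ∃ e ∈ eList M.σ, hm M.δ M.ε x u = hm M.δ M.ε e (hm M.δ M.ε u x) := by
      intro x hx hxR
      obtain ⟨e, he, ee⟩ := M.inE_list (M.toPair.R_comm hxR hq hqY)
      refine ⟨e, he, M.eq_idx hx hult (M.mem_eList he).1 (M.φ_mul u hult x hx).1 ?_⟩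
      rw [(M.φ_mul u hult x hx).2, ee]; group
    exact ⟨key _ hs hsR, key r hr hR⟩

theorem rList_mem {r i : Nat} (hr : r < 1152) (hR : M.toPair.inR (M.φ r)) (hi : i ∈ rList M.δ M.ε M.σ r) :
    i < 1152 ∧ M.toPair.inR (M.φ i) := by
  simp only [rList, List.mem_flatMap, List.mem_map] at hi
  obtain ⟨e, he, u, hu, rfl⟩ := hi
  have hs := M.lt_small sIx (by simp)
  have hsR : M.toPair.inR (M.φ sIx) := by rw [M.φ_s]; exact M.s_R
  have hu' : u < 1152 ∧ M.toPair.inR (M.φ u) := by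
    simp only [List.mem_cons, List.not_mem_nil, or_false] at hu
    rcases hu with rfl | rfl | rfl | rfl
    · refine ⟨M.lt_small _ (by simp), ?_⟩
      rw [M.φ_oI]
      unfold Pair.inR
      simp [M.QG.one_mem]
    · exact ⟨hs, hsR⟩
    · exact ⟨hr, hR⟩
    · exact ⟨(M.φ_mul _ hs r hr).1, by rw [(M.φ_mul _ hs r hr).2]; exact M.toPair.R_mul hsR hR⟩
  refine ⟨(M.φ_mul e (M.mem_eList he).1 u hu'.1).1, ?_⟩
  rw [(M.φ_mul e (M.mem_eList he).1 u hu'.1).2]
  refine M.toPair.R_mul ?_ hu'.2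
  obtain ⟨he1, he2⟩ := (M.mem_eList he).2
  refine ⟨he2, ?_⟩
  calc M.t⁻¹ * M.φ e * M.t * M.toPair.Y = M.t⁻¹ * (M.φ e * (M.t * M.toPair.Y * M.t⁻¹)) * M.t := by group
    _ = M.t⁻¹ * (M.φ e * z) * M.t := by simp only [M.toPair.tY]
    _ = M.t⁻¹ * (z * M.φ e) * M.t := by rw [M.Q_comm he1]
    _ = M.t⁻¹ * (M.t * M.toPair.Y * M.t⁻¹ * M.φ e) * M.t := by simp only [M.toPair.tY]
    _ = _ := by group

theorem R_complete {r : Nat} (hr : r < 1152) (hR : M.toPair.inR (M.φ r))
    (hnd : (rList M.δ M.ε M.σ r).Nodup) {x : G} (hx : M.toPair.inR x) :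
    ∃ i ∈ rList M.δ M.ε M.σ r, M.φ i = x := by
  classical
  let A := (cqList M.δ M.ε M.σ).toFinset.image fun c => M.t * M.φ c * M.t⁻¹
  let B := (rList M.δ M.ε M.σ r).toFinset.image M.φ
  have hA : A.card ≤ 16 := Finset.card_image_le.trans ((List.toFinset_card_le _).trans (cq_facts _ _ _).2.2.le)
  have hB : B.card = 16 := by
    rw [Finset.card_image_of_injOn, List.toFinset_card_of_nodup hnd]
    · simp [rList, eList]
    · intro a ha b hb h
      exact M.φ_inj a (M.rList_mem hr hR (List.mem_toFinset.1 ha)).1 b (M.rList_mem hr hR (List.mem_toFinset.1 hb)).1 h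
  have hBA : B ⊆ A := by
    intro u hu
    obtain ⟨i, hi, rfl⟩ := Finset.mem_image.1 hu
    obtain ⟨c, hc, e⟩ := (M.R_iff _).1 (M.rList_mem hr hR (List.mem_toFinset.1 hi)).2
    exact Finset.mem_image.2 ⟨c, List.mem_toFinset.2 hc, e.symm⟩
  have hBA' : B = A := Finset.eq_of_subset_of_card_le hBA (by omega)
  obtain ⟨c, hc, e⟩ := (M.R_iff x).1 hx
  have : x ∈ B := hBA' ▸ Finset.mem_image.2 ⟨c, List.mem_toFinset.2 hc, e.symm⟩
  obtain ⟨i, hi, e'⟩ := Finset.mem_image.1 this
  exact ⟨i, List.mem_toFinset.1 hi, e'⟩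

theorem images {r : Nat} (hr : r < 1152) (hR : M.toPair.inR (M.φ r)) (hnd : (rList M.δ M.ε M.σ r).Nodup)
    (hind : (eList M.σ).contains r = false ∧ (eList M.σ).contains (hm M.δ M.ε sIx r) = false) :
    ∃ im ∈ candList M.δ M.ε M.σ r, ∀ j < 4,
      im.getD j oI < 1152 ∧ M.t * M.φ ([kI, pI, sIx, r].getD j oI) * M.t⁻¹ = M.φ (im.getD j oI) := by
  have hk := M.lt_small kI (by simp)
  have hp := M.lt_small pI (by simp)
  have hs := M.lt_small sIx (by simp)
  have hR' : ∀ g < 1152, (cqList M.δ M.ε M.σ).contains g = true →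
      ∃ a ∈ rList M.δ M.ε M.σ r, a < 1152 ∧ M.t * M.φ g * M.t⁻¹ = M.φ a := by
    intro g hg hc
    obtain ⟨a, ha, e⟩ := M.R_complete hr hR hnd ((M.R_iff _).2 ⟨g, List.contains_iff_mem.1 hc, rfl⟩)
    exact ⟨a, ha, (M.rList_mem hr hR ha).1, e.symm⟩
  have tt : M.t * M.t * z = z * (M.t * M.t) ∧ M.t * M.t * M.toPair.Y = M.toPair.Y * (M.t * M.t) := by
    constructor
    · calc M.t * M.t * z = M.t * (M.t * z * M.t⁻¹) * M.t := by group
        _ = M.t * M.toPair.Y * M.t⁻¹ * (M.t * M.t) := by rw [M.toPair.tz]; group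
        _ = _ := by rw [M.toPair.tY]
    · calc M.t * M.t * M.toPair.Y = M.t * (M.t * M.toPair.Y * M.t⁻¹) * M.t := by group
        _ = M.t * z * M.t⁻¹ * (M.t * M.t) := by rw [M.toPair.tY]; group
        _ = _ := by rw [M.toPair.tz]
  have hQ' : ∀ g < 1152, M.toPair.inR (M.φ g) →
      ∃ a ∈ cqList M.δ M.ε M.σ, a < 1152 ∧ M.t * M.φ g * M.t⁻¹ = M.φ a := by
    intro g hg hgR
    obtain ⟨a, ha, hlt, e⟩ := (M.cq_iff (M.t * M.t * (M.t⁻¹ * M.φ g * M.t) * (M.t * M.t)⁻¹)).1
      ⟨M.qnormal _ tt.1 _ hgR.1, by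
        have c1 : Commute (M.t * M.t) M.toPair.Y := tt.2
        exact ((Commute.mul_left (Commute.mul_left c1 hgR.2) c1.inv_left)).eq⟩
    exact ⟨a, ha, hlt, by rw [e]; group⟩
  have hcq : (cqList M.δ M.ε M.σ).contains kI = true ∧ (cqList M.δ M.ε M.σ).contains pI = true := by
    have : ∀ δ ε σ : Bool, (cqList δ ε σ).contains kI = true ∧ (cqList δ ε σ).contains pI = true := by decide +kernel
    exact this _ _ _
  obtain ⟨a, ha, la, ea⟩ := hR' kI hk hcq.1
  obtain ⟨b, hb, lb, eb⟩ := hR' pI hp hcq.2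
  obtain ⟨c, hc, lc, ec⟩ := hQ' sIx hs (by rw [M.φ_s]; exact M.s_R)
  obtain ⟨e, he, le, ee⟩ := hQ' r hr hR
  have conjm : ∀ g h u v, g < 1152 → h < 1152 → u < 1152 → v < 1152 → M.t * M.φ g * M.t⁻¹ = M.φ u →
      M.t * M.φ h * M.t⁻¹ = M.φ v → M.t * M.φ (hm M.δ M.ε g h) * M.t⁻¹ = M.φ (hm M.δ M.ε u v) := by
    intro g h u v hg hh hu hv e1 e2
    rw [(M.φ_mul g hg h hh).2, (M.φ_mul u hu v hv).2, ← e1, ← e2]; group
  have sq : ∀ g u, g < 1152 → u < 1152 → M.t * M.φ g * M.t⁻¹ = M.φ u → sqOk M.δ M.ε M.σ g u = true := by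
    intro g u hg hu e1
    simp only [sqOk, List.all_eq_true, List.mem_range, Bool.or_eq_true, Bool.not_eq_true', beq_eq_false_iff_ne, beq_iff_eq]
    intro k hk
    refine or_iff_not_imp_left.2 fun h => ?_
    rw [not_ne_iff] at h
    refine M.φ_inj _ (M.φ_mul u hu u hu).1 _ (M.mem_eList (M.t_eI hk).2.2).1 ?_
    rw [← conjm g g u u hg hg hu hu e1 e1, h, (M.t_eI hk).1]
  have cm : ∀ g h u v, g < 1152 → h < 1152 → u < 1152 → v < 1152 → M.t * M.φ g * M.t⁻¹ = M.φ u →
      M.t * M.φ h * M.t⁻¹ = M.φ v → comOk M.δ M.ε M.σ g h u v = true := by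
    intro g h u v hg hh hu hv e1 e2
    simp only [comOk, List.all_eq_true, List.mem_range, Bool.or_eq_true, Bool.not_eq_true', beq_eq_false_iff_ne, beq_iff_eq]
    intro k hk
    refine or_iff_not_imp_left.2 fun h' => ?_
    rw [not_ne_iff] at h'
    have l1 := (M.mem_eList (M.t_eI hk).2.1).1
    have l2 := (M.mem_eList (M.t_eI hk).2.2).1
    have lvu := (M.φ_mul v hv u hu).1
    refine M.φ_inj _ (M.φ_mul u hu v hv).1 _ (M.φ_mul _ l2 _ lvu).1 ?_
    rw [← conjm g h u v hg hh hu hv e1 e2, h',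
      ← conjm _ _ _ _ l1 (M.φ_mul h hh g hg).1 l2 lvu (M.t_eI hk).1 (conjm h g v u hh hg hv hu e2 e1)]
  have nE : ∀ g u, g < 1152 → u < 1152 → M.t * M.φ g * M.t⁻¹ = M.φ u → (eList M.σ).contains g = false →
      (eList M.σ).contains u = false := by
    intro g u hg hu e1 hn
    by_contra h
    rw [Bool.not_eq_false, List.contains_iff_mem] at h
    have : ∃ k < 4, u = eI M.σ (swk k) := by
      simp only [eList, List.mem_cons, List.not_mem_nil, or_false] at h
      rcases h with h | h | h | h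
      · exact ⟨0, by norm_num, h⟩
      · exact ⟨2, by norm_num, h⟩
      · exact ⟨1, by norm_num, h⟩
      · exact ⟨3, by norm_num, h⟩
    obtain ⟨k, hk, rfl⟩ := this
    rw [← (M.t_eI hk).1] at e1
    have := M.φ_inj g hg _ (M.mem_eList (M.t_eI hk).2.1).1 (mul_left_cancel (mul_right_cancel e1))
    rw [this, List.contains_iff_mem.2 (M.t_eI hk).2.1] at hn
    exact absurd hn (by simp)
  have ind0 := List.all_eq_true.1 (e_indep M.δ M.ε M.σ).2.1
  have nk : (eList M.σ).contains kI = false := by simpa using ind0 kI (by simp)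
  have np : (eList M.σ).contains pI = false := by simpa using ind0 pI (by simp)
  have nkp : (eList M.σ).contains (hm M.δ M.ε kI pI) = false := by simpa using ind0 _ (by simp)
  have ns : (eList M.σ).contains sIx = false := by simpa using ind0 sIx (by simp)
  have i1 : indep M.δ M.ε M.σ a b = true := by
    simp only [indep, Bool.and_eq_true, Bool.not_eq_true']
    exact ⟨⟨nE _ _ hk la ea nk, nE _ _ hp lb eb np⟩,
      nE _ _ (M.φ_mul _ hk _ hp).1 (M.φ_mul _ la _ lb).1 (conjm _ _ _ _ hk hp la lb ea eb) nkp⟩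
  have i2 : indep M.δ M.ε M.σ c e = true := by
    simp only [indep, Bool.and_eq_true, Bool.not_eq_true']
    exact ⟨⟨nE _ _ hs lc ec ns, nE _ _ hr le ee hind.1⟩,
      nE _ _ (M.φ_mul _ hs _ hr).1 (M.φ_mul _ lc _ le).1 (conjm _ _ _ _ hs hr lc le ec ee) hind.2⟩
  refine ⟨[a, b, c, e], ?_, ?_⟩
  · simp only [candList, List.mem_flatMap, List.mem_filter, List.mem_map, Bool.and_eq_true]
    exact ⟨a, ⟨ha, sq _ _ hk la ea⟩, b, ⟨hb, ⟨sq _ _ hp lb eb, cm _ _ _ _ hk hp la lb ea eb⟩, i1⟩, c,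
      ⟨hc, ⟨sq _ _ hs lc ec, cm _ _ _ _ hk hs la lc ea ec⟩, cm _ _ _ _ hp hs lb lc eb ec⟩, e,
      ⟨he, ⟨⟨⟨sq _ _ hr le ee, cm _ _ _ _ hk hr la le ea ee⟩, cm _ _ _ _ hp hr lb le eb ee⟩,
        cm _ _ _ _ hs hr lc le ec ee⟩, i2⟩, rfl⟩
  · intro j hj
    interval_cases j
    · exact ⟨la, ea⟩
    · exact ⟨lb, eb⟩
    · exact ⟨lc, ec⟩
    · exact ⟨le, ee⟩

include M in
/-- The result of the first stage. -/
theorem exists_base : ∃ B : Base z, ∃ t : G, t * z * t⁻¹ = B.φ (yI false) ∧ t * B.φ (yI false) * t⁻¹ = z ∧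
    ∃ im ∈ candList true true false rI, ∀ j < 4,
      im.getD j oI < 1152 ∧ t * B.φ (genList.getD j oI) * t⁻¹ = B.φ (im.getD j oI) := by
  obtain ⟨g1, hg1, g2, hg2, q1, q2, hR⟩ := M.keeper
  have hr := lt_mk hg1 hg2 false true
  have hA := List.all_eq_true.1 (stageA_ok M.δ M.ε M.σ) g1 (List.mem_range.2 hg1)
  simp only [q1, Bool.not_true, Bool.false_or] at hA
  have hA' := List.all_eq_true.1 hA g2 (List.mem_range.2 hg2)
  simp only [q2, Bool.not_true, Bool.false_or, M.valid hr hR, Bool.and_eq_true, decide_eq_true_eq] at hA'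
  obtain ⟨hnd, hcase⟩ := hA'
  have hi := List.all_eq_true.1 (List.all_eq_true.1 (e_indep M.δ M.ε M.σ).1 g1 (List.mem_range.2 hg1)) g2 (List.mem_range.2 hg2)
  simp only [Bool.and_eq_true, Bool.not_eq_true'] at hi
  obtain ⟨im0, him0, -⟩ := M.images hr hR hnd hi
  have hne : (candList M.δ M.ε M.σ (U43Type.mk g1 g2 false true)).isEmpty = false := by
    rw [List.isEmpty_eq_false_iff]; exact List.ne_nil_of_mem him0
  simp only [hne, Bool.false_or, Bool.and_eq_true, Bool.or_eq_true, Bool.false_eq_true, false_or, Bool.not_eq_true'] at hcase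
  obtain ⟨⟨⟨hδ, hε⟩, hσ⟩, hrI⟩ := hcase
  have hR0 := M.rList_mem hr hR (List.contains_iff_mem.1 hrI)
  have hv := M.valid hR0.1 hR0.2
  have hnd0 : (rList M.δ M.ε M.σ rI).Nodup := by
    rw [hδ, hε, hσ]; decide +kernel
  obtain ⟨im, him, hact⟩ := M.images hR0.1 hR0.2 hnd0 (by rw [hδ, hε, hσ]; decide +kernel)
  have hmul := M.φ_mul
  rw [hδ, hε] at him hmul
  rw [hσ] at him
  have hY : M.φ (yI false) = M.toPair.Y := by rw [← hσ]; exact M.φ_yI
  refine ⟨{ φ := M.φ, φ_mul := hmul, φ_inj := M.φ_inj, φ_surj := M.φ_surj, φ_cen := M.φ_cen, φ_one := M.φ_oI,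
            φ_z := M.φ_zI, φ_zy := by rw [hY, ← hσ]; exact M.φ_zyI, zsq := M.zsq, zne := M.zne }, M.t, ?_, ?_, im, him, hact⟩
  · show M.t * z * M.t⁻¹ = M.φ (yI false)
    rw [hY]; exact M.toPair.tz
  · show M.t * M.φ (yI false) * M.t⁻¹ = z
    rw [hY]; exact M.toPair.tY

end Model

/-- The normal form of the group. -/
structure Std (z : G) extends Base z where
  t : G
  t_sq : t * t = 1
  t_act : ∀ x ∈ t0List, fmap imgList x < 1152 ∧ t * φ x * t = φ (fmap imgList x)

namespace Base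

variable {z : G} (B : Base z)

/-- The conjugation on the centraliser of the four group from the images of its generators. -/
theorem act {t : G} {im : List Nat} (tz : t * z * t⁻¹ = B.φ (yI false)) (ty : t * B.φ (yI false) * t⁻¹ = z)
    (h : ∀ j < 4, im.getD j oI < 1152 ∧ t * B.φ (genList.getD j oI) * t⁻¹ = B.φ (im.getD j oI))
    {x : Nat} (hx : x ∈ t0List) : fmap im x < 1152 ∧ t * B.φ x * t⁻¹ = B.φ (fmap im x) := by
  have hn : t0List.idxOf x < 64 := t0_src.2 ▸ List.idxOf_lt_length_iff.2 hx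
  have he := List.all_eq_true.1 t0_src.1 _ (List.mem_range.2 hn)
  rw [beq_iff_eq, List.getD_eq_getElem _ _ (t0_src.2.symm ▸ hn), List.getElem_idxOf] at he
  obtain ⟨n, hnn⟩ : ∃ n, n = t0List.idxOf x := ⟨_, rfl⟩
  rw [← hnn] at he hn
  rw [fmap, ← hnn]
  nth_rw 1 [← he]
  have hsmall : ∀ g ∈ [oI, zI, yI false, zyI false, kI, pI, sIx, rI], g < 1152 := by decide +kernel
  have e0 : ∀ k < 4, eI false k < 1152 ∧ eI false (swk k) < 1152 ∧
      t * B.φ (eI false k) * t⁻¹ = B.φ (eI false (swk k)) := by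
    intro k hk
    interval_cases k <;> refine ⟨hsmall _ (by simp [eI, eList, swk]), hsmall _ (by simp [eI, eList, swk]), ?_⟩ <;>
      simp only [eI, eList, swk, List.getD_cons_zero, List.getD_cons_succ]
    · rw [B.φ_one]; group
    · rw [B.φ_z, tz]
    · rw [B.φ_z, ty]
    · rw [B.φ_zy]
      calc t * (z * B.φ (yI false)) * t⁻¹ = t * z * t⁻¹ * (t * B.φ (yI false) * t⁻¹) := by group
        _ = B.φ (yI false) * z := by rw [tz, ty]
        _ = _ := B.φ_cen _ (hsmall _ (by simp))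
  have step : ∀ u v j, j < 4 → (u < 1152 ∧ v < 1152 ∧ t * B.φ u * t⁻¹ = B.φ v) →
      ((bif Nat.testBit n (j + 2) then hm true true u (genList.getD j oI) else u) < 1152 ∧
      (bif Nat.testBit n (j + 2) then hm true true v (im.getD j oI) else v) < 1152 ∧
        t * B.φ (bif Nat.testBit n (j + 2) then hm true true u (genList.getD j oI) else u) * t⁻¹ =
          B.φ (bif Nat.testBit n (j + 2) then hm true true v (im.getD j oI) else v)) := by
    rintro u v j hj ⟨lu, lv, euv⟩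
    cases Nat.testBit n (j + 2)
    · exact ⟨lu, lv, euv⟩
    · have lg : genList.getD j oI < 1152 := hsmall _ (by interval_cases j <;> simp [genList])
      obtain ⟨li, ei⟩ := h j hj
      refine ⟨(B.φ_mul u lu _ lg).1, (B.φ_mul v lv _ li).1, ?_⟩
      simp only [cond_true]
      rw [show hm true true u (genList.getD j oI) = hh u (genList.getD j oI) from rfl, (B.φ_mul u lu _ lg).2,
        show hm true true v (im.getD j oI) = hh v (im.getD j oI) from rfl, (B.φ_mul v lv _ li).2, ← euv, ← ei]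
      group
  have hfin := step _ _ 3 (by norm_num) (step _ _ 2 (by norm_num) (step _ _ 1 (by norm_num)
    (step _ _ 0 (by norm_num) (e0 (n % 4) (Nat.mod_lt _ (by norm_num))))))
  exact ⟨hfin.2.1, hfin.2.2⟩

theorem mem_t0 {i : Nat} (hi : i < 1152) (h : B.φ i * B.φ (yI false) = B.φ (yI false) * B.φ i) : i ∈ t0List := by
  have hy : yI false < 1152 := by decide +kernel
  have e : hh i (yI false) = hh (yI false) i :=
    B.φ_inj _ (B.φ_mul i hi _ hy).1 _ (B.φ_mul _ hy i hi).1 (by rw [(B.φ_mul i hi _ hy).2, (B.φ_mul _ hy i hi).2, h])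
  have h' := List.all_eq_true.1 t0_complete i (List.mem_range.2 hi)
  simpa [e, List.contains_iff_mem] using h'

theorem t0_props {c : Nat} (hc : c ∈ t0List) :
    c < 1152 ∧ B.φ c * B.φ (yI false) = B.φ (yI false) * B.φ c := by
  have h := List.all_eq_true.1 t0_central c hc
  simp only [Bool.and_eq_true, beq_iff_eq] at h
  have hy : yI false < 1152 := by decide +kernel
  have hlt : c < 1152 := Nat.ble_eq.mp h.2
  exact ⟨hlt, by rw [← (B.φ_mul c hlt _ hy).2, ← (B.φ_mul _ hy c hlt).2, h.1]⟩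

theorem traj {t : G} {im : List Nat} (tz : t * z * t⁻¹ = B.φ (yI false)) (ty : t * B.φ (yI false) * t⁻¹ = z)
    (h : ∀ j < 4, im.getD j oI < 1152 ∧ t * B.φ (genList.getD j oI) * t⁻¹ = B.φ (im.getD j oI)) :
    ∀ w : List Nat, ∃ W : G, ∀ tr : List Nat, trajOk im w tr = true →
      W * B.φ (tr.headD oI) = B.φ (tr.getLastD oI) * W := by
  intro w
  induction w with
  | nil =>
    refine ⟨1, fun tr htr => ?_⟩
    match tr, htr with
    | [u], _ => simp
  | cons g w ih =>
    obtain ⟨W, hW⟩ := ih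
    refine ⟨W * (if g = 1152 then t else B.φ g), fun tr htr => ?_⟩
    match tr, htr with
    | u :: v :: l, htr =>
      simp only [trajOk, stepOk, Bool.and_eq_true] at htr
      obtain ⟨⟨⟨hu, hv⟩, hs⟩, hrest⟩ := htr
      have hu' : u < 1152 := Nat.ble_eq.mp hu
      have hv' : v < 1152 := Nat.ble_eq.mp hv
      have e1 : (if g = 1152 then t else B.φ g) * B.φ u = B.φ v * (if g = 1152 then t else B.φ g) := by
        by_cases hg : g = 1152
        · subst hg
          simp only [beq_self_eq_true, cond_true, Bool.and_eq_true, beq_iff_eq, List.contains_iff_mem] at hs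
          rw [if_pos rfl, hs.2, ← (B.act tz ty h hs.1).2]; group
        · rw [show (g == 1152) = false by simpa using hg] at hs
          simp only [cond_false, Bool.and_eq_true, beq_iff_eq] at hs
          have hg' : g < 1152 := Nat.ble_eq.mp hs.1
          rw [if_neg hg, ← (B.φ_mul g hg' u hu').2, ← (B.φ_mul v hv' g hg').2, hs.2]
      have e2 := hW _ hrest
      simp only [List.headD_cons] at e2 ⊢
      rw [show (u :: v :: l).getLastD oI = (v :: l).getLastD oI by simp [List.getLastD], mul_assoc, e1, ← mul_assoc, e2,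
        mul_assoc]

theorem exists_std {t : G} {im : List Nat} (tz : t * z * t⁻¹ = B.φ (yI false))
    (ty : t * B.φ (yI false) * t⁻¹ = z) (him : im ∈ candList true true false rI)
    (h : ∀ j < 4, im.getD j oI < 1152 ∧ t * B.φ (genList.getD j oI) * t⁻¹ = B.φ (im.getD j oI)) :
    Nonempty (Std z) := by
  have hy : yI false < 1152 := by decide +kernel
  have sq : ∀ (u : G), u * z * u⁻¹ = B.φ (yI false) → u * B.φ (yI false) * u⁻¹ = z →
      ∃ c ∈ t0List, c < 1152 ∧ B.φ c = u * u := by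
    intro u uz uy
    have e1 : u * u * z = z * (u * u) := by
      calc u * u * z = u * (u * z * u⁻¹) * u := by group
        _ = u * B.φ (yI false) * u⁻¹ * (u * u) := by rw [uz]; group
        _ = _ := by rw [uy]
    have e2 : u * u * B.φ (yI false) = B.φ (yI false) * (u * u) := by
      calc u * u * B.φ (yI false) = u * (u * B.φ (yI false) * u⁻¹) * u := by group
        _ = u * z * u⁻¹ * (u * u) := by rw [uy]; group
        _ = _ := by rw [uz]
    obtain ⟨c, hc, ec⟩ := B.φ_surj _ e1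
    exact ⟨c, B.mem_t0 hc (by rw [ec]; exact e2), hc, ec⟩
  have him4 : ∃ a b c e, im = [a, b, c, e] := by
    simp only [candList, List.mem_flatMap, List.mem_map] at him
    obtain ⟨a, -, b, -, c, -, e, -, rfl⟩ := him
    exact ⟨a, b, c, e, rfl⟩
  have himT : ∀ j < 4, im.getD j oI ∈ t0List := by
    intro j hj
    obtain ⟨li, ei⟩ := h j hj
    refine B.mem_t0 li ?_
    rw [← ei]
    have hg : genList.getD j oI ∈ t0List := by interval_cases j <;> decide +kernel
    obtain ⟨lg, -⟩ := B.t0_props hg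
    rw [← tz]
    calc t * B.φ (genList.getD j oI) * t⁻¹ * (t * z * t⁻¹) = t * (B.φ (genList.getD j oI) * z) * t⁻¹ := by group
      _ = t * (z * B.φ (genList.getD j oI)) * t⁻¹ := by rw [B.φ_cen _ lg]
      _ = _ := by group
  obtain ⟨c, hcT, hc, ec⟩ := sq t tz ty
  obtain ⟨T, hT, hTj⟩ := List.any_eq_true.1 (List.all_eq_true.1 inn_complete c hcT)
  have hmap : im.map (fmap im) = T := by
    have hlen : ∀ T ∈ innList, T.length = 4 := by decide +kernel
    have key : ∀ j < 4, fmap im (im.getD j oI) = T.getD j oI := by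
      intro j hj
      have hj' := List.all_eq_true.1 hTj j (List.mem_range.2 hj)
      simp only [Bool.and_eq_true, beq_iff_eq] at hj'
      have lT : T.getD j oI < 1152 := Nat.ble_eq.mp hj'.2
      have lg : genList.getD j oI < 1152 := by interval_cases j <;> decide +kernel
      obtain ⟨lf, ef⟩ := B.act tz ty h (himT j hj)
      refine B.φ_inj _ lf _ lT (mul_right_cancel (b := B.φ c) ?_)
      calc B.φ (fmap im (im.getD j oI)) * B.φ c =
            t * (t * B.φ (genList.getD j oI) * t⁻¹) * t⁻¹ * B.φ c := by rw [(h j hj).2, ef]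
        _ = B.φ c * B.φ (genList.getD j oI) := by rw [ec]; group
        _ = _ := by rw [← (B.φ_mul c hc _ lg).2, ← (B.φ_mul _ lT c hc).2, hj'.1]
    obtain ⟨a, b, c', e, rfl⟩ := him4
    have h4 := hlen T hT
    match T, h4 with
    | [p, q, r, s], _ =>
      have k0 := key 0 (by norm_num); have k1 := key 1 (by norm_num)
      have k2 := key 2 (by norm_num); have k3 := key 3 (by norm_num)
      simp only [List.getD_cons_zero, List.getD_cons_succ] at k0 k1 k2 k3
      simp [k0, k1, k2, k3]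
  have hB := List.all_eq_true.1 (show (candList true true false rI).all (fun im =>
    !(innList.contains (im.map (fmap im))) || okList.any fun o => o.drop 2 == im) = true from stageB_ok) im him
  rw [hmap, List.contains_iff_mem.2 hT] at hB
  simp only [Bool.not_true, Bool.false_or, List.any_eq_true, beq_iff_eq] at hB
  obtain ⟨o, ho, hoim⟩ := hB
  have hok := List.all_eq_true.1 ok_ok.1 o ho
  simp only [Bool.and_eq_true, List.all_eq_true, List.mem_range, beq_iff_eq, List.contains_iff_mem] at hok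
  obtain ⟨⟨hcT', hk8⟩, hj⟩ := hok
  obtain ⟨c', hc'⟩ : ∃ c', c' = o.getD 0 oI := ⟨_, rfl⟩
  obtain ⟨k, hk⟩ : ∃ k, k = o.getD 1 oI := ⟨_, rfl⟩
  rw [← hc'] at hcT' hj
  rw [← hk] at hk8 hj
  obtain ⟨lc, cy⟩ := B.t0_props hcT'
  obtain ⟨t', ht'⟩ : ∃ t', t' = (B.φ c')⁻¹ * t := ⟨_, rfl⟩
  have tz' : t' * z * t'⁻¹ = B.φ (yI false) := by
    calc t' * z * t'⁻¹ = (B.φ c')⁻¹ * (t * z * t⁻¹) * B.φ c' := by rw [ht']; group
      _ = (B.φ c')⁻¹ * (B.φ (yI false) * B.φ c') := by rw [tz]; group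
      _ = _ := by rw [← cy]; group
  have ty' : t' * B.φ (yI false) * t'⁻¹ = z := by
    calc t' * B.φ (yI false) * t'⁻¹ = (B.φ c')⁻¹ * (t * B.φ (yI false) * t⁻¹) * B.φ c' := by rw [ht']; group
      _ = (B.φ c')⁻¹ * (z * B.φ c') := by rw [ty]; group
      _ = _ := by rw [← B.φ_cen c' lc]; group
  have h' : ∀ j < 4, (repList.getD k []).getD j oI < 1152 ∧
      t' * B.φ (genList.getD j oI) * t'⁻¹ = B.φ ((repList.getD k []).getD j oI) := by
    intro j hj4
    obtain ⟨⟨e, lr⟩, lo⟩ := hj j hj4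
    have lr' : (repList.getD k []).getD j oI < 1152 := Nat.ble_eq.mp lr
    have lo' : o.getD (j + 2) oI < 1152 := Nat.ble_eq.mp lo
    have eo : o.getD (j + 2) oI = im.getD j oI := by
      rw [← hoim]; simp [List.getD_eq_getElem?_getD, List.getElem?_drop, Nat.add_comm]
    refine ⟨lr', ?_⟩
    calc t' * B.φ (genList.getD j oI) * t'⁻¹ = (B.φ c')⁻¹ * (t * B.φ (genList.getD j oI) * t⁻¹) * B.φ c' := by
          rw [ht']; group
      _ = (B.φ c')⁻¹ * B.φ (hh (o.getD (j + 2) oI) c') := by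
          rw [(h j hj4).2, (B.φ_mul _ lo' c' lc).2, eo, mul_assoc]
      _ = _ := by rw [← e, (B.φ_mul c' lc _ lr').2]; group
  have hk0 : k = 0 := by
    by_contra hne
    have hk7 : k - 1 < 7 := by have := Nat.ble_eq.mp hk8; omega
    have hkill := List.all_eq_true.1 kill_ok (k - 1) (List.mem_range.2 hk7)
    rw [show k - 1 + 1 = k by omega] at hkill
    simp only [killOk, Bool.and_eq_true, List.all_eq_true, List.mem_range] at hkill
    obtain ⟨⟨htr, hhd⟩, hno⟩ := hkill
    obtain ⟨W, hW⟩ := B.traj tz' ty' h' (killList.getD (k - 1) ([], [])).1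
    have Wz : W * z = z * W := by
      cases hl : (killList.getD (k - 1) ([], [])).2 with
      | nil => rw [hl] at hhd; simp at hhd
      | cons tr l =>
        rw [hl] at hhd
        simp only [Bool.and_eq_true, beq_iff_eq] at hhd
        have := hW tr (htr tr (by rw [hl]; simp))
        rwa [show tr.headD oI = zI by simp [List.headD_eq_head?_getD, hhd.1],
          show tr.getLastD oI = zI by simp [List.getLastD_eq_getLast?, hhd.2], B.φ_z] at this
    obtain ⟨g, hg, eg⟩ := B.φ_surj W Wz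
    obtain ⟨tr, htr', hne'⟩ := List.any_eq_true.1 (hno g hg)
    simp only [Bool.not_eq_true', beq_eq_false_iff_ne] at hne'
    refine hne' ?_
    have hfl : ∀ w : List Nat, ∀ tr : List Nat, trajOk (repList.getD k []) w tr = true →
        (tr.length = 1 ∧ w = []) ∨ (tr.headD oI < 1152 ∧ tr.getLastD oI < 1152) := by
      intro w
      induction w with
      | nil => intro tr h; match tr, h with | [u], _ => exact Or.inl ⟨rfl, rfl⟩
      | cons a w ih =>
        intro tr h
        match tr, h with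
        | u :: v :: l, h =>
          simp only [trajOk, stepOk, Bool.and_eq_true] at h
          refine Or.inr ⟨Nat.ble_eq.mp h.1.1.1, ?_⟩
          rw [show (u :: v :: l).getLastD oI = (v :: l).getLastD oI by simp [List.getLastD]]
          rcases ih _ h.2 with ⟨hl, -⟩ | ⟨-, hl⟩
          · rw [List.length_cons, Nat.add_eq_right, List.length_eq_zero_iff] at hl
            subst hl
            exact Nat.ble_eq.mp h.1.1.2
          · exact hl
    rcases hfl _ _ (htr tr htr') with ⟨-, hw⟩ | ⟨l1, l2⟩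
    · exact absurd hw (by
        have : ((List.range 7).all fun i => !(killList.getD i ([], [])).1.isEmpty) = true := by decide +kernel
        have := List.all_eq_true.1 this (k - 1) (List.mem_range.2 hk7)
        simpa using this)
    · have e := hW tr (htr tr htr')
      rw [← eg] at e
      exact B.φ_inj _ (B.φ_mul g hg _ l1).1 _ (B.φ_mul _ l2 g hg).1 (by
        rw [(B.φ_mul g hg _ l1).2, (B.φ_mul _ l2 g hg).2, e])
  subst hk0
  rw [ok_ok.2.1] at h'
  obtain ⟨e, heT, he, ee⟩ := sq t' tz' ty'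
  have hact := fun {x : Nat} (hx : x ∈ t0List) => B.act tz' ty' h' hx
  have hfix : fmap imgList e = e := by
    obtain ⟨l1, e1⟩ := hact heT
    refine B.φ_inj _ l1 _ he ?_
    rw [← e1, ee]; group
  have hcomm : ∀ g ∈ genList, hh e g = hh g e := by
    intro g hg
    obtain ⟨n, hn, hgn⟩ : ∃ n < 64, t0List.getD n oI = g := by
      simp only [genList, List.mem_cons, List.not_mem_nil, or_false] at hg
      rcases hg with rfl | rfl | rfl | rfl
      · exact ⟨4, by norm_num, by decide +kernel⟩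
      · exact ⟨8, by norm_num, by decide +kernel⟩
      · exact ⟨16, by norm_num, by decide +kernel⟩
      · exact ⟨32, by norm_num, by decide +kernel⟩
    have hgT : g ∈ t0List := by
      rw [← hgn, List.getD_eq_getElem _ _ (t0_src.2.symm ▸ hn)]; exact List.getElem_mem _
    have h2 := List.all_eq_true.1 img_ok.1 n (List.mem_range.2 hn)
    rw [beq_iff_eq, hgn] at h2
    obtain ⟨l1, e1⟩ := hact hgT
    have himg : fmap imgList g ∈ t0List := by
      have : (t0List.all fun x => t0List.contains (fmap imgList x)) = true := by decide +kernel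
      exact List.contains_iff_mem.1 (List.all_eq_true.1 this g hgT)
    obtain ⟨-, e2⟩ := hact himg
    rw [h2, ← e1] at e2
    have lg := (B.t0_props hgT).1
    refine B.φ_inj _ (B.φ_mul e he g lg).1 _ (B.φ_mul g lg e he).1 ?_
    rw [(B.φ_mul e he g lg).2, (B.φ_mul g lg e he).2, ee]
    nth_rw 2 [← e2]
    group
  have h3 := List.all_eq_true.1 img_ok.2 e heT
  have hall : (genList.all fun g => hh e g == hh g e) = true :=
    List.all_eq_true.2 fun g hg => beq_iff_eq.2 (hcomm g hg)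
  simp only [hall, hfix, beq_self_eq_true, Bool.and_self, Bool.not_true, Bool.false_or, Bool.or_eq_true, beq_iff_eq] at h3
  rcases h3 with rfl | rfl
  · rw [B.φ_one] at ee
    have hinv : t'⁻¹ = t' := inv_eq_of_mul_eq_one_right ee.symm
    have hact' : ∀ x ∈ t0List, fmap imgList x < 1152 ∧ t' * B.φ x * t' = B.φ (fmap imgList x) := by
      intro x hx
      have := hact hx
      rwa [hinv] at this
    exact ⟨{ toBase := B, t := t', t_sq := ee.symm, t_act := hact' }⟩
  · rw [B.φ_zy] at ee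
    have hsq : t' * z * (t' * z) = 1 := by
      calc t' * z * (t' * z) = t' * z * t'⁻¹ * (t' * t') * z := by group
        _ = B.φ (yI false) * (B.φ (yI false) * z) * z := by rw [tz', ← ee, B.φ_cen _ hy]
        _ = 1 := by
          have hyy : B.φ (yI false) * B.φ (yI false) = 1 := by
            rw [← (B.φ_mul _ hy _ hy).2, show hh (yI false) (yI false) = oI by decide +kernel, B.φ_one]
          rw [mul_assoc, mul_assoc, B.zsq, mul_one, hyy]
    have hinv : (t' * z)⁻¹ = t' * z := inv_eq_of_mul_eq_one_right hsq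
    have hact' : ∀ x ∈ t0List, fmap imgList x < 1152 ∧ t' * z * B.φ x * (t' * z) = B.φ (fmap imgList x) := by
      intro x hx
      obtain ⟨l, e⟩ := hact hx
      refine ⟨l, ?_⟩
      rw [← e]
      calc t' * z * B.φ x * (t' * z) = t' * z * B.φ x * (t' * z)⁻¹ := by rw [hinv]
        _ = t' * (z * B.φ x) * z⁻¹ * t'⁻¹ := by group
        _ = t' * (B.φ x * z) * z⁻¹ * t'⁻¹ := by rw [B.φ_cen x (B.t0_props hx).1]
        _ = _ := by group
    exact ⟨{ toBase := B, t := t' * z, t_sq := hsq, t_act := hact' }⟩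

end Base

theorem Setup.exists_std [Finite G] {z : G} (S : Setup z) (hz1 : z ≠ 1) (hzz : z * z = 1) : Nonempty (Std z) := by
  obtain ⟨P⟩ := S.exists_pair hz1 hzz
  obtain ⟨F⟩ := P.exists_framed
  obtain ⟨M⟩ := F.exists_model
  obtain ⟨B, t, tz, ty, im, him, h⟩ := M.exists_base
  exact B.exists_std tz ty him h

end Cfsg.Agent.U43Type
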