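import Cfsg.Agent.U43Type.GenWords

/-!
Every involution of the Sylow two-subgroup is taken to the central one by a word.
-/

set_option autoImplicit false
set_option maxRecDepth 100000

namespace Cfsg.Agent.U43Type

/-- Involutions and words. -/
def fusList : List (Nat × List Nat) :=
  [(0, [9]), (2, [9, 1, 5, 1, 9]), (3, [9, 1, 5, 0, 9, 0, 7, 0]), (12, [9, 0, 7, 0]), (14, [9, 0, 5, 0, 9]), (15, [9, 1, 5, 0, 9, 1, 3, 0]), (40, [9, 1, 5]), (56, [9, 0, 5]), (76, [9, 1, 5, 7]), (92, [9, 0, 7, 5]), (314, [9, 0, 7, 5, 1, 9]), (315, [9, 0, 5, 1, 9, 0, 7, 0]), (348, []), (350, [9, 1, 5, 1, 9, 3]), (351, [9, 1, 5, 0, 9, 0, 3, 1]), (672, [9, 1]), (684, [9, 0, 7]), (712, [9, 1, 5, 1]), (714, [9, 1, 5, 1, 9, 1, 3, 0]), (728, [9, 0, 5, 1]), (731, [9, 1, 5, 0, 9]), (748, [9, 0, 5, 1, 3]), (751, [9, 0, 5, 1, 9, 5]), (764, [9, 0, 7, 5, 1]), (766, [9, 0, 5, 0, 9, 1, 5, 1]),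 (1056, [9, 0]), (1068, [9, 0, 3]), (1096, [9, 1, 5, 0]), (1099, [9, 0, 5, 1, 9]), (1112, [9, 0, 5, 0]), (1114, [9, 1, 5, 1, 9, 0, 3, 1]), (1132, [9, 0, 5, 0, 3]), (1134, [9, 0, 5, 0, 9, 0, 5, 0]), (1148, [9, 0, 7, 5, 0]), (1151, [9, 1, 5, 0, 9, 5])]

theorem fus_table : (tList.all fun i => !(hh i i == oI) || (i == oI) ||
    fusList.any fun p => p.1 == i && (actW p.2 i == zI)) = true := by
  decide +kernel

end Cfsg.Agent.U43Type
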