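import Mathlib
import Cfsg.Agent.S0058

/-!
Small general lemmas for the local argument.
-/

set_option autoImplicit false
set_option linter.all false

namespace Cfsg.Agent.U43Type

open Subgroup

variable {G : Type*} [Group G]

/-- The subgroup of the products of powers of two commuting elements of order three. -/
def pairSub (u v : G) (hu : u ^ 3 = 1) (hv : v ^ 3 = 1) (h : Commute u v) : Subgroup G where
  carrier := {g | ∃ a < 3, ∃ b < 3, g = u ^ a * v ^ b}
  one_mem' := ⟨0, by norm_num, 0, by norm_num, by simp⟩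
  mul_mem' := by
    rintro _ _ ⟨a, -, b, -, rfl⟩ ⟨c, -, d, -, rfl⟩
    refine ⟨(a + c) % 3, Nat.mod_lt _ (by norm_num), (b + d) % 3, Nat.mod_lt _ (by norm_num), ?_⟩
    rw [← pow_eq_pow_mod (a + c) hu, ← pow_eq_pow_mod (b + d) hv, pow_add, pow_add,
      mul_assoc, ← mul_assoc (v ^ b), (h.pow_pow c b).symm.eq]
    simp only [mul_assoc]
  inv_mem' := by
    rintro _ ⟨a, -, b, -, rfl⟩
    refine ⟨2 * a % 3, Nat.mod_lt _ (by norm_num), 2 * b % 3, Nat.mod_lt _ (by norm_num), ?_⟩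
    rw [← pow_eq_pow_mod (2 * a) hu, ← pow_eq_pow_mod (2 * b) hv]
    refine inv_eq_of_mul_eq_one_right ?_
    rw [mul_assoc, ← mul_assoc (v ^ b), (h.pow_pow (2 * a) b).symm.eq, mul_assoc, ← pow_add, ← mul_assoc,
      ← pow_add, show a + 2 * a = 3 * a by ring, show b + 2 * b = 3 * b by ring, pow_mul, pow_mul, hu, hv]
    simp

theorem mem_pairSub {u v : G} {hu : u ^ 3 = 1} {hv : v ^ 3 = 1} {h : Commute u v} {g : G} :
    g ∈ pairSub u v hu hv h ↔ ∃ a < 3, ∃ b < 3, g = u ^ a * v ^ b := Iff.rfl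

theorem card_pairSub [Finite G] {u v : G} (hu : u ^ 3 = 1) (hv : v ^ 3 = 1) (h : Commute u v)
    (hinj : ∀ a < 3, ∀ b < 3, ∀ c < 3, ∀ d < 3, u ^ a * v ^ b = u ^ c * v ^ d → a = c ∧ b = d) :
    Nat.card ↥(pairSub u v hu hv h) = 9 := by
  let f : Fin 3 × Fin 3 → ↥(pairSub u v hu hv h) := fun p =>
    ⟨u ^ (p.1 : ℕ) * v ^ (p.2 : ℕ), mem_pairSub.2 ⟨p.1, p.1.2, p.2, p.2.2, rfl⟩⟩
  have hb : Function.Bijective f := by
    constructor
    · intro p q e
      obtain ⟨e1, e2⟩ := hinj _ p.1.2 _ p.2.2 _ q.1.2 _ q.2.2 (congrArg Subtype.val e)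
      exact Prod.ext (Fin.ext e1) (Fin.ext e2)
    · rintro ⟨g, hg⟩
      obtain ⟨a, ha, b, hb, rfl⟩ := mem_pairSub.1 hg
      exact ⟨(⟨a, ha⟩, ⟨b, hb⟩), rfl⟩
  rw [← Nat.card_congr (Equiv.ofBijective f hb)]
  simp

/-- Two subgroups of the full power order are conjugate inside the ambient subgroup. -/
theorem conj_of_card [Finite G] {p : ℕ} [Fact p.Prime] {J P Q : Subgroup G} (hP : P ≤ J) (hQ : Q ≤ J)
    (cP : Nat.card P = p ^ (Nat.card J).factorization p) (cQ : Nat.card Q = p ^ (Nat.card J).factorization p) :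
    ∃ j ∈ J, ∀ u, u ∈ P ↔ j * u * j⁻¹ ∈ Q := by
  let P' : Sylow p J := Sylow.ofCard (P.subgroupOf J) (by
    rw [Nat.card_congr (subgroupOfEquivOfLe hP).toEquiv, cP])
  let Q' : Sylow p J := Sylow.ofCard (Q.subgroupOf J) (by
    rw [Nat.card_congr (subgroupOfEquivOfLe hQ).toEquiv, cQ])
  obtain ⟨j, hj⟩ := MulAction.exists_smul_eq J P' Q'
  refine ⟨j, j.2, fun u => ?_⟩
  have hPc : (P' : Subgroup J) = P.subgroupOf J := rfl
  have hQc : (Q' : Subgroup J) = Q.subgroupOf J := rfl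
  have key : ∀ w : J, w ∈ (P' : Subgroup J) ↔ j * w * j⁻¹ ∈ (Q' : Subgroup J) := by
    intro w
    rw [← hj, Sylow.coe_subgroup_smul, Subgroup.mem_pointwise_smul_iff_inv_smul_mem]
    simp [MulAut.smul_def, mul_assoc]
  constructor
  · intro hu
    have := (key ⟨u, hP hu⟩).1 (by rw [hPc, mem_subgroupOf]; exact hu)
    rw [hQc, mem_subgroupOf] at this
    exact this
  · intro hu
    have huJ : u ∈ J := by
      have h2 := J.mul_mem (J.mul_mem (J.inv_mem j.2) (hQ hu)) j.2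
      simpa [mul_assoc] using h2
    have := (key ⟨u, huJ⟩).2 (by rw [hQc, mem_subgroupOf]; exact hu)
    rw [hPc, mem_subgroupOf] at this
    exact this

/-- A normal complement to a Sylow subgroup of order two. -/
theorem exists_odd_part [Finite G] (C : Subgroup G) {z : G} (hz : z ∈ C) (hz1 : z ≠ 1) (hz2 : z * z = 1)
    (hcent : ∀ c ∈ C, c * z = z * c → ∀ k : ℕ, c ^ 2 ^ k = 1 → c = 1 ∨ c = z) :
    ∃ M : Subgroup G, M ≤ C ∧ Odd (Nat.card M) ∧ (∀ c ∈ C, c ∈ M ∨ z * c ∈ M) ∧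
      ∀ c ∈ C, Odd (orderOf c) → c ∈ M := by
  classical
  let zc : C := ⟨z, hz⟩
  have hzc : zc ^ 2 = 1 := Subtype.ext (by rw [pow_two]; exact hz2)
  have hzp : IsPGroup 2 (zpowers zc) := by
    rintro ⟨w, hw⟩
    obtain ⟨k, rfl⟩ := mem_zpowers_iff.1 hw
    refine ⟨1, Subtype.ext ?_⟩
    show (zc ^ k) ^ (2 ^ 1) = 1
    rw [pow_one, ← zpow_natCast, ← zpow_mul, mul_comm, zpow_mul, zpow_natCast, hzc, one_zpow]
  obtain ⟨T, hT⟩ := hzp.exists_le_sylow
  have hzT : zc ∈ (T : Subgroup C) := hT (mem_zpowers zc)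
  have two : ∀ w ∈ (T : Subgroup C), w * zc = zc * w → w = 1 ∨ w = zc := by
    intro w hw hcom
    obtain ⟨k, hk⟩ := T.isPGroup' ⟨w, hw⟩
    rcases hcent w w.2 (congrArg Subtype.val hcom) k (congrArg (fun u : (T : Subgroup C) => ((u : C) : G)) hk) with h | h
    · exact Or.inl (Subtype.ext h)
    · exact Or.inr (Subtype.ext h)
  haveI : Nontrivial (T : Subgroup C) := ⟨⟨⟨zc, hzT⟩, 1, fun e => hz1 (congrArg (fun u : (T : Subgroup C) => ((u : C) : G)) e)⟩⟩
  haveI := T.isPGroup'.center_nontrivial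
  obtain ⟨⟨c, hc⟩, hcne⟩ := exists_ne (1 : Subgroup.center (T : Subgroup C))
  have hccom := fun u : (T : Subgroup C) => mem_center_iff.1 hc u
  have hcz : (c : C) = zc := by
    refine (two c c.2 (congrArg Subtype.val (hccom ⟨zc, hzT⟩)).symm).resolve_left fun e => hcne (Subtype.ext (Subtype.ext e))
  have hTmem : ∀ w ∈ (T : Subgroup C), w = 1 ∨ w = zc := fun w hw => two w hw (by
    have := congrArg Subtype.val (hccom ⟨w, hw⟩)
    simpa [hcz] using this)
  have hN : normalizer ((T : Subgroup C) : Set C) ≤ centralizer ((T : Subgroup C) : Set C) := by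
    intro g hg
    rw [mem_centralizer_iff]
    intro w hw
    rcases hTmem w hw with rfl | rfl
    · simp
    · have h := (mem_normalizer_iff.1 hg zc).1 hw
      rcases hTmem _ h with e | e
      · have h1 : zc = 1 := by
          calc zc = g⁻¹ * (g * zc * g⁻¹) * g := by group
            _ = 1 := by rw [e]; group
        exact absurd (congrArg Subtype.val h1) hz1
      · calc zc * g = g * zc * g⁻¹ * g := by rw [e]
          _ = _ := by group
  haveI : Fact (Nat.Prime 2) := ⟨Nat.prime_two⟩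
  obtain ⟨K, hKdef⟩ : ∃ K, K = (MonoidHom.transferSylow T hN).ker := ⟨_, rfl⟩
  have hcomp : IsComplement' K (T : Subgroup C) := hKdef ▸ MonoidHom.ker_transferSylow_isComplement' T hN
  have hodd : ¬ 2 ∣ Nat.card K := hKdef ▸ MonoidHom.not_dvd_card_ker_transferSylow T hN
  haveI : K.Normal := by rw [hKdef]; infer_instance
  refine ⟨K.map C.subtype, map_subtype_le _, ?_, ?_, ?_⟩
  · rw [Nat.card_congr (K.equivMapOfInjective C.subtype C.subtype_injective).toEquiv.symm, Nat.odd_iff]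
    omega
  · intro c hc
    obtain ⟨⟨⟨k, hk⟩, ⟨w, hw⟩⟩, e⟩ := hcomp.2 ⟨c, hc⟩
    simp only at e
    rcases hTmem w hw with rfl | rfl
    · exact Or.inl ⟨k, hk, by rw [mul_one] at e; exact congrArg Subtype.val e⟩
    · refine Or.inr ⟨zc * k * zc⁻¹, ‹K.Normal›.conj_mem k hk zc, ?_⟩
      have e' : (k : G) * z = c := congrArg Subtype.val e
      show z * (k : G) * z⁻¹ = z * c
      rw [inv_eq_of_mul_eq_one_right hz2, mul_assoc, e']
  · intro c hc hoc
    refine ⟨⟨c, hc⟩, ?_, rfl⟩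
    rw [SetLike.mem_coe, hKdef, MonoidHom.mem_ker]
    obtain ⟨k, hk⟩ := T.isPGroup' (MonoidHom.transferSylow T hN ⟨c, hc⟩)
    have h1 : orderOf (MonoidHom.transferSylow T hN ⟨c, hc⟩) ∣ orderOf c :=
      (orderOf_map_dvd _ _).trans (by rw [Subgroup.orderOf_mk])
    have h2 := orderOf_dvd_of_pow_eq_one hk
    rw [← orderOf_eq_one_iff]
    exact Nat.eq_one_of_dvd_coprimes ((Nat.coprime_two_left.2 hoc).pow_left k) h2 h1

end Cfsg.Agent.U43Type
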