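import Cfsg.Agent.U43Type.Words2

/-!
Finite facts for the local argument at an element of order three.
-/

set_option autoImplicit false
set_option maxRecDepth 100000
set_option linter.all false

namespace Cfsg.Agent.U43Type

def abW : List Nat := [0, 4, 1, 4]
def wsW : List Nat := [0, 4, 0, 6, 0, 4, 0, 6]
def rpW : List Nat := [0, 4, 0, 6, 0, 4, 0, 6, 8, 0, 4, 1, 3, 1, 8, 0, 4, 0]
def gW : List Nat := [8, 3]

/-- The element of order three fixed by the turning word. -/
abbrev xi : Nat := hv sideX1
/-- The second element of order three. -/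
abbrev bi : Nat := hv abW

/-- A power of an index. -/
def pw (c : Nat) : Nat → Nat
  | 0 => oI
  | n + 1 => hh c (pw c n)

/-- The group of order nine. -/
def p9List : List Nat := (List.range 3).flatMap fun a => (List.range 3).map fun b => hh (pw xi a) (pw bi b)

/-- Its centraliser in the centraliser of `z`. -/
def c18List : List Nat := p9List ++ p9List.map (hh zI)

/-- The word of `x ^ a` times `r ^ b`. -/
def abWord (a b : Nat) : List Nat := (List.replicate a sideX1).flatten ++ (List.replicate b rpW).flatten

theorem local_words : hWord sideX1 = true ∧ hWord abW = true ∧ hWord wsW = true ∧ rpW = wsW ++ sideR1 ∧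
    relEx1 = conjW sideR1 sideX1 ++ relEx1.drop (conjW sideR1 sideX1).length ∧
    hWord (relEx1.drop (conjW sideR1 sideX1).length) = true ∧
    sideOpts1.getD sideGood1 oI < 1152 ∧
    hh (sideOpts1.getD sideGood1 oI) (hv (relEx1.drop (conjW sideR1 sideX1).length)) = oI ∧
    hh (hv wsW) (sideOpts1.getD sideGood1 oI) = hh xi (hv wsW) ∧
    fpfOk sideA1 rpW 3 = true ∧
    actW rpW zI = sIx ∧ actW rpW sIx = hh zI sIx ∧ actW rpW (hh zI sIx) = zI ∧
    relR4 = abW ++ conjW rpW abW ++ invW abW ++ invW (conjW rpW abW) := by decide +kernel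

theorem local_small : hh xi bi = hh bi xi ∧ pw xi 3 = oI ∧ pw bi 3 = oI ∧
    hh zI sIx = hh sIx zI ∧ hh sIx sIx = oI ∧ hh zI xi = hh xi zI ∧ hh zI bi = hh bi zI ∧
    hh sIx xi = hh xi sIx ∧ hh sIx bi = hh (pw bi 2) sIx ∧ hh sIx bi ≠ hh bi sIx ∧
    sIx ≠ oI ∧ sIx ≠ zI ∧ hh zI sIx ≠ oI ∧ hh zI sIx ≠ zI ∧ p9List.Nodup := by decide +kernel

theorem local_cent : ((List.range 1152).all fun c =>
    !((hh c xi == hh xi c) && (hh c bi == hh bi c)) || c18List.contains c) = true := by decide +kernel

theorem local_cx : ((List.range 1152).all fun i => !(hh i xi == hh xi i) ||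
    ((pw i 36 == oI) && (!(pw i 9 == oI) || p9List.contains i))) = true := by decide +kernel

theorem local_c18 : (c18List.all fun c => Nat.blt c 1152 && (hh c xi == hh xi c) &&
    (!(hh c c == oI) || (c == oI) || (c == zI)) && (pw c 18 == oI)) = true := by decide +kernel

theorem local_norm : ((List.range 1152).all fun g =>
    !((p9List.any fun p => hh g xi == hh p g) && (p9List.any fun p => hh g bi == hh p g)) ||
      (hh g xi == hh xi g) || (hh g xi == hh (pw xi 2) g)) = true := by decide +kernel

theorem local_act : (sideA1.all fun u => [sideX1, rpW, gW, invW gW].all fun w => sideA1.contains (actW w u)) = true ∧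
    ([sideX1, rpW].all fun p => (List.range 3).any fun a => (List.range 3).any fun b =>
      sideA1.all fun u => actW (conjW gW p) u == actW (abWord a b) u) = true ∧
    ((List.range 3).all fun a => (a == 0) ||
      sideA1.any fun u => !(actW (conjW gW sideX1) u == actW (abWord a 0) u)) = true ∧
    (sideA1.all fun u => sideA1.all fun v => sideA1.contains (hh u v) && (hh u v == hh v u) && (hh u u == oI)) = true ∧
    (sideA1.all fun u => (List.range 3).all fun a => (List.range 3).all fun b =>
      sideA1.contains (actW (abWord a b) u)) = true ∧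
    sideA1.length = 16 ∧ sideA1.Nodup := by decide +kernel

end Cfsg.Agent.U43Type
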