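import Cfsg.Agent.U43Type.Rel
import Cfsg.Agent.U43Type.LocalWords
import Cfsg.Agent.U43Type.Generic

/-!
The relation between an element of order three and its turned companion.
-/

set_option autoImplicit false
set_option maxRecDepth 100000
set_option linter.all false
set_option maxHeartbeats 1000000

namespace Cfsg.Agent.U43Type

open Subgroup

variable {G : Type*} [Group G]

namespace Std

variable {z : G} (S : Std z)

/-- The element of order three. -/
def X : G := S.φ xi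
/-- Its companion. -/
def B : G := S.φ bi
/-- The turning element. -/
def R : G := S.val rpW

theorem xi_lt : xi < 1152 := by decide +kernel
theorem bi_lt : bi < 1152 := by decide +kernel
theorem zI_lt : zI < 1152 := by decide +kernel
theorem sIx_lt : sIx < 1152 := by decide +kernel
theorem zs_lt : hh zI sIx < 1152 := by decide +kernel

theorem pw_lt {c : Nat} (hc : c < 1152) : ∀ n, pw c n < 1152 ∧ S.φ (pw c n) = S.φ c ^ n := by
  intro n
  induction n with
  | zero => exact ⟨oI_lt, by rw [pw, S.φ_one, pow_zero]⟩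
  | succ n ih => exact ⟨(S.φ_mul c hc _ ih.1).1, by rw [pw, (S.φ_mul c hc _ ih.1).2, ih.2, pow_succ']⟩

theorem eq_mul {a b c d : Nat} (ha : a < 1152) (hb : b < 1152) (hc : c < 1152) (hd : d < 1152)
    (h : hh a b = hh c d) : S.φ a * S.φ b = S.φ c * S.φ d := by
  rw [← (S.φ_mul a ha b hb).2, ← (S.φ_mul c hc d hd).2, h]

theorem idx_eq {a b c d : Nat} (ha : a < 1152) (hb : b < 1152) (hc : c < 1152) (hd : d < 1152)
    (h : S.φ a * S.φ b = S.φ c * S.φ d) : hh a b = hh c d :=
  S.φ_inj _ (S.φ_mul a ha b hb).1 _ (S.φ_mul c hc d hd).1 (by rw [(S.φ_mul a ha b hb).2, (S.φ_mul c hc d hd).2, h])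

theorem X3 : S.X ^ 3 = 1 := by rw [X, ← (S.pw_lt xi_lt 3).2, local_small.2.1, S.φ_one]
theorem B3 : S.B ^ 3 = 1 := by rw [B, ← (S.pw_lt bi_lt 3).2, local_small.2.2.1, S.φ_one]
theorem XB : Commute S.X S.B := S.eq_mul xi_lt bi_lt bi_lt xi_lt local_small.1
theorem R3 : S.R ^ 3 = 1 := S.val_fpf local_words.2.2.2.2.2.2.2.2.2.1

theorem sB : S.φ sIx * S.B ≠ S.B * S.φ sIx := fun e =>
  local_small.2.2.2.2.2.2.2.2.2.1 (S.idx_eq sIx_lt bi_lt bi_lt sIx_lt e)

theorem R_z : S.R * z = S.φ sIx * S.R := by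
  obtain ⟨-, -, -, -, -, -, -, -, -, -, h, -⟩ := local_words
  have := (S.act_sound (w := rpW) (u := zI) (by rw [h]; exact sIx_lt)).2
  rwa [h, S.φ_z] at this

theorem R_s : S.R * S.φ sIx = S.φ (hh zI sIx) * S.R := by
  obtain ⟨-, -, -, -, -, -, -, -, -, -, -, h, -⟩ := local_words
  have := (S.act_sound (w := rpW) (u := sIx) (by rw [h]; exact zs_lt)).2
  rwa [h] at this

theorem R_zs : S.R * S.φ (hh zI sIx) = z * S.R := by
  obtain ⟨-, -, -, -, -, -, -, -, -, -, -, -, h, -⟩ := local_words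
  have := (S.act_sound (w := rpW) (u := hh zI sIx) (by rw [h]; exact zI_lt)).2
  rwa [h, S.φ_z] at this

theorem R_X (he : S.val relEx1 = 1) : Commute S.R S.X := by
  obtain ⟨hx, -, hw, hrp, hex, hv', hl, hone, hwh, -⟩ := local_words
  obtain ⟨lx, ex⟩ := S.val_H hx
  obtain ⟨lw, ew⟩ := S.val_H hw
  obtain ⟨lv, ev⟩ := S.val_H hv'
  have h1 : S.val (conjW sideR1 sideX1) = S.φ (sideOpts1.getD sideGood1 oI) := by
    rw [hex, S.val_append, ev] at he
    have h2 : S.φ (sideOpts1.getD sideGood1 oI) * S.φ (hv (relEx1.drop (conjW sideR1 sideX1).length)) = 1 := by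
      rw [← (S.φ_mul _ hl _ lv).2, hone, S.φ_one]
    exact mul_right_cancel (he.trans h2.symm)
  rw [S.val_conj, ex] at h1
  show S.R * S.X = S.X * S.R
  have e3 := S.eq_mul lw hl xi_lt lw hwh
  rw [R, hrp, S.val_append, ew, X]
  calc S.φ (hv wsW) * S.val sideR1 * S.φ xi = S.φ (hv wsW) * (S.val sideR1 * S.φ xi * (S.val sideR1)⁻¹) * S.val sideR1 := by
        group
    _ = S.φ xi * S.φ (hv wsW) * S.val sideR1 := by rw [show S.φ xi = S.φ (hv sideX1) from rfl] at *; rw [h1, e3]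
    _ = _ := by group

/-- The group of order nine. -/
def P9 : Subgroup G := pairSub S.X S.B S.X3 S.B3 S.XB

theorem p9_iff (x : G) : x ∈ S.P9 ↔ ∃ i ∈ p9List, i < 1152 ∧ S.φ i = x := by
  rw [P9, mem_pairSub]
  constructor
  · rintro ⟨a, ha, b, hb, rfl⟩
    obtain ⟨l1, e1⟩ := S.pw_lt xi_lt a
    obtain ⟨l2, e2⟩ := S.pw_lt bi_lt b
    refine ⟨_, List.mem_flatMap.2 ⟨a, List.mem_range.2 ha, List.mem_map.2 ⟨b, List.mem_range.2 hb, rfl⟩⟩,
      (S.φ_mul _ l1 _ l2).1, ?_⟩
    rw [(S.φ_mul _ l1 _ l2).2, e1, e2]; rfl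
  · rintro ⟨i, hi, -, rfl⟩
    obtain ⟨a, ha, hb⟩ := List.mem_flatMap.1 hi
    obtain ⟨b, hb', rfl⟩ := List.mem_map.1 hb
    obtain ⟨l1, e1⟩ := S.pw_lt xi_lt a
    obtain ⟨l2, e2⟩ := S.pw_lt bi_lt b
    exact ⟨a, List.mem_range.1 ha, b, List.mem_range.1 hb', by rw [(S.φ_mul _ l1 _ l2).2, e1, e2]; rfl⟩

theorem card_P9 [Finite G] : Nat.card S.P9 = 9 := by
  refine card_pairSub _ _ _ fun a ha b hb c hc d hd e => ?_
  obtain ⟨l1, e1⟩ := S.pw_lt xi_lt a
  obtain ⟨l2, e2⟩ := S.pw_lt bi_lt b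
  obtain ⟨l3, e3⟩ := S.pw_lt xi_lt c
  obtain ⟨l4, e4⟩ := S.pw_lt bi_lt d
  have h := S.idx_eq l1 l2 l3 l4 (by rw [e1, e2, e3, e4]; exact e)
  have key : ∀ a < 3, ∀ b < 3, ∀ c < 3, ∀ d < 3, hh (pw xi a) (pw bi b) = hh (pw xi c) (pw bi d) → a = c ∧ b = d := by
    have h' : ((List.range 3).all fun a => (List.range 3).all fun b => (List.range 3).all fun c => (List.range 3).all fun d =>
        !(hh (pw xi a) (pw bi b) == hh (pw xi c) (pw bi d)) || ((a == c) && (b == d))) = true := by decide +kernel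
    intro a ha b hb c hc d hd e
    have := List.all_eq_true.1 (List.all_eq_true.1 (List.all_eq_true.1 (List.all_eq_true.1 h' a (List.mem_range.2 ha))
      b (List.mem_range.2 hb)) c (List.mem_range.2 hc)) d (List.mem_range.2 hd)
    simpa [e] using this
  exact key a ha b hb c hc d hd h

/-- An element of the centraliser of `z` fixing `X`. -/
theorem cx {k : G} (hz : k * z = z * k) (hx : k * S.X = S.X * k) :
    k ^ 36 = 1 ∧ (k ^ 9 = 1 → k ∈ S.P9) := by
  obtain ⟨i, hi, rfl⟩ := S.φ_surj k hz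
  have h := List.all_eq_true.1 local_cx i (List.mem_range.2 hi)
  simp only [S.idx_eq hi xi_lt xi_lt hi hx, beq_self_eq_true, Bool.not_true, Bool.false_or, Bool.and_eq_true,
    beq_iff_eq, Bool.or_eq_true, Bool.not_eq_true', beq_eq_false_iff_ne, List.contains_iff_mem] at h
  refine ⟨by rw [← (S.pw_lt hi 36).2, h.1, S.φ_one], fun h9 => ?_⟩
  rcases h.2 with h' | h'
  · exact absurd (S.φ_inj _ (S.pw_lt hi 9).1 _ oI_lt (by rw [(S.pw_lt hi 9).2, h9, S.φ_one])) h'
  · exact (S.p9_iff _).2 ⟨i, h', hi, rfl⟩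

theorem odd_nine {k : G} (h36 : k ^ 36 = 1) (hodd : Odd (orderOf k)) : k ^ 9 = 1 := by
  have h1 : orderOf k ∣ 9 * 4 := orderOf_dvd_of_pow_eq_one h36
  have h2 : Nat.Coprime (orderOf k) 4 :=
    Nat.Coprime.pow_right 2 (Nat.coprime_two_right.2 hodd)
  exact orderOf_dvd_iff_pow_eq_one.1 (h2.dvd_of_dvd_mul_right h1)

theorem hzX : Commute z S.X := by
  have h := S.eq_mul zI_lt xi_lt xi_lt zI_lt local_small.2.2.2.2.2.1
  rw [S.φ_z] at h
  exact h

theorem hzB : Commute z S.B := by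
  have h := S.eq_mul zI_lt bi_lt bi_lt zI_lt local_small.2.2.2.2.2.2.1
  rw [S.φ_z] at h
  exact h

theorem hsX : Commute (S.φ sIx) S.X := S.eq_mul sIx_lt xi_lt xi_lt sIx_lt local_small.2.2.2.2.2.2.2.1

theorem s_ne_z : S.φ sIx ≠ z := fun e =>
  local_small.2.2.2.2.2.2.2.2.2.2.2.1 (S.φ_inj _ sIx_lt _ zI_lt (e.trans S.φ_z.symm))

theorem s_ne_one : S.φ sIx ≠ 1 := fun e =>
  local_small.2.2.2.2.2.2.2.2.2.2.1 (S.φ_inj _ sIx_lt _ oI_lt (e.trans S.φ_one.symm))

theorem s_sq : S.φ sIx * S.φ sIx = 1 := by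
  rw [← (S.φ_mul _ sIx_lt _ sIx_lt).2, local_small.2.2.2.2.1, S.φ_one]

theorem zs_comm : Commute z (S.φ sIx) := (S.φ_cen _ sIx_lt).symm

theorem s_conj_B : S.φ sIx * S.B = S.B ^ 2 * S.φ sIx := by
  obtain ⟨l2, e2⟩ := S.pw_lt bi_lt 2
  rw [B, ← e2]
  exact S.eq_mul sIx_lt bi_lt l2 sIx_lt local_small.2.2.2.2.2.2.2.2.1

theorem zs_eq : S.φ (hh zI sIx) = z * S.φ sIx := by rw [(S.φ_mul _ zI_lt _ sIx_lt).2, S.φ_z]

/-- The companions do not commute with the turning element. -/
theorem R_B (h : Commute S.R S.B) : False := by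
  refine S.sB ?_
  have e : S.R * z * S.R⁻¹ = S.φ sIx := by rw [S.R_z]; group
  rw [← e]
  exact ((h.mul_left S.hzB).mul_left h.inv_left).eq

/-- The group of order sixteen. -/
def A16 : Subgroup G where
  carrier := {g | ∃ u ∈ sideA1, S.φ u = g}
  one_mem' := ⟨oI, List.contains_iff_mem.1 (by decide +kernel), S.φ_one⟩
  mul_mem' := by
    rintro _ _ ⟨u, hu, rfl⟩ ⟨v, hv, rfl⟩
    have h := List.all_eq_true.1 (List.all_eq_true.1 local_act.2.2.2.1 u hu) v hv
    simp only [Bool.and_eq_true, List.contains_iff_mem] at h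
    have lt : ∀ w ∈ sideA1, w < 1152 := by decide +kernel
    exact ⟨hh u v, h.1.1, (S.φ_mul u (lt u hu) v (lt v hv)).2⟩
  inv_mem' := by
    rintro _ ⟨u, hu, rfl⟩
    have h := List.all_eq_true.1 (List.all_eq_true.1 local_act.2.2.2.1 u hu) u hu
    simp only [Bool.and_eq_true, beq_iff_eq] at h
    have lt : ∀ w ∈ sideA1, w < 1152 := by decide +kernel
    refine ⟨u, hu, (inv_eq_of_mul_eq_one_right ?_).symm⟩
    rw [← (S.φ_mul u (lt u hu) u (lt u hu)).2, h.2, S.φ_one]

theorem A16_lt {u : Nat} (hu : u ∈ sideA1) : u < 1152 := by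
  have lt : ∀ w ∈ sideA1, w < 1152 := by decide +kernel
  exact lt u hu

theorem A16_comm {a b : G} (ha : a ∈ S.A16) (hb : b ∈ S.A16) : Commute a b := by
  obtain ⟨u, hu, rfl⟩ := ha
  obtain ⟨v, hv, rfl⟩ := hb
  have h := List.all_eq_true.1 (List.all_eq_true.1 local_act.2.2.2.1 u hu) v hv
  simp only [Bool.and_eq_true, beq_iff_eq] at h
  exact S.eq_mul (A16_lt hu) (A16_lt hv) (A16_lt hv) (A16_lt hu) h.1.2

theorem card_A16 [Finite G] : Nat.card S.A16 = 16 := by
  classical
  have e : (S.A16 : Set G) = ((sideA1.toFinset.image S.φ : Finset G) : Set G) := by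
    ext g
    simp [A16]
  rw [← SetLike.coe_sort_coe, e, Nat.card_coe_set_eq, Set.ncard_coe_finset,
    Finset.card_image_of_injOn, List.toFinset_card_of_nodup local_act.2.2.2.2.2.2, local_act.2.2.2.2.2.1]
  intro a ha b hb h
  exact S.φ_inj a (A16_lt (List.mem_toFinset.1 ha)) b (A16_lt (List.mem_toFinset.1 hb)) h

theorem val_abWord (a b : Nat) : S.val (abWord a b) = S.X ^ a * S.R ^ b := by
  rw [abWord, val_append, val_pow, val_pow, (S.val_H local_words.1).2]
  rfl

theorem act_word {w : List Nat} (hw : ∀ u ∈ sideA1, actW w u ∈ sideA1) :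
    ∀ u ∈ sideA1, S.val w * S.φ u = S.φ (actW w u) * S.val w ∧ actW w u < 1152 := by
  intro u hu
  have h := A16_lt (hw u hu)
  exact ⟨(S.act_sound h).2, h⟩

theorem act_A1 {w : List Nat} (hw : w ∈ [sideX1, rpW, gW, invW gW]) : ∀ u ∈ sideA1, actW w u ∈ sideA1 :=
  fun u hu => List.contains_iff_mem.1 (List.all_eq_true.1 (List.all_eq_true.1 local_act.1 u hu) w hw)

/-- The turned companion commutes with the companion. -/
theorem B_turn [Finite G] (he : S.val relEx1 = 1) : Commute S.B (S.R * S.B * S.R⁻¹) := by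
  classical
  by_contra hbad
  have RX := S.R_X he
  obtain ⟨s, hs⟩ : ∃ s, s = S.φ sIx := ⟨_, rfl⟩
  have s2 : s * s = 1 := hs ▸ S.s_sq
  have szc : Commute z s := hs ▸ S.zs_comm
  have si : s⁻¹ = s := inv_eq_of_mul_eq_one_right s2
  have zi : z⁻¹ = z := inv_eq_of_mul_eq_one_right S.zsq
  obtain ⟨C, hCdef⟩ : ∃ C, C = centralizer ({S.X, S.B} : Set G) := ⟨_, rfl⟩
  have memC : ∀ c, c ∈ C ↔ c * S.X = S.X * c ∧ c * S.B = S.B * c := by
    intro c
    rw [hCdef, mem_centralizer_iff]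
    exact ⟨fun h => ⟨(h _ (by simp)).symm, (h _ (by simp)).symm⟩, fun h u hu => by
      rcases hu with rfl | rfl
      exacts [h.1.symm, h.2.symm]⟩
  have zC : z ∈ C := (memC z).2 ⟨S.hzX.eq, S.hzB.eq⟩
  have memP9 : ∀ p ∈ S.P9, ∀ c ∈ C, Commute c p := by
    intro p hp c hc
    obtain ⟨a, -, b, -, rfl⟩ := mem_pairSub.1 hp
    exact (Commute.pow_right ((memC c).1 hc).1 a).mul_right (Commute.pow_right ((memC c).1 hc).2 b)
  have c18 : ∀ c ∈ C, c * z = z * c → c ^ 18 = 1 ∧ (c * c = 1 → c = 1 ∨ c = z) := by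
    intro c hc hcz
    obtain ⟨i, hi, rfl⟩ := S.φ_surj c hcz
    have h := List.all_eq_true.1 local_cent i (List.mem_range.2 hi)
    simp only [S.idx_eq hi xi_lt xi_lt hi ((memC _).1 hc).1, S.idx_eq hi bi_lt bi_lt hi ((memC _).1 hc).2,
      beq_self_eq_true, Bool.and_self, Bool.not_true, Bool.false_or, List.contains_iff_mem] at h
    have h' := List.all_eq_true.1 local_c18 i h
    simp only [Bool.and_eq_true, Bool.or_eq_true, Bool.not_eq_true', beq_eq_false_iff_ne, beq_iff_eq] at h'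
    refine ⟨by rw [← (S.pw_lt hi 18).2, h'.2, S.φ_one], fun hcc => ?_⟩
    rcases h'.1.2 with (h2 | h2) | h2
    · exact absurd (S.φ_inj _ (S.φ_mul i hi i hi).1 _ oI_lt (by rw [(S.φ_mul i hi i hi).2, hcc, S.φ_one])) h2
    · exact Or.inl (by rw [h2, S.φ_one])
    · exact Or.inr (by rw [h2, S.φ_z])
  obtain ⟨M, hMC, hModd, hcover, hMmem⟩ := exists_odd_part C zC S.zne S.zsq (by
    intro c hc hcz k hk
    obtain ⟨h18, h2⟩ := c18 c hc hcz
    refine h2 ?_
    have h1 : orderOf c ∣ 2 * 9 := orderOf_dvd_of_pow_eq_one h18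
    have h3 : Nat.Coprime (orderOf c) 9 :=
      Nat.Coprime.coprime_dvd_left (orderOf_dvd_of_pow_eq_one hk) (Nat.Coprime.pow_left k (by norm_num))
    rw [← pow_two]
    exact orderOf_dvd_iff_pow_eq_one.1 (h3.dvd_of_dvd_mul_right h1))
  have hoddM : ∀ m ∈ M, Odd (orderOf m) := fun m hm =>
    hModd.of_dvd_nat (Subgroup.orderOf_dvd_natCard M hm)
  -- the four group
  let V : Subgroup G :=
    { carrier := {u | u = 1 ∨ u = z ∨ u = s ∨ u = z * s}
      one_mem' := Or.inl rfl
      mul_mem' := by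
        have a1 : z * (z * s) = s := by rw [← mul_assoc, S.zsq, one_mul]
        have a2 : s * (z * s) = z := by rw [← mul_assoc, ← szc.eq, mul_assoc, s2, mul_one]
        have a3 : z * s * z = s := by rw [mul_assoc, ← szc.eq, a1]
        have a4 : z * s * s = z := by rw [mul_assoc, s2, mul_one]
        have a5 : z * s * (z * s) = 1 := by rw [← mul_assoc, a3, s2]
        rintro u v (rfl | rfl | rfl | rfl) (rfl | rfl | rfl | rfl) <;>
          simp [S.zsq, s2, szc.eq.symm, a1, a2, a3, a4, a5]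
      inv_mem' := by
        rintro u (rfl | rfl | rfl | rfl)
        · exact Or.inl inv_one
        · exact Or.inr (Or.inl zi)
        · exact Or.inr (Or.inr (Or.inl si))
        · refine Or.inr (Or.inr (Or.inr ?_))
          rw [mul_inv_rev, si, zi]
          exact szc.eq.symm }
  have hV2 : ∀ u ∈ V, u * u = 1 := by
    rintro u (rfl | rfl | rfl | rfl)
    · exact one_mul 1
    · exact S.zsq
    · exact s2
    · calc z * s * (z * s) = z * (s * z) * s := by group
        _ = z * (z * s) * s := by rw [szc.eq]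
        _ = (z * z) * (s * s) := by group
        _ = 1 := by rw [S.zsq, s2, one_mul]
  haveI : IsMulCommutative V := ⟨⟨fun a b => Subtype.ext (by
    show (a : G) * b = b * a
    calc (a : G) * b = ((a : G) * b)⁻¹ := (inv_eq_of_mul_eq_one_right (hV2 _ (V.mul_mem a.2 b.2))).symm
      _ = (b : G)⁻¹ * (a : G)⁻¹ := mul_inv_rev _ _
      _ = _ := by rw [inv_eq_of_mul_eq_one_right (hV2 _ a.2), inv_eq_of_mul_eq_one_right (hV2 _ b.2)])⟩⟩
  have zV : z ∈ V := Or.inr (Or.inl rfl)
  have sV : s ∈ V := Or.inr (Or.inr (Or.inl rfl))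
  have hVnc : ¬ IsCyclic V := by
    intro hc
    obtain ⟨g, hg⟩ := hc.exists_generator
    have hg2 : ∀ u : V, u = 1 ∨ u = g := fun u => by
      obtain ⟨k, rfl⟩ := mem_zpowers_iff.1 (hg u)
      have h2 : g ^ (2 : ℤ) = 1 := by rw [zpow_two]; exact Subtype.ext (hV2 _ g.2)
      rcases Int.even_or_odd k with ⟨m, rfl⟩ | ⟨m, rfl⟩
      · exact Or.inl (by rw [← two_mul, zpow_mul, h2, one_zpow])
      · exact Or.inr (by rw [zpow_add, zpow_mul, h2, one_zpow, one_mul, zpow_one])
    have n1 : (⟨z, zV⟩ : V) = g := (hg2 _).resolve_left fun e => S.zne (congrArg Subtype.val e)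
    have n2 : (⟨s, sV⟩ : V) = g := (hg2 _).resolve_left fun e => S.s_ne_one (hs ▸ congrArg Subtype.val e)
    exact S.s_ne_z (hs ▸ congrArg Subtype.val (n2.trans n1.symm))
  have sCs : ∀ c ∈ C, s * c * s ∈ C := by
    intro c hc
    obtain ⟨cX, cB⟩ := (memC c).1 hc
    have sX : Commute s S.X := hs ▸ S.hsX
    refine (memC _).2 ⟨((sX.mul_left cX).mul_left sX).eq, ?_⟩
    have e1 : s * S.B = S.B ^ 2 * s := hs ▸ S.s_conj_B
    have e2 : s * S.B ^ 2 = S.B * s := by
      rw [pow_two, ← mul_assoc, e1, mul_assoc, e1, ← mul_assoc, ← pow_add, show 2 + 2 = 3 + 1 from rfl, pow_add,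
        S.B3, one_mul, pow_one]
    calc s * c * s * S.B = s * c * (S.B ^ 2 * s) := by rw [mul_assoc, e1]
      _ = s * (c * S.B ^ 2) * s := by group
      _ = s * (S.B ^ 2 * c) * s := by rw [(Commute.pow_right cB 2).eq]
      _ = S.B * s * c * s := by rw [← mul_assoc, e2]
      _ = _ := by group
  have hconjM : ∀ u ∈ V, ∀ c ∈ C, u * c * u ∈ C := by
    rintro u (rfl | rfl | rfl | rfl) c hc
    · simpa using hc
    · exact C.mul_mem (C.mul_mem zC hc) zC
    · exact sCs c hc
    · have e : z * s * c * (z * s) = z * (s * c * s) * z := by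
        calc z * s * c * (z * s) = z * s * c * (s * z) := by rw [szc.eq]
          _ = _ := by group
      rw [e]
      exact C.mul_mem (C.mul_mem zC (sCs c hc)) zC
  have hVM : V ≤ normalizer (M : Set G) := by
    intro u hu
    have ui : u⁻¹ = u := inv_eq_of_mul_eq_one_right (hV2 u hu)
    have key : ∀ m ∈ M, u * m * u⁻¹ ∈ M := fun m hm =>
      hMmem _ (by rw [ui]; exact hconjM u hu m (hMC hm))
        (by
          have e : orderOf (u * m * u⁻¹) = orderOf m :=
            orderOf_injective (MulAut.conj u).toMonoidHom (MulAut.conj u).injective m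
          rw [e]; exact hoddM m hm)
    refine mem_normalizer_iff.2 fun m => ⟨key m, fun hm => ?_⟩
    have h := key _ hm
    rwa [show u * (u * m * u⁻¹) * u⁻¹ = (u * u) * m * (u * u)⁻¹ by group, hV2 u hu, one_mul, inv_one, mul_one] at h
  have hcop : (Nat.card V).Coprime (Nat.card M) := by
    obtain ⟨k, hk⟩ := IsPGroup.iff_card.1 (show IsPGroup 2 V from fun u => ⟨1, Subtype.ext (by
      show (u : G) ^ (2 ^ 1) = 1
      rw [pow_one, pow_two]; exact hV2 _ u.2)⟩)
    rw [hk]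
    exact (Nat.coprime_two_left.2 hModd).pow_left k
  have hMP : M ≤ S.P9 := by
    have hgen := Cfsg.Agent.S0058.result V M hVnc hVM hcop
    refine hgen.symm.le.trans (iSup₂_le ?_)
    rintro a ⟨ha, ha1⟩ m ⟨hm, hma⟩
    have hmC := (memC m).1 (hMC hm)
    have hcom : m * a = a * m := mem_centralizer_singleton_iff.1 hma
    have hodd := hoddM m hm
    rcases ha with ha | ha | ha | ha <;> rw [ha] at hcom
    · exact absurd ha ha1
    · obtain ⟨h36, h9⟩ := S.cx hcom hmC.1
      exact h9 (odd_nine h36 hodd)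
    · have kz : S.R⁻¹ * m * S.R * z = z * (S.R⁻¹ * m * S.R) := by
        have e : S.R⁻¹ * s * S.R = z := by rw [hs, mul_assoc, ← S.R_z]; group
        calc S.R⁻¹ * m * S.R * z = S.R⁻¹ * m * (S.R * z) := by group
          _ = S.R⁻¹ * (m * s) * S.R := by rw [S.R_z, hs]; group
          _ = S.R⁻¹ * s * S.R * (S.R⁻¹ * m * S.R) := by rw [hcom]; group
          _ = _ := by rw [e]
      obtain ⟨h36, h9⟩ := S.cx kz (((RX.inv_left.mul_left hmC.1).mul_left RX).eq)
      have ho : orderOf (S.R⁻¹ * m * S.R) = orderOf m := by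
        have := orderOf_injective (MulAut.conj S.R⁻¹).toMonoidHom (MulAut.conj S.R⁻¹).injective m
        simpa using this
      obtain ⟨a, ha, b, hb, hab⟩ := mem_pairSub.1 (h9 (odd_nine h36 (ho ▸ hodd)))
      have hm' : m = S.X ^ a * (S.R * S.B * S.R⁻¹) ^ b := by
        have e1 : S.R * S.X ^ a * S.R⁻¹ = S.X ^ a := by rw [(RX.pow_right a).eq]; group
        calc m = S.R * (S.R⁻¹ * m * S.R) * S.R⁻¹ := by group
          _ = S.R * S.X ^ a * S.R⁻¹ * (S.R * S.B ^ b * S.R⁻¹) := by rw [hab]; group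
          _ = _ := by rw [e1, conj_pow]
      rcases Nat.eq_zero_or_pos b with rfl | hb0
      · rw [hm', pow_zero, mul_one]
        exact mem_pairSub.2 ⟨a, ha, 0, by norm_num, by rw [pow_zero, mul_one]⟩
      · exfalso
        have hX : Commute S.B (S.X ^ a) := (S.XB.symm).pow_right a
        have hW : Commute S.B ((S.R * S.B * S.R⁻¹) ^ b) := by
          have h : Commute S.B ((S.X ^ a)⁻¹ * m) := hX.inv_right.mul_right (hmC.2.symm)
          rwa [hm', inv_mul_cancel_left] at h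
        have hW3 : (S.R * S.B * S.R⁻¹) ^ 3 = 1 := by rw [conj_pow, S.B3]; group
        interval_cases b
        · exact hbad (by simpa using hW)
        · refine hbad ?_
          have := hW.pow_right 2
          rwa [← pow_mul, show 2 * 2 = 3 + 1 from rfl, pow_add, hW3, one_mul, pow_one] at this
    · have kz : S.R * m * S.R⁻¹ * z = z * (S.R * m * S.R⁻¹) := by
        have e : S.R * (z * s) * S.R⁻¹ = z := by
          rw [hs, ← S.zs_eq, S.R_zs]; group
        calc S.R * m * S.R⁻¹ * z = S.R * m * S.R⁻¹ * (S.R * (z * s) * S.R⁻¹) := by rw [e]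
          _ = S.R * (m * (z * s)) * S.R⁻¹ := by group
          _ = S.R * (z * s) * S.R⁻¹ * (S.R * m * S.R⁻¹) := by rw [hcom]; group
          _ = _ := by rw [e]
      obtain ⟨h36, h9⟩ := S.cx kz (((RX.mul_left hmC.1).mul_left RX.inv_left).eq)
      have ho : orderOf (S.R * m * S.R⁻¹) = orderOf m :=
        orderOf_injective (MulAut.conj S.R).toMonoidHom (MulAut.conj S.R).injective m
      obtain ⟨a, ha, b, hb, hab⟩ := mem_pairSub.1 (h9 (odd_nine h36 (ho ▸ hodd)))
      have hm' : m = S.X ^ a * (S.R⁻¹ * S.B * S.R) ^ b := by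
        have e1 : S.R⁻¹ * S.X ^ a * S.R = S.X ^ a := by rw [mul_assoc, ← (RX.pow_right a).eq]; group
        have e2 : (S.R⁻¹ * S.B * S.R) ^ b = S.R⁻¹ * S.B ^ b * S.R := by
          have := conj_pow (i := b) (a := S.R⁻¹) (b := S.B)
          rwa [inv_inv] at this
        calc m = S.R⁻¹ * (S.R * m * S.R⁻¹) * S.R := by group
          _ = S.R⁻¹ * S.X ^ a * S.R * (S.R⁻¹ * S.B ^ b * S.R) := by rw [hab]; group
          _ = _ := by rw [e1, e2]
      rcases Nat.eq_zero_or_pos b with rfl | hb0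
      · rw [hm', pow_zero, mul_one]
        exact mem_pairSub.2 ⟨a, ha, 0, by norm_num, by rw [pow_zero, mul_one]⟩
      · exfalso
        have hX : Commute S.B (S.X ^ a) := (S.XB.symm).pow_right a
        have hW : Commute S.B ((S.R⁻¹ * S.B * S.R) ^ b) := by
          have h : Commute S.B ((S.X ^ a)⁻¹ * m) := hX.inv_right.mul_right (hmC.2.symm)
          rwa [hm', inv_mul_cancel_left] at h
        have hW3 : (S.R⁻¹ * S.B * S.R) ^ 3 = 1 := by
          have := conj_pow (i := 3) (a := S.R⁻¹) (b := S.B)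
          rw [inv_inv, S.B3] at this
          rw [this]; group
        have hW1 : Commute S.B (S.R⁻¹ * S.B * S.R) := by
          interval_cases b
          · simpa using hW
          · have := hW.pow_right 2
            rwa [← pow_mul, show 2 * 2 = 3 + 1 from rfl, pow_add, hW3, one_mul, pow_one] at this
        refine hbad ?_
        have e : Commute (S.R * S.B * S.R⁻¹) (S.R * (S.R⁻¹ * S.B * S.R) * S.R⁻¹) := by
          show _ = _
          calc _ = S.R * (S.B * (S.R⁻¹ * S.B * S.R)) * S.R⁻¹ := by group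
            _ = _ := by rw [hW1.eq]; group
        rw [show S.R * (S.R⁻¹ * S.B * S.R) * S.R⁻¹ = S.B by group] at e
        exact e.symm
  have zP : ∀ p ∈ S.P9, Commute z p := fun p hp => memP9 p hp z zC
  have Cz : ∀ c ∈ C, c * z = z * c := by
    intro c hc
    rcases hcover c hc with h | h
    · exact (zP c (hMP h)).eq.symm
    · have := zP _ (hMP h)
      calc c * z = z⁻¹ * (z * c * z) := by group
        _ = z⁻¹ * (z * (z * c)) := by rw [this.eq]
        _ = _ := by group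
  -- the normaliser of the group of order nine
  have norm9 : ∀ g : G, (∀ u, u ∈ S.P9 ↔ g * u * g⁻¹ ∈ S.P9) →
      g * z = z * g ∧ (g * S.X * g⁻¹ = S.X ∨ g * S.X * g⁻¹ = S.X ^ 2) := by
    intro g hg
    have hX9 : S.X ∈ S.P9 := mem_pairSub.2 ⟨1, by norm_num, 0, by norm_num, by simp⟩
    have hB9 : S.B ∈ S.P9 := mem_pairSub.2 ⟨0, by norm_num, 1, by norm_num, by simp⟩
    have hzg : g * z * g⁻¹ ∈ C := by
      have key : ∀ v ∈ S.P9, g * z * g⁻¹ * v = v * (g * z * g⁻¹) := fun v hv => by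
        have hv' : g⁻¹ * v * g ∈ S.P9 := (hg _).2 (by
          rwa [show g * (g⁻¹ * v * g) * g⁻¹ = v by group])
        calc g * z * g⁻¹ * v = g * (z * (g⁻¹ * v * g)) * g⁻¹ := by group
          _ = g * (g⁻¹ * v * g * z) * g⁻¹ := by rw [(zP _ hv').eq]
          _ = _ := by group
      exact (memC _).2 ⟨key _ hX9, key _ hB9⟩
    have hz' : g * z * g⁻¹ = z := by
      refine ((c18 _ hzg (Cz _ hzg)).2 (by
        calc g * z * g⁻¹ * (g * z * g⁻¹) = g * (z * z) * g⁻¹ := by group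
          _ = 1 := by rw [S.zsq]; group)).resolve_left fun e => S.zne (by
        calc z = g⁻¹ * (g * z * g⁻¹) * g := by group
          _ = 1 := by rw [e]; group)
    have hgz : g * z = z * g := by
      calc g * z = g * z * g⁻¹ * g := by group
        _ = _ := by rw [hz']
    refine ⟨hgz, ?_⟩
    obtain ⟨i, hi, rfl⟩ := S.φ_surj g hgz
    have conv : ∀ v < 1152, S.φ i * S.φ v * (S.φ i)⁻¹ ∈ S.P9 → (p9List.any fun p => hh i v == hh p i) = true := by
      intro v hv h
      obtain ⟨p, hp, hpl, ep⟩ := (S.p9_iff _).1 h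
      refine List.any_eq_true.2 ⟨p, hp, beq_iff_eq.2 (S.idx_eq hi hv hpl hi ?_)⟩
      rw [ep]; group
    have h := List.all_eq_true.1 local_norm i (List.mem_range.2 hi)
    simp only [conv xi xi_lt ((hg _).1 hX9), conv bi bi_lt ((hg _).1 hB9), Bool.and_self, Bool.not_true, Bool.false_or,
      Bool.or_eq_true, beq_iff_eq] at h
    rcases h with h | h
    · left
      rw [X, S.eq_mul hi xi_lt xi_lt hi h]; group
    · right
      obtain ⟨l2, e2⟩ := S.pw_lt xi_lt 2
      rw [X, S.eq_mul hi xi_lt l2 hi h, e2]; group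
  -- Sylow subgroups of the centraliser of `X`
  obtain ⟨Cx, hCx⟩ : ∃ Cx, Cx = centralizer ({S.X} : Set G) := ⟨_, rfl⟩
  have memCx : ∀ u, u ∈ Cx ↔ u * S.X = S.X * u := fun u => by rw [hCx, mem_centralizer_singleton_iff]
  have hP9C : S.P9 ≤ Cx := by
    intro u hu
    obtain ⟨a, -, b, -, rfl⟩ := mem_pairSub.1 hu
    exact (memCx _).2 ((((Commute.refl S.X).pow_left a).mul_left (S.XB.symm.pow_left b)).eq)
  haveI : Fact (Nat.Prime 3) := ⟨Nat.prime_three⟩
  have h9sylow : Nat.card S.P9 = 3 ^ (Nat.card Cx).factorization 3 := by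
    have hp : IsPGroup 3 (S.P9.subgroupOf Cx) := IsPGroup.of_card (n := 2) (by
      rw [Nat.card_congr (subgroupOfEquivOfLe hP9C).toEquiv, S.card_P9]; rfl)
    obtain ⟨T, hT⟩ := hp.exists_le_sylow
    have heq : (T : Subgroup Cx) ≤ S.P9.subgroupOf Cx := by
      by_contra hle
      haveI := T.isPGroup'.isNilpotent
      have hlt : (S.P9.subgroupOf Cx).subgroupOf T < ⊤ := by
        refine lt_top_iff_ne_top.2 fun e => hle ?_
        exact subgroupOf_eq_top.1 e
      obtain ⟨g, hgN, hgn⟩ := SetLike.exists_of_lt (Group.normalizerCondition_of_isNilpotent _ hlt)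
      have hnorm : ∀ u, u ∈ S.P9 ↔ ((g : Cx) : G) * u * ((g : Cx) : G)⁻¹ ∈ S.P9 := by
        intro u
        constructor
        · intro hu
          have := (mem_normalizer_iff.1 hgN ⟨⟨u, hP9C hu⟩, hT (mem_subgroupOf.2 hu)⟩).1
            (mem_subgroupOf.2 (mem_subgroupOf.2 hu))
          exact mem_subgroupOf.1 (mem_subgroupOf.1 this)
        · intro hu
          have hv := hT (mem_subgroupOf.2 (show ((⟨_, hP9C hu⟩ : Cx) : G) ∈ S.P9 from hu))
          have := (mem_normalizer_iff.1 hgN (g⁻¹ * ⟨⟨_, hP9C hu⟩, hv⟩ * g)).2 (by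
            rw [show g * (g⁻¹ * ⟨⟨_, hP9C hu⟩, hv⟩ * g) * g⁻¹ = ⟨⟨_, hP9C hu⟩, hv⟩ by group]
            exact mem_subgroupOf.2 (mem_subgroupOf.2 hu))
          have h' := mem_subgroupOf.1 (mem_subgroupOf.1 this)
          simpa [mul_assoc] using h'
      obtain ⟨gz, -⟩ := norm9 _ hnorm
      obtain ⟨h36, h9⟩ := S.cx gz ((memCx _).1 (g : Cx).2)
      obtain ⟨k, hk⟩ := T.isPGroup' g
      refine hgn (mem_subgroupOf.2 (mem_subgroupOf.2 (h9 ?_)))
      have e : ((g : Cx) : G) ^ 3 ^ k = 1 := congrArg (fun u : (T : Subgroup Cx) => ((u : Cx) : G)) hk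
      have h1 : orderOf ((g : Cx) : G) ∣ 9 * 4 := orderOf_dvd_of_pow_eq_one h36
      have h2 : Nat.Coprime (orderOf ((g : Cx) : G)) 4 :=
        Nat.Coprime.coprime_dvd_left (orderOf_dvd_of_pow_eq_one e) (Nat.Coprime.pow_left k (by norm_num))
      exact orderOf_dvd_iff_pow_eq_one.1 (h2.dvd_of_dvd_mul_right h1)
    rw [← T.card_eq_multiplicity, le_antisymm heq hT, Nat.card_congr (subgroupOfEquivOfLe hP9C).toEquiv]
  -- the second group of order nine
  let P' : Subgroup G := pairSub S.X S.R S.X3 S.R3 RX.symm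
  have Rnz : ∀ b, 0 < b → b < 3 → ¬ Commute (S.R ^ b) z := by
    intro b h0 h3 hc
    have h1 : Commute S.R z := by
      interval_cases b
      · simpa using hc
      · have := hc.pow_left 2
        rwa [← pow_mul, show 2 * 2 = 3 + 1 from rfl, pow_add, S.R3, one_mul, pow_one] at this
    refine S.s_ne_z (mul_right_cancel (b := S.R) ?_)
    rw [← S.R_z]; exact h1.eq
  have card' : Nat.card P' = 9 := by
    refine card_pairSub _ _ _ fun a ha b hb c hc d hd e => ?_
    have hbd : b = d := by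
      have key : ∀ b d, b < d → d < 3 → ∀ a c, S.X ^ a * S.R ^ b = S.X ^ c * S.R ^ d → False := by
        intro b d hlt hd a c e
        refine Rnz (d - b) (by omega) (by omega) ?_
        have hR : S.R ^ (d - b) = (S.X ^ c)⁻¹ * S.X ^ a := by
          have e' : S.R ^ d = S.R ^ (d - b) * S.R ^ b := by rw [← pow_add, Nat.sub_add_cancel hlt.le]
          rw [e', ← mul_assoc] at e
          rw [mul_right_cancel e, inv_mul_cancel_left]
        rw [hR]
        exact ((S.hzX.pow_right c).inv_right.mul_right (S.hzX.pow_right a)).symm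
      rcases Nat.lt_trichotomy b d with h | h | h
      · exact (key b d h hd a c e).elim
      · exact h
      · exact (key d b h hb c a e.symm).elim
    subst hbd
    refine ⟨?_, rfl⟩
    have e' := mul_right_cancel e
    obtain ⟨l1, e1⟩ := S.pw_lt xi_lt a
    obtain ⟨l2, e2⟩ := S.pw_lt xi_lt c
    have h := S.φ_inj _ l1 _ l2 (by rw [e1, e2]; exact e')
    have f : ∀ a < 3, ∀ c < 3, pw xi a = pw xi c → a = c := by decide +kernel
    exact f a ha c hc h
  have hP'C : P' ≤ Cx := by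
    intro u hu
    obtain ⟨a, -, b, -, rfl⟩ := mem_pairSub.1 hu
    exact (memCx _).2 ((((Commute.refl S.X).pow_left a).mul_left (RX.pow_left b)).eq)
  obtain ⟨c, hc, hcP⟩ := conj_of_card hP'C hP9C (by rw [card', ← S.card_P9, h9sylow]) h9sylow
  have hcX : c * S.X = S.X * c := (memCx c).1 hc
  have normP' : ∀ u : G, (∀ v, v ∈ P' ↔ u * v * u⁻¹ ∈ P') → u * S.X * u⁻¹ = S.X ∨ u * S.X * u⁻¹ = S.X ^ 2 := by
    intro u hu
    have cX : c * S.X * c⁻¹ = S.X := by rw [hcX]; group
    have cX' : c⁻¹ * S.X * c = S.X := by rw [mul_assoc, ← hcX]; group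
    obtain ⟨-, h⟩ := norm9 (c * u * c⁻¹) (fun w => by
      have h1 := hcP (c⁻¹ * w * c)
      rw [show c * (c⁻¹ * w * c) * c⁻¹ = w by group] at h1
      have h2 := hcP (u * (c⁻¹ * w * c) * u⁻¹)
      rw [← h1, hu, h2]
      rw [show c * (u * (c⁻¹ * w * c) * u⁻¹) * c⁻¹ = c * u * c⁻¹ * w * (c * u * c⁻¹)⁻¹ by group])
    have e : c * u * c⁻¹ * S.X * (c * u * c⁻¹)⁻¹ = c * (u * S.X * u⁻¹) * c⁻¹ := by
      calc _ = c * (u * (c⁻¹ * S.X * c) * u⁻¹) * c⁻¹ := by group
        _ = _ := by rw [cX']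
    rcases h with h | h <;> rw [e] at h
    · left
      calc u * S.X * u⁻¹ = c⁻¹ * (c * (u * S.X * u⁻¹) * c⁻¹) * c := by group
        _ = _ := by rw [h, cX']
    · right
      calc u * S.X * u⁻¹ = c⁻¹ * (c * (u * S.X * u⁻¹) * c⁻¹) * c := by group
        _ = c⁻¹ * S.X ^ 2 * c := by rw [h]
        _ = _ := by rw [mul_assoc, ← (Commute.pow_right hcX 2).eq]; group
  -- the product with the group of order sixteen
  have normA : ∀ q ∈ P', ∀ α ∈ S.A16, q * α * q⁻¹ ∈ S.A16 := by
    intro q hq α hα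
    obtain ⟨u, hu, rfl⟩ := hα
    obtain ⟨a, ha, b, hb, rfl⟩ := mem_pairSub.1 hq
    have hmem : ∀ v ∈ sideA1, actW (abWord a b) v ∈ sideA1 := fun v hv =>
      List.contains_iff_mem.1 (List.all_eq_true.1 (List.all_eq_true.1 (List.all_eq_true.1 local_act.2.2.2.2.1 v hv)
        a (List.mem_range.2 ha)) b (List.mem_range.2 hb))
    obtain ⟨e, -⟩ := S.act_word hmem u hu
    rw [S.val_abWord] at e
    exact ⟨_, hmem u hu, by rw [e]; group⟩
  let J : Subgroup G :=
    { carrier := {g | ∃ q ∈ P', ∃ α ∈ S.A16, g = q * α}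
      one_mem' := ⟨1, P'.one_mem, 1, S.A16.one_mem, by simp⟩
      mul_mem' := by
        rintro _ _ ⟨q, hq, α, hα, rfl⟩ ⟨r, hr, β, hβ, rfl⟩
        refine ⟨q * r, P'.mul_mem hq hr, r⁻¹ * α * r * β, S.A16.mul_mem ?_ hβ, by group⟩
        simpa using normA r⁻¹ (P'.inv_mem hr) α hα
      inv_mem' := by
        rintro _ ⟨q, hq, α, hα, rfl⟩
        exact ⟨q⁻¹, P'.inv_mem hq, q * α⁻¹ * q⁻¹, normA q hq _ (S.A16.inv_mem hα), by group⟩ }
  have hP'J : P' ≤ J := fun q hq => ⟨q, hq, 1, S.A16.one_mem, by simp⟩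
  have hAJ : S.A16 ≤ J := fun α hα => ⟨1, P'.one_mem, α, hα, by simp⟩
  have cardJ : Nat.card J = 144 := by
    have h1 : 9 ∣ Nat.card J := card' ▸ Subgroup.card_dvd_of_le hP'J
    have h2 : 16 ∣ Nat.card J := S.card_A16 ▸ Subgroup.card_dvd_of_le hAJ
    have h3 : Nat.card J ≤ 144 := by
      let f : P' × S.A16 → J := fun p => ⟨p.1 * p.2, p.1, p.1.2, p.2, p.2.2, rfl⟩
      have hf : Function.Surjective f := by
        rintro ⟨g, q, hq, α, hα, rfl⟩
        exact ⟨(⟨q, hq⟩, ⟨α, hα⟩), rfl⟩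
      refine (Nat.card_le_card_of_surjective f hf).trans ?_
      rw [Nat.card_prod, card', S.card_A16]
    have h4 : 0 < Nat.card J := Nat.card_pos
    omega
  obtain ⟨g, hg⟩ : ∃ g, g = S.val gW := ⟨_, rfl⟩
  have gA : ∀ α ∈ S.A16, g * α * g⁻¹ ∈ S.A16 := by
    rintro _ ⟨u, hu, rfl⟩
    have hmem := act_A1 (w := gW) (by simp)
    obtain ⟨e, -⟩ := S.act_word hmem u hu
    exact ⟨_, hmem u hu, by rw [hg, e]; group⟩
  have gX : ∀ p ∈ [sideX1, rpW], g * S.val p * g⁻¹ ∈ J := by
    intro p hp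
    obtain ⟨a, ha, h⟩ := List.any_eq_true.1 (List.all_eq_true.1 local_act.2.1 p hp)
    obtain ⟨b, hb, h⟩ := List.any_eq_true.1 h
    have hmem : ∀ v ∈ sideA1, actW (abWord a b) v ∈ sideA1 := fun v hv =>
      List.contains_iff_mem.1 (List.all_eq_true.1 (List.all_eq_true.1 (List.all_eq_true.1 local_act.2.2.2.2.1 v hv)
        a ha) b hb)
    obtain ⟨β, hβ⟩ : ∃ β, β = (S.X ^ a * S.R ^ b)⁻¹ * (g * S.val p * g⁻¹) := ⟨_, rfl⟩
    have hcA : ∀ u ∈ sideA1, β * S.φ u = S.φ u * β := by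
      intro u hu
      obtain ⟨e1, l1⟩ := S.act_word hmem u hu
      have e2 : actW (conjW gW p) u = actW (abWord a b) u := beq_iff_eq.1 (List.all_eq_true.1 h u hu)
      have e3 := (S.act_sound (w := conjW gW p) (u := u) (by rw [e2]; exact l1)).2
      rw [e2, S.val_conj, ← hg] at e3
      rw [S.val_abWord] at e1
      rw [hβ]
      calc (S.X ^ a * S.R ^ b)⁻¹ * (g * S.val p * g⁻¹) * S.φ u
          = (S.X ^ a * S.R ^ b)⁻¹ * (g * S.val p * g⁻¹ * S.φ u) := by group
        _ = (S.X ^ a * S.R ^ b)⁻¹ * (S.φ (actW (abWord a b) u) * (S.X ^ a * S.R ^ b)) *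
            ((S.X ^ a * S.R ^ b)⁻¹ * (g * S.val p * g⁻¹)) := by rw [e3]; group
        _ = _ := by rw [← e1]; group
    have hzA : zI ∈ sideA1 := List.contains_iff_mem.1 (by decide +kernel)
    obtain ⟨k, hk, ek⟩ := S.φ_surj β (by
      have := hcA zI hzA
      simpa only [S.φ_z] using this)
    have hkA : k ∈ sideA1 := by
      have hcen := ext_ok.1
      simp only [fpfOk, Bool.and_eq_true] at hcen
      have h' := List.all_eq_true.1 hcen.2 k (List.mem_range.2 hk)
      have hall : (sideA1.all fun a => hh k a == hh a k) = true :=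
        List.all_eq_true.2 fun u hu => beq_iff_eq.2 (S.idx_eq hk (A16_lt hu) (A16_lt hu) hk (by
          rw [ek]; exact hcA u hu))
      simpa [hall, List.contains_iff_mem] using h'
    exact ⟨_, mem_pairSub.2 ⟨a, List.mem_range.1 ha, b, List.mem_range.1 hb, rfl⟩, β, ⟨k, hkA, ek⟩, by rw [hβ]; group⟩
  have hX1 : S.val sideX1 = S.X := (S.val_H local_words.1).2
  let P'' : Subgroup G := P'.map (MulAut.conj g).toMonoidHom
  have hP''J : P'' ≤ J := by
    rintro _ ⟨u, hu, rfl⟩
    obtain ⟨a, -, b, -, rfl⟩ := mem_pairSub.1 hu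
    rw [map_mul, map_pow, map_pow]
    refine J.mul_mem (J.pow_mem ?_ a) (J.pow_mem ?_ b)
    · have := gX sideX1 (by simp)
      rwa [hX1] at this
    · exact gX rpW (by simp)
  have card'' : Nat.card P'' = 9 := by
    rw [← card']
    exact (Nat.card_congr (P'.equivMapOfInjective _ (MulAut.conj g).injective).toEquiv).symm
  have hfac : (Nat.card J).factorization 3 = 2 := by
    rw [cardJ, show 144 = 2 ^ 4 * 3 ^ 2 from rfl, Nat.factorization_mul (pow_ne_zero _ (by norm_num)) (pow_ne_zero _ (by norm_num)),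
      Nat.Prime.factorization_pow Nat.prime_two, Nat.Prime.factorization_pow Nat.prime_three, Finsupp.add_apply,
      Finsupp.single_eq_same, Finsupp.single_eq_of_ne (by norm_num)]
  obtain ⟨j, hj, hjP⟩ := conj_of_card hP''J hP'J (by rw [card'', hfac]; rfl) (by rw [card', hfac]; rfl)
  obtain ⟨q, hq, α, hα, rfl⟩ := hj
  have hN := normP' (α * g) (fun v => by
    have h1 : v ∈ P' ↔ g * v * g⁻¹ ∈ P'' := by
      constructor
      · exact fun h => ⟨v, h, rfl⟩
      · rintro ⟨w, hw, e⟩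
        have e' : g * w * g⁻¹ = g * v * g⁻¹ := e
        rwa [← mul_left_cancel (mul_right_cancel e')]
    rw [h1, hjP, show q * α * (g * v * g⁻¹) * (q * α)⁻¹ = q * (α * g * v * (α * g)⁻¹) * q⁻¹ by group]
    constructor
    · intro h
      have := P'.mul_mem (P'.mul_mem (P'.inv_mem hq) h) hq
      simpa [mul_assoc] using this
    · exact fun h => P'.mul_mem (P'.mul_mem hq h) (P'.inv_mem hq))
  have hlast : ∀ e < 3, e ≠ 0 → α * g * S.X * (α * g)⁻¹ = S.X ^ e → False := by
    intro e he3 he0 he'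
    have h := List.all_eq_true.1 local_act.2.2.1 e (List.mem_range.2 he3)
    simp only [beq_eq_false_iff_ne.2 he0, Bool.false_or, List.any_eq_true, Bool.not_eq_true',
      beq_eq_false_iff_ne] at h
    obtain ⟨u, hu, hne⟩ := h
    refine hne ?_
    have hmem : ∀ v ∈ sideA1, actW (abWord e 0) v ∈ sideA1 := fun v hv =>
      List.contains_iff_mem.1 (List.all_eq_true.1 (List.all_eq_true.1 (List.all_eq_true.1 local_act.2.2.2.2.1 v hv)
        e (List.mem_range.2 he3)) 0 (List.mem_range.2 (by norm_num)))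
    obtain ⟨e1, l1⟩ := S.act_word hmem u hu
    rw [S.val_abWord, pow_zero, mul_one] at e1
    have hgu := act_A1 (w := invW gW) (by simp) u hu
    have hxu := act_A1 (w := sideX1) (by simp) _ hgu
    have hg2 := act_A1 (w := gW) (by simp) _ hxu
    have hact : actW (conjW gW sideX1) u = actW gW (actW sideX1 (actW (invW gW) u)) := by
      have happ : ∀ (p q : List Nat) (v : Nat), actW (p ++ q) v = actW p (actW q v) := by
        intro p
        induction p with
        | nil => intros; rfl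
        | cons x p ih => intro q v; simp [actW, ih]
      rw [conjW, happ, happ]
    have e4 := (S.act_sound (w := conjW gW sideX1) (u := u) (by rw [hact]; exact A16_lt hg2)).2
    rw [S.val_conj, hX1, ← hg] at e4
    rw [hact] at e4 ⊢
    have hc1 : Commute α (S.φ u) := S.A16_comm hα ⟨u, hu, rfl⟩
    have hc2 : Commute α (S.φ (actW gW (actW sideX1 (actW (invW gW) u)))) := S.A16_comm hα ⟨_, hg2, rfl⟩
    refine S.φ_inj _ (A16_lt hg2) _ l1 (mul_right_cancel (b := S.X ^ e) ?_)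
    rw [← e1, ← he']
    symm
    calc α * g * S.X * (α * g)⁻¹ * S.φ u = α * (g * S.X * g⁻¹) * (α⁻¹ * S.φ u) := by group
      _ = α * (g * S.X * g⁻¹ * S.φ u) * α⁻¹ := by rw [hc1.inv_left.eq]; group
      _ = α * S.φ (actW gW (actW sideX1 (actW (invW gW) u))) * (g * S.X * g⁻¹) * α⁻¹ := by rw [e4]; group
      _ = _ := by rw [hc2.eq]; group
  rcases hN with h | h
  · exact hlast 1 (by norm_num) (by norm_num) (by rw [h, pow_one])
  · exact hlast 2 (by norm_num) (by norm_num) h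

theorem val_R4 [Finite G] (he : S.val relEx1 = 1) : S.val relR4 = 1 := by
  obtain ⟨-, hab, -, -, -, -, -, -, -, -, -, -, -, h⟩ := local_words
  have hB : S.val abW = S.B := (S.val_H hab).2
  rw [h, val_append, val_append, val_append, val_inv, val_inv, S.val_conj, hB]
  have := (S.B_turn he).eq
  change S.B * (S.R * S.B * S.R⁻¹) * S.B⁻¹ * (S.R * S.B * S.R⁻¹)⁻¹ = 1
  rw [this]; group

end Std

end Cfsg.Agent.U43Type
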