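import Cfsg.Agent.U43Type.Chi
import Cfsg.Agent.U43Type.ThreeLocal
import Cfsg.Agent.U43Type.FusionData
import Cfsg.Agent.S5513

/-!
The group is generated by the five elements.
-/

set_option autoImplicit false
set_option maxRecDepth 100000
set_option linter.all false

namespace Cfsg.Agent.U43Type

/-- A field with nine elements. -/
abbrev F9 : Type := GaloisField 3 2

noncomputable instance : Fintype F9 := Fintype.ofFinite _

theorem card_F9 : Fintype.card F9 = 9 := by
  rw [← Nat.card_eq_fintype_card, GaloisField.card 3 2 (by norm_num)]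
  norm_num

/-- An inverted element times a fixed element is inverted only trivially. -/
theorem inv_conj_odd {D : Type*} [Group D] {d c : D} (hd : Odd (orderOf d)) (hc : Odd (orderOf c))
    (h : d * c⁻¹ * d⁻¹ = c) : c = 1 := by
  have h2 : Commute (d ^ 2) c := by
    have h' : d * c * d⁻¹ = c⁻¹ := by
      have := congrArg (fun u => u⁻¹) h
      simpa only [mul_inv_rev, inv_inv, mul_assoc] using this
    have : d ^ 2 * c * (d ^ 2)⁻¹ = c := by
      rw [pow_two]
      calc d * d * c * (d * d)⁻¹ = d * (d * c * d⁻¹) * d⁻¹ := by group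
        _ = d * c⁻¹ * d⁻¹ := by rw [h']
        _ = c := h
    exact mul_inv_eq_iff_eq_mul.1 this
  obtain ⟨k, hk⟩ := hd
  have h1 : Commute d c := by
    have e : (d ^ 2) ^ (k + 1) = d := by
      rw [← pow_mul, show 2 * (k + 1) = orderOf d + 1 by omega, pow_succ, pow_orderOf_eq_one, one_mul]
    exact e ▸ h2.pow_left (k + 1)
  have h3 : c ^ 2 = 1 := by
    have : d * c⁻¹ * d⁻¹ = c⁻¹ := by rw [h1.inv_right.eq, mul_inv_cancel_right]
    rw [this] at h
    rw [pow_two]
    exact mul_eq_one_iff_eq_inv.2 h.symm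
  have hdvd := orderOf_dvd_of_pow_eq_one h3
  rcases (Nat.dvd_prime Nat.prime_two).1 hdvd with e | e
  · exact orderOf_eq_one_iff.1 e
  · rw [e] at hc; exact absurd hc (by decide)

theorem big_divisor {n : ℕ} (h : n ∣ 25515) (hn : 2835 ≤ n) :
    n ∈ [2835, 8505, 25515, 3645, 5103] := by
  obtain ⟨m, hm⟩ := h
  have : m ≤ 9 := by nlinarith
  interval_cases m <;> simp <;> omega

variable {G : Type*} [Group G] [Finite G] {z : G}

namespace Std

variable (S : Std z)

/-- The generated subgroup. -/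
noncomputable def G0 : Subgroup G := S.psi.range

theorem cent_le : Subgroup.centralizer ({z} : Set G) ≤ S.G0 := by
  rw [← S.psi_KP]
  exact Subgroup.map_le_range _ _

theorem mem_of_comm {a : G} (h : a * z = z * a) : a ∈ S.G0 :=
  S.cent_le (Subgroup.mem_centralizer_singleton_iff.2 h)

theorem z_mem : z ∈ S.G0 := S.mem_of_comm rfl

theorem val_mem (w : List Nat) : S.val w ∈ S.G0 := ⟨pVal w, S.psi_pVal w⟩

theorem val_rel {w : List Nat} (h : w ∈ relMain) : S.val w = 1 := by
  rw [← S.psi_pVal, pVal_rel h, map_one]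

theorem psi_injective : Function.Injective S.psi := by
  have hq : Fintype.card F9 = 3 ^ 2 := by rw [card_F9]; norm_num
  haveI : IsSimpleGroup (Cfsg.PSU 4 F9 3) :=
    Cfsg.Agent.S0283.result (q := 3) hq 4 (by norm_num) (by norm_num)
  haveI : IsSimpleGroup PGrp := (chiEquiv card_F9 S).isSimpleGroup
  rw [← MonoidHom.ker_eq_bot_iff]
  rcases Subgroup.Normal.eq_bot_or_eq_top (MonoidHom.normal_ker S.psi) with h | h
  · exact h
  · exfalso
    have hzw : hWord [2, 2] = true ∧ hv [2, 2] = zI := by decide +kernel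
    have e : S.psi (pVal [2, 2]) = 1 := MonoidHom.mem_ker.1 (h ▸ Subgroup.mem_top _)
    rw [S.psi_pVal, (S.val_H hzw.1).2, hzw.2, S.φ_z] at e
    exact S.zne e

/-- The identification. -/
noncomputable def iso (K : Type) [Field K] [Fintype K] (hK : Fintype.card K = 9) : S.G0 ≃* Cfsg.PSU 4 K 3 :=
  (MonoidHom.ofInjective S.psi_injective).symm.trans (chiEquiv hK S)

theorem card_G0 : Nat.card S.G0 = 3265920 := by
  rw [Nat.card_congr (S.iso F9 card_F9).toEquiv, card_PSU card_F9]

theorem TG_le_G0 : S.TG ≤ S.G0 := S.TG_le.trans S.cent_le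

theorem fuse_T {x : G} (hx : x ∈ S.TG) (h2 : x * x = 1) (h1 : x ≠ 1) : ∃ g ∈ S.G0, g * z * g⁻¹ = x := by
  obtain ⟨i, hi, rfl⟩ := hx
  have li := List.mem_range.1 (List.mem_filter.1 hi).1
  have hii : hh i i = oI := S.φ_inj _ (S.φ_mul i li i li).1 _ oI_lt (by rw [(S.φ_mul i li i li).2, h2, S.φ_one])
  have hne : i ≠ oI := fun e => h1 (by rw [e, S.φ_one])
  have h := List.all_eq_true.1 fus_table i hi
  simp only [hii, beq_self_eq_true, Bool.not_true, Bool.false_or, beq_eq_false_iff_ne.2 hne, List.any_eq_true,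
    Bool.and_eq_true, beq_iff_eq] at h
  obtain ⟨⟨a, w⟩, -, e1, e2⟩ := h
  obtain rfl : a = i := e1
  have e2' : actW w a = zI := e2
  have e := (S.act_sound (w := w) (u := a) (by rw [e2']; exact zI_lt)).2
  rw [e2', S.φ_z] at e
  refine ⟨(S.val w)⁻¹, S.G0.inv_mem (S.val_mem w), ?_⟩
  rw [inv_inv, mul_assoc, ← e, inv_mul_cancel_left]

theorem fuse {x : G} (hx : x ∈ S.G0) (h2 : x * x = 1) (h1 : x ≠ 1) : ∃ g ∈ S.G0, g * z * g⁻¹ = x := by
  haveI : Fact (Nat.Prime 2) := ⟨Nat.prime_two⟩
  have hT : Nat.card (S.TG.subgroupOf S.G0) = 128 := by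
    rw [Nat.card_congr (Subgroup.subgroupOfEquivOfLe S.TG_le_G0).toEquiv, S.card_TG]
  let T : Sylow 2 S.G0 := Sylow.ofCard (S.TG.subgroupOf S.G0) (by
    rw [hT, S.card_G0, show (3265920 : ℕ) = 2 ^ 7 * 25515 by norm_num,
      Nat.factorization_mul (by norm_num) (by norm_num), Finsupp.add_apply, Nat.Prime.factorization_pow Nat.prime_two,
      Finsupp.single_eq_same, Nat.factorization_eq_zero_of_not_dvd (by norm_num)]
    norm_num)
  let X : S.G0 := ⟨x, hx⟩
  have hp : IsPGroup 2 (Subgroup.zpowers X) := IsPGroup.of_card (n := 1) (by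
    rw [Nat.card_zpowers, pow_one]
    exact orderOf_eq_prime (Subtype.ext (by show x ^ 2 = 1; rw [pow_two]; exact h2)) (fun e => h1 (congrArg Subtype.val e)))
  obtain ⟨P, hP⟩ := hp.exists_le_sylow
  obtain ⟨g, hg⟩ := MulAction.exists_smul_eq S.G0 P T
  have hmem : g * X * g⁻¹ ∈ (T : Subgroup S.G0) := by
    rw [← hg, Sylow.coe_subgroup_smul]
    exact Subgroup.smul_mem_pointwise_smul X (MulAut.conj g) _ (hP (Subgroup.mem_zpowers X))
  have hxT : (g : G) * x * (g : G)⁻¹ ∈ S.TG := Subgroup.mem_subgroupOf.1 hmem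
  obtain ⟨a, ha, e⟩ := S.fuse_T hxT (by
      calc (g : G) * x * (g : G)⁻¹ * ((g : G) * x * (g : G)⁻¹) = (g : G) * (x * x) * (g : G)⁻¹ := by group
        _ = 1 := by rw [h2]; group)
    (fun e => h1 (by
      calc x = (g : G)⁻¹ * ((g : G) * x * (g : G)⁻¹) * (g : G) := by group
        _ = 1 := by rw [e]; group))
  refine ⟨(g : G)⁻¹ * a, S.G0.mul_mem (S.G0.inv_mem g.2) ha, ?_⟩
  calc (g : G)⁻¹ * a * z * ((g : G)⁻¹ * a)⁻¹ = (g : G)⁻¹ * (a * z * a⁻¹) * (g : G) := by group
    _ = x := by rw [e]; group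

theorem no_abelian (P : Subgroup S.G0) (hP : Nat.card P = 729) (hc : ∀ a b : P, a * b = b * a) : False := by
  haveI : Fact (Nat.Prime 3) := ⟨by norm_num⟩
  have he : S.val relEx1 = 1 := S.val_rel (by simp [relMain])
  have hX : S.X ∈ S.G0 := S.mem_of_comm (S.φ_cen _ xi_lt)
  have hB : S.B ∈ S.G0 := S.mem_of_comm (S.φ_cen _ bi_lt)
  have hR : S.R ∈ S.G0 := S.val_mem rpW
  let a : S.G0 := ⟨S.X, hX⟩
  let b : S.G0 := ⟨S.B, hB⟩
  let r : S.G0 := ⟨S.R, hR⟩
  have a3 : a ^ 3 = 1 := Subtype.ext S.X3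
  have b3 : b ^ 3 = 1 := Subtype.ext S.B3
  have r3 : r ^ 3 = 1 := Subtype.ext S.R3
  have ab : Commute a b := Subtype.ext S.XB.eq
  have ra : Commute r a := Subtype.ext (S.R_X he).eq
  have bc : Commute b (r * b * r⁻¹) := Subtype.ext (S.B_turn he).eq
  let σ := MulAut.conj r
  have sa : σ a = a := by rw [MulAut.conj_apply, ra.eq, mul_inv_cancel_right]
  obtain ⟨c, hc'⟩ : ∃ c, σ b = c := ⟨_, rfl⟩
  obtain ⟨d, hd'⟩ : ∃ d, σ c = d := ⟨_, rfl⟩
  have hd : σ d = b := by
    rw [← hd', ← hc']
    simp only [σ, MulAut.conj_apply]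
    have r3' : r * r * r = 1 := by rw [← r3, pow_succ, pow_two]
    calc r * (r * (r * b * r⁻¹) * r⁻¹) * r⁻¹ = r * r * r * b * (r * r * r)⁻¹ := by group
      _ = b := by rw [r3']; group
  have cb : Commute b c := by rw [← hc']; exact bc
  have dc : Commute c d := by have := cb.map σ.toMonoidHom; simpa [hc', hd'] using this
  have db : Commute d b := by have := dc.map σ.toMonoidHom; simpa [hd', hd] using this
  have ac : Commute a c := by have := ab.map σ.toMonoidHom; simpa [sa, hc'] using this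
  have ad : Commute a d := by have := ac.map σ.toMonoidHom; simpa [sa, hd'] using this
  let L : Set S.G0 := {a, b, c, d}
  haveI : IsMulCommutative (Subgroup.closure L) := Subgroup.isMulCommutative_closure (by
    intro u hu v hv
    simp only [L, Set.mem_insert_iff, Set.mem_singleton_iff] at hu hv
    rcases hu with rfl | rfl | rfl | rfl <;> rcases hv with rfl | rfl | rfl | rfl <;>
      first | rfl | exact ab.eq | exact ab.symm.eq | exact ac.eq | exact ac.symm.eq | exact ad.eq | exact ad.symm.eq |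
        exact cb.eq | exact cb.symm.eq | exact dc.eq | exact dc.symm.eq | exact db.eq | exact db.symm.eq)
  have key : ∀ x ∈ Subgroup.closure L, x ^ 3 = 1 := by
    intro x hx
    induction hx using Subgroup.closure_induction with
    | mem u hu =>
      simp only [L, Set.mem_insert_iff, Set.mem_singleton_iff] at hu
      rcases hu with rfl | rfl | rfl | rfl
      · exact a3
      · exact b3
      · rw [← hc', ← map_pow, b3, map_one]
      · rw [← hd', ← map_pow, ← hc', ← map_pow, b3, map_one, map_one]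
    | one => exact one_pow 3
    | mul u v hu hv ihu ihv =>
      have huv : Commute u v := congrArg Subtype.val
        (IsMulCommutative.is_comm.comm (⟨u, hu⟩ : Subgroup.closure L) ⟨v, hv⟩)
      rw [huv.mul_pow, ihu, ihv, one_mul]
    | inv u _ ihu => rw [inv_pow, ihu, inv_one]
  have pA : IsPGroup 3 (Subgroup.closure L) :=
    fun u => ⟨1, Subtype.ext (by rw [pow_one]; exact key u u.2)⟩
  have pR : IsPGroup 3 (Subgroup.zpowers r) := by
    rintro ⟨u, hu⟩
    obtain ⟨i, rfl⟩ := Subgroup.mem_zpowers_iff.1 hu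
    refine ⟨1, Subtype.ext ?_⟩
    show (r ^ i) ^ (3 ^ 1) = 1
    rw [pow_one, ← zpow_natCast, ← zpow_mul, mul_comm, zpow_mul, zpow_natCast, r3, one_zpow]
  have hn : Subgroup.zpowers r ≤ Subgroup.normalizer ((Subgroup.closure L : Subgroup S.G0) : Set S.G0) := by
    have hs : (Subgroup.closure L).map σ.toMonoidHom = Subgroup.closure L := by
      rw [MonoidHom.map_closure]
      congr 1
      ext u
      simp only [L, Set.image_insert_eq, Set.image_singleton, MulEquiv.coe_toMonoidHom, sa, hc', hd', hd,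
        Set.mem_insert_iff, Set.mem_singleton_iff]
      tauto
    rw [Subgroup.zpowers_le, Subgroup.mem_normalizer_iff]
    intro u
    show u ∈ Subgroup.closure L ↔ σ u ∈ Subgroup.closure L
    conv_rhs => rw [← hs]
    exact ⟨fun hu => Subgroup.mem_map_of_mem _ hu, fun ⟨v, hv, e⟩ => by
      rwa [σ.injective (show σ v = σ u from e)] at hv⟩
  have pU := IsPGroup.to_sup_of_normal_right' pR pA hn
  obtain ⟨Q, hQ⟩ := pU.exists_le_sylow
  let T : Sylow 3 S.G0 := Sylow.ofCard P (by
    rw [hP, S.card_G0, show (3265920 : ℕ) = 3 ^ 6 * 4480 by norm_num,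
      Nat.factorization_mul (by norm_num) (by norm_num), Finsupp.add_apply, Nat.Prime.factorization_pow (by norm_num),
      Finsupp.single_eq_same, Nat.factorization_eq_zero_of_not_dvd (by norm_num)]
    norm_num)
  obtain ⟨g, hg⟩ := MulAction.exists_smul_eq S.G0 Q T
  have hm : ∀ u ∈ Subgroup.zpowers r ⊔ Subgroup.closure L, g * u * g⁻¹ ∈ P := by
    intro u hu
    show g * u * g⁻¹ ∈ (T : Subgroup S.G0)
    rw [← hg, Sylow.coe_subgroup_smul]
    exact Subgroup.smul_mem_pointwise_smul u (MulAut.conj g) _ (hQ hu)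
  have hrb := congrArg Subtype.val (hc ⟨_, hm r (Subgroup.mem_sup_left (Subgroup.mem_zpowers r))⟩
    ⟨_, hm b (Subgroup.mem_sup_right (Subgroup.subset_closure (by simp [L])))⟩)
  have e : (MulAut.conj g) (r * b) = (MulAut.conj g) (b * r) := by
    rw [map_mul, map_mul]
    exact hrb
  exact S.R_B (congrArg Subtype.val ((MulAut.conj g).injective e))

theorem card_cosets : Nat.card (G ⧸ Subgroup.centralizer ({z} : Set G)) = S.G0.index * 2835 := by
  have h1 := Subgroup.card_eq_card_quotient_mul_card_subgroup (Subgroup.centralizer ({z} : Set G))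
  have h2 := S.G0.card_mul_index
  rw [S.card_cent] at h1
  rw [S.card_G0] at h2
  show _ = _
  obtain ⟨a, ha⟩ : ∃ a, a = Nat.card (G ⧸ Subgroup.centralizer ({z} : Set G)) := ⟨_, rfl⟩
  rw [← ha] at h1 ⊢
  omega

theorem top : S.G0 = ⊤ := by
  classical
  haveI : Fintype G := Fintype.ofFinite _
  by_contra hne
  have hk : 2 ≤ S.G0.index := by
    have h0 : S.G0.index ≠ 0 := Subgroup.index_ne_zero_of_finite
    have h1 : S.G0.index ≠ 1 := fun e => hne (Subgroup.index_eq_one.1 e)
    omega
  let cls : G ⧸ Subgroup.centralizer ({z} : Set G) → G := fun q => q.out * z * q.out⁻¹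
  have hcls : Function.Injective cls := by
    intro p q e
    rw [← QuotientGroup.out_eq' p, ← QuotientGroup.out_eq' q, QuotientGroup.eq,
      Subgroup.mem_centralizer_singleton_iff]
    simp only [cls] at e
    calc p.out⁻¹ * q.out * z = p.out⁻¹ * (q.out * z * q.out⁻¹) * q.out := by group
      _ = p.out⁻¹ * (p.out * z * p.out⁻¹) * q.out := by rw [e]
      _ = z * (p.out⁻¹ * q.out) := by group
  let Z : Finset G := Finset.univ.image cls
  have hZ : Z.card = S.G0.index * 2835 := by
    rw [Finset.card_image_of_injective _ hcls, Finset.card_univ, ← Nat.card_eq_fintype_card, S.card_cosets]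
  have hZi : ∀ y ∈ Z, y * y = 1 ∧ y ≠ 1 ∧ ∃ a, a * z * a⁻¹ = y := by
    intro y hy
    obtain ⟨q, -, rfl⟩ := Finset.mem_image.1 hy
    refine ⟨?_, fun e => S.zne ?_, _, rfl⟩
    · calc q.out * z * q.out⁻¹ * (q.out * z * q.out⁻¹) = q.out * (z * z) * q.out⁻¹ := by group
        _ = 1 := by rw [S.zsq]; group
    · calc z = q.out⁻¹ * (q.out * z * q.out⁻¹) * q.out := by group
        _ = 1 := by rw [show q.out * z * q.out⁻¹ = 1 from e]; group
  -- the involutions inside
  have hin : (Z.filter fun y : G => (y : G ⧸ S.G0) = ((1 : G) : G ⧸ S.G0)).card ≤ 2835 := by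
    let C : Subgroup S.G0 := (Subgroup.centralizer ({z} : Set G)).subgroupOf S.G0
    have hC : Nat.card (S.G0 ⧸ C) = 2835 := by
      have h := Subgroup.card_eq_card_quotient_mul_card_subgroup C
      rw [Nat.card_congr (Subgroup.subgroupOfEquivOfLe S.cent_le).toEquiv, S.card_cent, S.card_G0] at h
      omega
    haveI : Fintype (S.G0 ⧸ C) := Fintype.ofFinite _
    rw [← hC, Nat.card_eq_fintype_card, ← Finset.card_univ]
    refine (Finset.card_le_card (t := Finset.univ.image fun q : S.G0 ⧸ C => (q.out : G) * z * (q.out : G)⁻¹) ?_).trans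
      Finset.card_image_le
    intro y hy
    rw [Finset.mem_filter] at hy
    have hy0 : y ∈ S.G0 := by simpa [QuotientGroup.eq] using hy.2
    obtain ⟨a, ha, rfl⟩ := S.fuse hy0 (hZi y hy.1).1 (hZi y hy.1).2.1
    refine Finset.mem_image.2 ⟨((⟨a, ha⟩ : S.G0) : S.G0 ⧸ C), Finset.mem_univ _, ?_⟩
    obtain ⟨⟨c, hc⟩, e⟩ := QuotientGroup.mk_out_eq_mul C (⟨a, ha⟩ : S.G0)
    have hcz : ((c : S.G0) : G) * z = z * ((c : S.G0) : G) :=
      Subgroup.mem_centralizer_singleton_iff.1 (Subgroup.mem_subgroupOf.1 hc)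
    rw [e]
    show a * (c : G) * z * (a * (c : G))⁻¹ = _
    rw [mul_assoc a, hcz]
    group
  -- a coset with many
  obtain ⟨q, hq, hq1⟩ : ∃ q : G ⧸ S.G0, 2835 ≤ (Z.filter fun y : G => (y : G ⧸ S.G0) = q).card ∧
      q ≠ ((1 : G) : G ⧸ S.G0) := by
    by_contra hall
    push Not at hall
    have hs := Finset.card_eq_sum_card_fiberwise (s := Z) (t := (Finset.univ : Finset (G ⧸ S.G0)))
      (f := fun y : G => (y : G ⧸ S.G0)) (fun y _ => Finset.mem_univ _)
    rw [← Finset.add_sum_erase _ _ (Finset.mem_univ ((1 : G) : G ⧸ S.G0))] at hs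
    have hb : (∑ q ∈ (Finset.univ : Finset (G ⧸ S.G0)).erase ((1 : G) : G ⧸ S.G0),
        (Z.filter fun y : G => (y : G ⧸ S.G0) = q).card) ≤
        (S.G0.index - 1) * 2834 := by
      refine (Finset.sum_le_card_nsmul _ _ 2834 fun q hq => ?_).trans_eq ?_
      · by_contra hlt
        exact (Finset.ne_of_mem_erase hq) (hall q (by omega))
      · rw [Finset.card_erase_of_mem (Finset.mem_univ _), Finset.card_univ, ← Nat.card_eq_fintype_card, smul_eq_mul]
        rfl
    omega
  obtain ⟨x, hx⟩ := Finset.card_pos.1 (show 0 < (Z.filter fun y : G => (y : G ⧸ S.G0) = q).card by omega)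
  rw [Finset.mem_filter] at hx
  obtain ⟨hx2, hx1, a, hax⟩ := hZi x hx.1
  have hxG : x ∉ S.G0 := fun h => hq1 (hx.2.symm.trans ((QuotientGroup.eq).2 (by simpa using h)))
  have xinv : x⁻¹ = x := inv_eq_of_mul_eq_one_right hx2
  let D : Subgroup S.G0 := S.G0.comap ((MulAut.conj x).toMonoidHom.comp S.G0.subtype)
  have memD : ∀ d : S.G0, d ∈ D ↔ x * (d : G) * x ∈ S.G0 := fun d => by
    show x * (d : G) * x⁻¹ ∈ S.G0 ↔ _
    rw [xinv]
  -- odd order
  have hodd : Odd (Nat.card D) := by
    rw [← Nat.not_even_iff_odd, even_iff_two_dvd]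
    intro h2
    haveI : Fact (Nat.Prime 2) := ⟨Nat.prime_two⟩
    obtain ⟨⟨d, hd⟩, ho⟩ := exists_prime_orderOf_dvd_card' 2 h2
    have ho' : orderOf (d : G) = 2 := by rw [Subgroup.orderOf_coe]; rw [← Subgroup.orderOf_coe] at ho; exact ho
    have d2 : (d : G) * (d : G) = 1 := by rw [← pow_two, ← ho', pow_orderOf_eq_one]
    have d1 : (d : G) ≠ 1 := fun e => by rw [e, orderOf_one] at ho'; norm_num at ho'
    obtain ⟨u, hu, eu⟩ := S.fuse d.2 d2 d1
    have hd' : x * (d : G) * x ∈ S.G0 := (memD d).1 hd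
    obtain ⟨v, hv, ev⟩ := S.fuse hd'
      (by calc x * (d : G) * x * (x * (d : G) * x) = x * (d : G) * (x * x) * (d : G) * x := by group
            _ = x * ((d : G) * (d : G)) * x := by rw [hx2]; group
            _ = 1 := by rw [d2, mul_one, hx2])
      (fun e => d1 (by
        calc (d : G) = (x * x) * (d : G) * (x * x) := by rw [hx2]; group
          _ = x * (x * (d : G) * x) * x := by group
          _ = 1 := by rw [e, mul_one, hx2]))
    have hc : (v⁻¹ * (x * u)) * z = z * (v⁻¹ * (x * u)) := by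
      calc (v⁻¹ * (x * u)) * z = v⁻¹ * x * (u * z * u⁻¹) * x * (x⁻¹ * u) := by group
        _ = v⁻¹ * (x * (d : G) * x) * (x * u) := by rw [eu, xinv]; group
        _ = v⁻¹ * (v * z * v⁻¹) * (x * u) := by rw [ev]
        _ = _ := by group
    have := S.G0.mul_mem (S.G0.mul_mem hv (S.mem_of_comm hc)) (S.G0.inv_mem hu)
    exact hxG (by simpa [mul_assoc] using this)
  have hdvd : Nat.card D ∣ 25515 := by
    have h := Subgroup.card_subgroup_dvd_card D
    rw [S.card_G0, show (3265920 : ℕ) = 2 ^ 7 * 25515 by norm_num] at h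
    exact Nat.Coprime.dvd_of_dvd_mul_left
      (Nat.Coprime.pow_right 7 (Nat.coprime_two_right.2 hodd)) h
  -- the involution on it
  let σ : D →* D :=
    { toFun := fun d => ⟨⟨x * (d : G) * x, (memD _).1 d.2⟩, (memD _).2 (by
        have : x * (x * ((d : S.G0) : G) * x) * x = ((d : S.G0) : G) := by
          calc x * (x * ((d : S.G0) : G) * x) * x = (x * x) * ((d : S.G0) : G) * (x * x) := by group
            _ = _ := by rw [hx2, one_mul, mul_one]
        exact this.symm ▸ (d : S.G0).2)⟩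
      map_one' := Subtype.ext (Subtype.ext (by simp [hx2]))
      map_mul' := fun d e => Subtype.ext (Subtype.ext (by
        show x * (((d : S.G0) : G) * ((e : S.G0) : G)) * x = x * ((d : S.G0) : G) * x * (x * ((e : S.G0) : G) * x)
        calc x * (((d : S.G0) : G) * ((e : S.G0) : G)) * x
            = x * ((d : S.G0) : G) * (x * x) * ((e : S.G0) : G) * x := by rw [hx2]; group
          _ = _ := by group)) }
  let I : Finset D := Finset.univ.filter fun d => σ d = d⁻¹
  let C : Subgroup D := σ.eqLocus (MonoidHom.id D)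
  have hI : 2835 ≤ I.card := by
    refine hq.trans (Finset.card_le_card_of_surjOn (fun d : D => x * ((d : S.G0) : G)) ?_)
    intro y hy
    simp only [Finset.coe_filter, Set.mem_setOf_eq] at hy
    have hd : x⁻¹ * y ∈ S.G0 := QuotientGroup.eq.1 (hx.2.trans hy.2.symm)
    obtain ⟨y2, -, -⟩ := hZi y hy.1
    have hs : x * (x⁻¹ * y) * x = (x⁻¹ * y)⁻¹ := by
      rw [mul_inv_rev, inv_inv, mul_inv_cancel_left, inv_eq_of_mul_eq_one_right y2]
    refine ⟨⟨⟨x⁻¹ * y, hd⟩, (memD _).2 ?_⟩, ?_, by simp⟩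
    · show x * (x⁻¹ * y) * x ∈ S.G0
      rw [hs]
      exact S.G0.inv_mem hd
    · simp only [Finset.coe_filter, Set.mem_setOf_eq, I, Finset.mem_univ, true_and]
      exact Subtype.ext (Subtype.ext hs)
  have ho : ∀ d : D, Odd (orderOf d) := fun d => Odd.of_dvd_nat hodd (orderOf_dvd_natCard d)
  have hIC : I.card * Nat.card C ≤ Nat.card D := by
    rw [← Fintype.card_coe, ← Nat.card_eq_fintype_card, ← Nat.card_prod]
    refine Nat.card_le_card_of_injective (fun p : I × C => (p.1 : D) * (p.2 : D)) ?_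
    rintro ⟨⟨d, hd⟩, ⟨c, hc⟩⟩ ⟨⟨d', hd'⟩, ⟨c', hc'⟩⟩ e
    simp only at e
    have hd1 : σ d = d⁻¹ := (Finset.mem_filter.1 hd).2
    have hd1' : σ d' = d'⁻¹ := (Finset.mem_filter.1 hd').2
    have hc1 : σ c = c := hc
    have hc1' : σ c' = c' := hc'
    obtain ⟨f, hf⟩ : ∃ f, f = c * c'⁻¹ := ⟨_, rfl⟩
    have hf1 : σ f = f := by rw [hf, map_mul, map_inv, hc1, hc1']
    have ed : d' = d * f := by
      rw [hf, ← mul_assoc, e, mul_inv_cancel_right]
    have h : d * f⁻¹ * d⁻¹ = f := by
      have : σ d' = d⁻¹ * f := by rw [ed, map_mul, hd1, hf1]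
      rw [hd1', ed, mul_inv_rev] at this
      calc d * f⁻¹ * d⁻¹ = d * (f⁻¹ * d⁻¹) := mul_assoc _ _ _
        _ = f := by rw [this, mul_inv_cancel_left]
    have f1 := inv_conj_odd (ho d) (ho f) h
    have : c = c' := mul_inv_eq_one.1 (hf ▸ f1)
    subst this
    obtain rfl : d = d' := mul_right_cancel e
    rfl
  have hC0 : 0 < Nat.card C := Nat.card_pos
  have hcases := big_divisor hdvd (by nlinarith)
  haveI : Fact (Nat.Prime 7) := ⟨by norm_num⟩
  -- no Sylow count
  have h7 : ∀ m : ℕ, Nat.card D = 7 * m → ¬ 7 ∣ m → m % 7 ≠ 1 → ∀ m', m = 3 * m' → m' % 7 ≠ 1 → False := by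
    intro m hm hm7 hm1 m' hm3 hm1'
    let P : Sylow 7 D := default
    have hP : Nat.card P = 7 := by
      rw [P.card_eq_multiplicity, hm, Nat.factorization_mul (by norm_num) (by omega), Finsupp.add_apply,
        Nat.factorization_eq_zero_of_not_dvd hm7, Nat.Prime.factorization_self (by norm_num)]
      norm_num
    let f : D →* Cfsg.PSU 4 F9 3 := (S.iso F9 card_F9).toMonoidHom.comp D.subtype
    have hf : Function.Injective f := (S.iso F9 card_F9).injective.comp D.subtype_injective
    have hX : Nat.card ((P : Subgroup D).map f) = 7 := by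
      rw [← Nat.card_congr ((P : Subgroup D).equivMapOfInjective f hf).toEquiv, hP]
    have h21 := (Cfsg.Agent.S5513.result F9 card_F9 _ hX).1
    have hdiv : Nat.card (Subgroup.normalizer ((P : Subgroup D) : Set D)) ∣ 21 := by
      rw [← h21, Nat.card_congr ((Subgroup.normalizer ((P : Subgroup D) : Set D)).equivMapOfInjective f hf).toEquiv]
      exact Subgroup.card_dvd_of_le (Subgroup.le_normalizer_map f)
    have hle : 7 ∣ Nat.card (Subgroup.normalizer ((P : Subgroup D) : Set D)) :=
      hP.symm.dvd.trans (Subgroup.card_dvd_of_le Subgroup.le_normalizer)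
    have hidx := (Subgroup.normalizer ((P : Subgroup D) : Set D)).card_mul_index
    have hn : (Subgroup.normalizer ((P : Subgroup D) : Set D)).index = Nat.card (Sylow 7 D) :=
      P.card_eq_index_normalizer.symm
    rw [hn, hm] at hidx
    have hmod : Nat.card (Sylow 7 D) % 7 = 1 := card_sylow_modEq_one 7 D
    obtain ⟨j, hj⟩ := hle
    rw [hj] at hdiv hidx
    have hj3 : j ∣ 3 := Nat.dvd_of_mul_dvd_mul_left (by norm_num : 0 < 7) (by simpa using hdiv)
    have e : j * Nat.card (Sylow 7 D) = m := by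
      rw [mul_assoc] at hidx; omega
    rcases (Nat.dvd_prime Nat.prime_three).1 hj3 with rfl | rfl
    · omega
    · omega
  simp only [List.mem_cons, List.not_mem_nil, or_false] at hcases
  have hsmall : Nat.card D = 3645 ∨ Nat.card D = 5103 := by
    rcases hcases with h | h | h | h | h
    · exact (h7 405 h (by norm_num) (by norm_num) 135 (by norm_num) (by norm_num)).elim
    · exact (h7 1215 h (by norm_num) (by norm_num) 405 (by norm_num) (by norm_num)).elim
    · exact (h7 3645 h (by norm_num) (by norm_num) 1215 (by norm_num) (by norm_num)).elim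
    · exact Or.inl h
    · exact Or.inr h
  have hC1 : Nat.card C = 1 := by
    by_contra h
    have h3 : 2 ≤ Nat.card C := by omega
    nlinarith [hsmall.elim (fun e => e.le.trans (by norm_num : 3645 ≤ 5103)) le_of_eq]
  have hfpf : MonoidHom.FixedPointFree σ := by
    intro d hd
    haveI : Subsingleton C := (Nat.card_eq_one_iff_unique.1 hC1).1
    exact congrArg Subtype.val (Subsingleton.elim (⟨d, hd⟩ : C) 1)
  have hinv : Function.Involutive σ := by
    intro d
    refine Subtype.ext (Subtype.ext ?_)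
    show x * (x * ((d : S.G0) : G) * x) * x = _
    calc x * (x * ((d : S.G0) : G) * x) * x = (x * x) * ((d : S.G0) : G) * (x * x) := by group
      _ = _ := by rw [hx2, one_mul, mul_one]
  haveI : Fact (Nat.Prime 3) := ⟨by norm_num⟩
  obtain ⟨P, hP⟩ := Sylow.exists_subgroup_card_pow_prime (G := D) 3 (n := 6) (by
    rcases hsmall with e | e <;> rw [e] <;> norm_num)
  refine S.no_abelian (P.map D.subtype) (by rw [Subgroup.card_map_of_injective D.subtype_injective, hP]; norm_num) ?_
  rintro ⟨_, u, -, rfl⟩ ⟨_, v, -, rfl⟩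
  refine Subtype.ext ?_
  show D.subtype u * D.subtype v = D.subtype v * D.subtype u
  rw [← map_mul, (hfpf.commute_all_of_involutive hinv u v).eq, map_mul]

include S in
theorem card_group : Nat.card G = 3265920 := by
  rw [← S.card_G0, S.top, Subgroup.card_top]

include S in
theorem conj_z {x : G} (hx : orderOf x = 2) : IsConj z x := by
  obtain ⟨g, -, e⟩ := S.fuse (x := x) (S.top ▸ Subgroup.mem_top x) (by rw [← pow_two, ← hx, pow_orderOf_eq_one])
    (fun e => by rw [e, orderOf_one] at hx; norm_num at hx)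
  exact isConj_iff.2 ⟨g, e⟩

include S in
theorem nonempty_iso (K : Type) [Field K] [Fintype K] (hK : Fintype.card K = 9) :
    Nonempty (G ≃* Cfsg.PSU 4 K 3) :=
  ⟨(Subgroup.topEquiv.symm.trans (MulEquiv.subgroupCongr S.top.symm)).trans (S.iso K hK)⟩

end Std

end Cfsg.Agent.U43Type
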