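import Cfsg.Agent.U43Type.Coords
import Cfsg.Agent.Layer.FStar

/-!
The centraliser of `z` from the hypotheses.
-/

set_option autoImplicit false
set_option linter.all false
set_option maxHeartbeats 800000

namespace Cfsg.Agent.U43Type

open Subgroup

variable {G : Type*} [Group G]

/-- What is used of a group of this type. -/
structure Setup (z : G) where
  C : Coords z
  QG : Subgroup G
  memQ : ∀ x, x ∈ QG ↔ C.inQ x
  qnormal : ∀ x, x * z = z * x → ∀ q ∈ QG, x * q * x⁻¹ ∈ QG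
  self : ∀ x, x * z = z * x → (∀ q ∈ QG, x * q = q * x) → x ∈ QG
  dich : ∀ x, x * z = z * x → C.Keeps x ∨ C.Swaps x
  card : Nat.card ↥(centralizer ({z} : Set G)) = 1152
  nwc : ∃ g : G, g * z * g⁻¹ ∈ QG ∧ g * z * g⁻¹ ≠ z
  qq : ∀ g : G, g * z * g⁻¹ ∈ QG → g * z * g⁻¹ ≠ z → Nat.card ↥(QG ⊓ QG.map (MulAut.conj g).toMonoidHom) = 4

theorem q8_noncomm : sm sK sP ≠ sm sP sK ∧ sK < 24 ∧ sP < 24 ∧ inQ8 sK = true ∧ inQ8 sP = true ∧
    sK ≠ sO ∧ sK ≠ sZ ∧ sP ≠ sO ∧ sP ≠ sZ ∧ inQ8 sO = true ∧ inQ8 sZ = true := by decide +kernel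

theorem comm_two {u v c : Nat} (hu : u < 24) (hv : v < 24) (hc : c < 24) (qu : inQ8 u = true) (qv : inQ8 v = true)
    (hne : sm u v ≠ sm v u) (h1 : sm c u = sm u c) (h2 : sm c v = sm v c) : c = sO ∨ c = sZ := by
  have h : ((List.range 24).all fun u => !inQ8 u || (List.range 24).all fun v => !inQ8 v ||
      decide (sm u v = sm v u) || (List.range 24).all fun c => !decide (sm c u = sm u c) ||
        !decide (sm c v = sm v c) || decide (c = sO) || decide (c = sZ)) = true := by decide +kernel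
  have h' := List.all_eq_true.1 h u (List.mem_range.2 hu)
  simp only [qu, Bool.not_true, Bool.false_or, List.all_eq_true, List.mem_range] at h'
  have h'' := h' v hv
  simp only [qv, Bool.not_true, Bool.false_or, Bool.or_eq_true, decide_eq_true_eq, hne, false_or,
    List.all_eq_true, List.mem_range] at h''
  simpa [h1, h2] using h'' c hc

namespace Coords

variable {z : G} (C : Coords z)

/-- The two sides of an element of order four of `Q`. -/
theorem sides (hz1 : z ≠ 1) {q : G} (hq : C.inQ q) (h2 : q * q = z) :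
    (∃ a < 24, inQ8 a = true ∧ q = C.f1 a) ∨ (∃ a < 24, inQ8 a = true ∧ q = C.f2 a) := by
  obtain ⟨a, ha, b, hb, qa, qb, rfl⟩ := hq
  have hlt := @lt_sm
  have hzl : sZ < 24 := by decide
  have qaz : inQ8 (sm a sZ) = true := (q8_facts a ha qa).2.1 sZ hzl q8_noncomm.2.2.2.2.2.2.2.2.2.2
  have qbz : inQ8 (sm b sZ) = true := (q8_facts b hb qb).2.1 sZ hzl q8_noncomm.2.2.2.2.2.2.2.2.2.2
  by_cases b1 : b = sO
  · exact Or.inl ⟨a, ha, qa, by rw [b1, C.one2, mul_one]⟩
  by_cases b2 : b = sZ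
  · refine Or.inl ⟨_, hlt ha hzl, qaz, ?_⟩
    rw [C.mul1 a ha sZ hzl, b2, C.zz1, C.zz2]
  by_cases a1 : a = sO
  · exact Or.inr ⟨b, hb, qb, by rw [a1, C.one1, one_mul]⟩
  by_cases a2 : a = sZ
  · refine Or.inr ⟨_, hlt hb hzl, qbz, ?_⟩
    rw [C.mul2 b hb sZ hzl, a2, C.zz1, C.zz2]
    exact (C.z_comm2 hb).symm
  exfalso
  rw [C.pair_mul ha hb ha hb, sq_central a ha qa a1 a2, sq_central b hb qb b1 b2, C.zz1, C.zz2] at h2
  exact hz1 (mul_eq_left.1 h2)

/-- One factor's image decides the other's. -/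
theorem other (x : G) {f g h k : Nat → G} (hfg : ∀ a < 24, ∀ b < 24, f a * g b = g b * f a)
    (hzk : ∀ c < 24, ∀ e < 24, ∃ e' < 24, (c = sO ∨ c = sZ) → h c * k e = k e')
    (hhk : ∀ a < 24, ∀ b < 24, h a * k b = k b * h a)
    (hmul : ∀ a < 24, ∀ b < 24, h (sm a b) = h a * h b)
    (hinj : ∀ a < 24, ∀ b < 24, h a = h b → a = b)
    (hK : ∀ b < 24, ∃ c < 24, ∃ e < 24, x * g b * x⁻¹ = h c * k e)
    {u v : Nat} (hu : u < 24) (hv : v < 24) (qu : inQ8 u = true) (qv : inQ8 v = true)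
    (eu : x * f sK * x⁻¹ = h u) (ev : x * f sP * x⁻¹ = h v) (hne : sm u v ≠ sm v u) :
    ∀ b < 24, ∃ e < 24, x * g b * x⁻¹ = k e := by
  intro b hb
  obtain ⟨c, hc, e, he, hce⟩ := hK b hb
  obtain ⟨-, hKl, hPl, -⟩ := q8_noncomm
  have key : ∀ w w', w < 24 → w' < 24 → x * f w * x⁻¹ = h w' → sm c w' = sm w' c := by
    intro w w' hw hw' ew
    have h1 : h c * k e * h w' = h w' * (h c * k e) := by
      rw [← hce, ← ew]
      calc x * g b * x⁻¹ * (x * f w * x⁻¹) = x * (g b * f w) * x⁻¹ := by group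
        _ = _ := by rw [← hfg w hw b hb]; group
    refine hinj _ (lt_sm hc hw') _ (lt_sm hw' hc) ?_
    rw [hmul c hc w' hw', hmul w' hw' c hc]
    refine mul_right_cancel (b := k e) ?_
    calc h c * h w' * k e = h c * (k e * h w') := by rw [mul_assoc, hhk w' hw' e he]
      _ = h w' * (h c * k e) := by rw [← mul_assoc, h1]
      _ = _ := (mul_assoc _ _ _).symm
  obtain ⟨e', he', h'⟩ := hzk c hc e he
  exact ⟨e', he', hce.trans (h' (comm_two hu hv hc qu qv hne (key sK u hKl hu eu) (key sP v hPl hv ev)))⟩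

end Coords

theorem exists_setup [Finite G] (z : G) (hz : orderOf z = 2) (H₁ H₂ : Subgroup (centralizer ({z} : Set G)))
    (hK : H₁ ⊔ H₂ = Subgroup.closure {x : centralizer ({z} : Set G) | Odd (orderOf x)})
    (hn₁ : (H₁.subgroupOf (H₁ ⊔ H₂)).Normal) (hn₂ : (H₂.subgroupOf (H₁ ⊔ H₂)).Normal)
    (e₁ : H₁ ≃* Matrix.SpecialLinearGroup (Fin 2) (ZMod 3)) (e₂ : H₂ ≃* Matrix.SpecialLinearGroup (Fin 2) (ZMod 3))
    (hmeet : (H₁ ⊓ H₂).map (Subgroup.subtype (centralizer ({z} : Set G))) = Subgroup.zpowers z)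
    (Q : Subgroup (centralizer ({z} : Set G))) [Q.Normal]
    (hQ : Q = (Cfsg.pCore 2 ↥(H₁ ⊔ H₂)).map (Subgroup.subtype (H₁ ⊔ H₂)))
    (hF : Cfsg.generalizedFittingSubgroup (centralizer ({z} : Set G)) = Q)
    (hnwc : ∃ g : G, (∃ hq : g * z * g⁻¹ ∈ centralizer ({z} : Set G), (⟨g * z * g⁻¹, hq⟩ : centralizer ({z} : Set G)) ∈ Q) ∧ g * z * g⁻¹ ≠ z)
    (hH : Nat.card ↥(centralizer ({z} : Set G)) = 2 ^ 7 * 3 ^ 2)
    (hQQg : ∀ g : G, g * z * g⁻¹ ∈ Q.map (Subgroup.subtype (centralizer ({z} : Set G))) → g * z * g⁻¹ ≠ z →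
      Nat.card ↥((Q.map (Subgroup.subtype (centralizer ({z} : Set G)))) ⊓
        (Q.map (Subgroup.subtype (centralizer ({z} : Set G)))).map (MulAut.conj g).toMonoidHom) = 4) :
    Nonempty (Setup z) := by
  classical
  have hmemH : ∀ x : G, x ∈ (centralizer ({z} : Set G)) ↔ x * z = z * x := fun x => mem_centralizer_singleton_iff
  have hz1 : z ≠ 1 := fun e => by rw [e, orderOf_one] at hz; norm_num at hz
  let g1 : Nat → (centralizer ({z} : Set G)) := fun a => (e₁.symm (slEl a) : H₁)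
  let g2 : Nat → (centralizer ({z} : Set G)) := fun a => (e₂.symm (slEl a) : H₂)
  have gm1 : ∀ a < 24, ∀ b < 24, g1 (sm a b) = g1 a * g1 b := fun a ha b hb => by
    simp only [g1, slEl_mul ha hb, map_mul, Subgroup.coe_mul]
  have gm2 : ∀ a < 24, ∀ b < 24, g2 (sm a b) = g2 a * g2 b := fun a ha b hb => by
    simp only [g2, slEl_mul ha hb, map_mul, Subgroup.coe_mul]
  have gi1 : ∀ a < 24, ∀ b < 24, g1 a = g1 b → a = b := fun a ha b hb h =>
    slEl_inj ha hb (e₁.symm.injective (Subtype.ext h))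
  have gi2 : ∀ a < 24, ∀ b < 24, g2 a = g2 b → a = b := fun a ha b hb h =>
    slEl_inj ha hb (e₂.symm.injective (Subtype.ext h))
  have go1 : g1 sO = 1 := by simp [g1, slEl_one]
  have go2 : g2 sO = 1 := by simp [g2, slEl_one]
  have gs1 : ∀ x ∈ H₁, ∃ a < 24, g1 a = x := fun x hx => by
    obtain ⟨a, ha, e⟩ := slEl_surj (e₁ ⟨x, hx⟩)
    exact ⟨a, ha, by simp [g1, e]⟩
  have gs2 : ∀ x ∈ H₂, ∃ a < 24, g2 a = x := fun x hx => by
    obtain ⟨a, ha, e⟩ := slEl_surj (e₂ ⟨x, hx⟩)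
    exact ⟨a, ha, by simp [g2, e]⟩
  have gin1 : ∀ a, g1 a ∈ H₁ := fun a => SetLike.coe_mem _
  have gin2 : ∀ a, g2 a ∈ H₂ := fun a => SetLike.coe_mem _
  let zH : (centralizer ({z} : Set G)) := ⟨z, (hmemH z).2 rfl⟩
  have hzH1 : zH ≠ 1 := fun e => hz1 (congrArg Subtype.val e)
  have hzH2 : zH * zH = 1 := Subtype.ext (by
    show z * z = 1
    have := pow_orderOf_eq_one z
    rw [hz, pow_two] at this
    exact this)
  have hzmem : zH ∈ H₁ ⊓ H₂ := by
    have h1 : z ∈ (H₁ ⊓ H₂).map (Subgroup.subtype (centralizer ({z} : Set G))) := hmeet ▸ mem_zpowers z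
    obtain ⟨w, hw, e⟩ := mem_map.1 h1
    exact (show w = zH from Subtype.ext e) ▸ hw
  have hmeet' : ∀ x ∈ H₁ ⊓ H₂, x = 1 ∨ x = zH := fun x hx => by
    have h1 : (x : G) ∈ zpowers z := hmeet ▸ mem_map_of_mem _ hx
    obtain ⟨k, hk⟩ := mem_zpowers_iff.1 h1
    rw [← zpow_mod_orderOf, hz] at hk
    rcases Int.emod_two_eq k with e | e <;> rw [show ((2 : ℕ) : ℤ) = 2 from rfl, e] at hk
    · exact Or.inl (Subtype.ext (by simpa using hk.symm))
    · exact Or.inr (Subtype.ext (show (x : G) = z by simpa using hk.symm))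
  have hzc : ∀ x : (centralizer ({z} : Set G)), x * zH = zH * x := fun x => Subtype.ext ((hmemH _).1 x.2)
  have inv_only : ∀ a < 24, sm a a = sO → a = sO ∨ a = sZ := by decide +kernel
  have gz1 : g1 sZ = zH := by
    obtain ⟨a, ha, e⟩ := gs1 zH hzmem.1
    have h2 : sm a a = sO := gi1 _ (Coords.lt_sm ha ha) _ (by decide) (by rw [gm1 a ha a ha, e, hzH2, go1])
    rcases inv_only a ha h2 with rfl | rfl
    · exact absurd (e.symm.trans go1) hzH1
    · exact e
  have gz2 : g2 sZ = zH := by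
    obtain ⟨a, ha, e⟩ := gs2 zH hzmem.2
    have h2 : sm a a = sO := gi2 _ (Coords.lt_sm ha ha) _ (by decide) (by rw [gm2 a ha a ha, e, hzH2, go2])
    rcases inv_only a ha h2 with rfl | rfl
    · exact absurd (e.symm.trans go2) hzH1
    · exact e
  have nn : ∀ {A : Subgroup (centralizer ({z} : Set G))}, A ≤ H₁ ⊔ H₂ → (A.subgroupOf (H₁ ⊔ H₂)).Normal →
      ∀ k ∈ H₁ ⊔ H₂, ∀ a ∈ A, k * a * k⁻¹ ∈ A := by
    intro A hA hn k hk a ha
    exact mem_subgroupOf.1 (hn.conj_mem ⟨a, hA ha⟩ (mem_subgroupOf.2 ha) ⟨k, hk⟩)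
  have hcomm : ∀ a < 24, ∀ b < 24, g1 a * g2 b = g2 b * g1 a := by
    intro a ha b hb
    have key : ∀ u w, u ∈ H₁ → w ∈ H₂ → u * w = w * u * zH ∨ u * w = w * u := by
      intro u w hu hw
      have h1 : u⁻¹ * w⁻¹ * u * w ∈ H₁ ⊓ H₂ := by
        refine ⟨?_, ?_⟩
        · have := H₁.mul_mem (H₁.inv_mem hu) (nn le_sup_left hn₁ w⁻¹ (inv_mem (mem_sup_right hw)) u hu)
          simpa [mul_assoc] using this
        · have := H₂.mul_mem (nn le_sup_right hn₂ u⁻¹ (inv_mem (mem_sup_left hu)) w⁻¹ (H₂.inv_mem hw)) hw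
          simpa [mul_assoc] using this
      have e : u * w = w * u * (u⁻¹ * w⁻¹ * u * w) := by group
      rcases hmeet' _ h1 with e1 | e1 <;> rw [e1] at e
      · exact Or.inr (by rwa [mul_one] at e)
      · exact Or.inl e
    have cube : ∀ u w, u ∈ H₁ → w ∈ H₂ → w * w * w = 1 → u * w = w * u := by
      intro u w hu hw h3
      rcases key u w hu hw with e | e
      · exfalso
        have e2 : u * (w * w * w) = w * w * w * u * zH := by
          calc u * (w * w * w) = u * w * w * w := by group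
            _ = w * u * (zH * w) * w := by rw [e]; group
            _ = w * u * (w * zH) * w := by rw [hzc w]
            _ = w * (u * w) * (zH * w) := by group
            _ = w * w * u * (zH * zH) * w := by rw [e]; group
            _ = w * w * (u * w) := by rw [hzH2]; group
            _ = _ := by rw [e]; group
        rw [h3, mul_one, one_mul] at e2
        exact hzH1 (mul_eq_left.1 e2.symm)
      · exact e
    obtain ⟨u, hu, v, hv, w, hw, u3, v3, w3, rfl⟩ := gen_three b hb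
    have c3 : ∀ p < 24, sm (sm p p) p = sO → Commute (g1 a) (g2 p) := fun p hp p3 =>
      cube _ _ (gin1 a) (gin2 p) (by rw [← gm2 p hp p hp, ← gm2 _ (Coords.lt_sm hp hp) p hp, p3, go2])
    rw [gm2 _ (Coords.lt_sm hu hv) w hw, gm2 u hu v hv]
    exact (((c3 u hu u3).mul_right (c3 v hv v3)).mul_right (c3 w hw w3)).eq
  have hmeetN : ∀ a < 24, ∀ b < 24, g1 a = g2 b → a = sO ∨ a = sZ := by
    intro a ha b hb h
    rcases hmeet' (g1 a) ⟨gin1 a, h ▸ gin2 b⟩ with e | e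
    · exact Or.inl (gi1 a ha sO (by decide) (e.trans go1.symm))
    · exact Or.inr (gi1 a ha sZ (by decide) (e.trans gz1.symm))
  let C : Coords z :=
    { f1 := fun a => (g1 a : G)
      f2 := fun a => (g2 a : G)
      mul1 := fun a ha b hb => congrArg Subtype.val (gm1 a ha b hb)
      mul2 := fun a ha b hb => congrArg Subtype.val (gm2 a ha b hb)
      inj1 := fun a ha b hb h => gi1 a ha b hb (Subtype.ext h)
      inj2 := fun a ha b hb h => gi2 a ha b hb (Subtype.ext h)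
      zz1 := congrArg Subtype.val gz1
      zz2 := congrArg Subtype.val gz2
      com := fun a ha b hb => congrArg Subtype.val (hcomm a ha b hb)
      meet := fun a ha b hb h => hmeetN a ha b hb (Subtype.ext h) }
  -- the product
  have hlt := @Coords.lt_sm
  have hKmem : ∀ x : (centralizer ({z} : Set G)), x ∈ H₁ ⊔ H₂ ↔ ∃ a < 24, ∃ b < 24, x = g1 a * g2 b := by
    intro x
    refine ⟨fun hx => ?_, ?_⟩
    · rw [sup_eq_closure] at hx
      induction hx using closure_induction with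
      | mem y hy =>
        rcases hy with hy | hy
        · obtain ⟨a, ha, e⟩ := gs1 y hy
          exact ⟨a, ha, sO, by decide, by rw [e, go2, mul_one]⟩
        · obtain ⟨a, ha, e⟩ := gs2 y hy
          exact ⟨sO, by decide, a, ha, by rw [e, go1, one_mul]⟩
      | one => exact ⟨sO, by decide, sO, by decide, by rw [go1, go2, one_mul]⟩
      | mul y w _ _ hy hw =>
        obtain ⟨a, ha, b, hb, rfl⟩ := hy
        obtain ⟨c, hc, e, he, rfl⟩ := hw
        exact ⟨_, hlt ha hc, _, hlt hb he, Subtype.ext (C.pair_mul ha hb hc he)⟩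
      | inv y _ hy =>
        obtain ⟨a, ha, b, hb, rfl⟩ := hy
        refine ⟨_, (sinv_mul a ha).1, _, (sinv_mul b hb).1, Subtype.ext ?_⟩
        show ((g1 a : G) * (g2 b : G))⁻¹ = C.f1 (sinv a) * C.f2 (sinv b)
        rw [← C.inv1 ha, ← C.inv2 hb, ← mul_inv_rev]
        exact congrArg (·⁻¹) (C.com a ha b hb)
    · rintro ⟨a, ha, b, hb, rfl⟩
      exact mul_mem (mem_sup_left (gin1 a)) (mem_sup_right (gin2 b))
  -- the two-core
  have hQmem : ∀ x : (centralizer ({z} : Set G)), x ∈ Q ↔ ∃ a < 24, ∃ b < 24, inQ8 a = true ∧ inQ8 b = true ∧ x = g1 a * g2 b := by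
    have hz24 : sZ < 24 := by decide
    let P : Subgroup ↥(H₁ ⊔ H₂) :=
      { carrier := {x | ∃ a < 24, ∃ b < 24, inQ8 a = true ∧ inQ8 b = true ∧ (x : (centralizer ({z} : Set G))) = g1 a * g2 b}
        one_mem' := ⟨sO, by decide, sO, by decide, by decide +kernel, by decide +kernel, by rw [go1, go2, one_mul]; rfl⟩
        mul_mem' := by
          rintro x y ⟨a, ha, b, hb, qa, qb, ex⟩ ⟨c, hc, e, he, qc, qe, ey⟩
          exact ⟨_, hlt ha hc, _, hlt hb he, (q8_facts a ha qa).2.1 c hc qc, (q8_facts b hb qb).2.1 e he qe,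
            Subtype.ext (by
              show ((x : (centralizer ({z} : Set G))) : G) * ((y : (centralizer ({z} : Set G))) : G) = C.f1 (sm a c) * C.f2 (sm b e)
              rw [ex, ey]; exact C.pair_mul ha hb hc he)⟩
        inv_mem' := by
          rintro x ⟨a, ha, b, hb, qa, qb, ex⟩
          have hi : ∀ a < 24, inQ8 a = true → inQ8 (sinv a) = true := by decide +kernel
          refine ⟨_, (sinv_mul a ha).1, _, (sinv_mul b hb).1, hi a ha qa, hi b hb qb, Subtype.ext ?_⟩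
          show ((x : (centralizer ({z} : Set G))) : G)⁻¹ = C.f1 (sinv a) * C.f2 (sinv b)
          rw [ex, ← C.inv1 ha, ← C.inv2 hb, ← mul_inv_rev]
          exact congrArg (·⁻¹) (C.com a ha b hb) }
    have P8 : ∀ x ∈ P, x ^ (2 ^ 3) = 1 := by
      rintro x ⟨a, ha, b, hb, qa, qb, ex⟩
      refine Subtype.ext (Subtype.ext ?_)
      have h4 : ((x : (centralizer ({z} : Set G))) : G) * (x : (centralizer ({z} : Set G))) * (((x : (centralizer ({z} : Set G))) : G) * (x : (centralizer ({z} : Set G)))) = 1 := by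
        rw [ex]
        show C.f1 a * C.f2 b * (C.f1 a * C.f2 b) * (C.f1 a * C.f2 b * (C.f1 a * C.f2 b)) = 1
        rw [C.pair_mul ha hb ha hb, C.pair_mul (hlt ha ha) (hlt hb hb) (hlt ha ha) (hlt hb hb),
          (q8_facts a ha qa).1, (q8_facts b hb qb).1, C.one1, C.one2, one_mul]
      show ((x : (centralizer ({z} : Set G))) : G) ^ (2 ^ 3) = 1
      rw [show 2 ^ 3 = 2 + 2 + (2 + 2) from rfl, pow_add, pow_add, pow_two, h4, one_mul]
    have hP2 : ∀ x : ↥(H₁ ⊔ H₂), x ∈ P ↔ ∃ k : ℕ, x ^ 2 ^ k = 1 := by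
      intro x
      refine ⟨fun hx => ⟨3, P8 x hx⟩, fun ⟨k, hk⟩ => ?_⟩
      obtain ⟨a, ha, b, hb, ex⟩ := (hKmem _).1 x.2
      have h8 : ∀ a < 24, sm (sm (sm a a) (sm a a)) (sm (sm a a) (sm a a)) = sO ∨
          sm (sm (sm a a) (sm a a)) (sm (sm a a) (sm a a)) = sZ →
          inQ8 a = true := q8_of_pow
      have hord : orderOf x ∣ 2 ^ k := orderOf_dvd_of_pow_eq_one hk
      have hx24 : ((x : (centralizer ({z} : Set G))) : G) ^ 24 = 1 := by
        have p24 : ∀ a < 24, sm (sm (sm (sm a a) (sm a a)) (sm (sm a a) (sm a a)))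
            (sm (sm (sm (sm a a) (sm a a)) (sm (sm a a) (sm a a))) (sm (sm (sm a a) (sm a a)) (sm (sm a a) (sm a a)))) = sO := by
          decide +kernel
        rw [ex]
        show (C.f1 a * C.f2 b) ^ 24 = 1
        have e2 := C.pair_mul ha hb ha hb
        have e4 := C.pair_mul (hlt ha ha) (hlt hb hb) (hlt ha ha) (hlt hb hb)
        have e8 := C.pair_mul (hlt (hlt ha ha) (hlt ha ha)) (hlt (hlt hb hb) (hlt hb hb))
          (hlt (hlt ha ha) (hlt ha ha)) (hlt (hlt hb hb) (hlt hb hb))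
        have la := hlt (hlt (hlt ha ha) (hlt ha ha)) (hlt (hlt ha ha) (hlt ha ha))
        have lb := hlt (hlt (hlt hb hb) (hlt hb hb)) (hlt (hlt hb hb) (hlt hb hb))
        have e16 := C.pair_mul la lb la lb
        have e24 := C.pair_mul la lb (hlt la la) (hlt lb lb)
        rw [show 24 = (2 + 2 + (2 + 2)) + ((2 + 2 + (2 + 2)) + (2 + 2 + (2 + 2))) from rfl]
        simp only [pow_add, pow_two]
        rw [e2, e4, e8, e16, e24, p24 a ha, p24 b hb, C.one1, C.one2, one_mul]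
      have h8x : x ^ 8 = 1 := by
        have h24 : orderOf x ∣ 24 := orderOf_dvd_of_pow_eq_one (Subtype.ext (Subtype.ext hx24))
        have h3 := Nat.dvd_gcd hord h24
        have hg : Nat.gcd (2 ^ k) 24 ∣ 8 := by
          have : Nat.Coprime (Nat.gcd (2 ^ k) 24) 3 :=
            Nat.Coprime.coprime_dvd_left (Nat.gcd_dvd_left _ _) ((Nat.Coprime.pow_left k (by norm_num)))
          exact this.dvd_of_dvd_mul_right (show Nat.gcd (2 ^ k) 24 ∣ 8 * 3 from Nat.gcd_dvd_right _ _)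
        exact orderOf_dvd_iff_pow_eq_one.1 (h3.trans hg)
      have h8' : C.f1 (sm (sm (sm a a) (sm a a)) (sm (sm a a) (sm a a))) *
          C.f2 (sm (sm (sm b b) (sm b b)) (sm (sm b b) (sm b b))) = C.f1 sO * C.f2 sO := by
        rw [C.one1, C.one2, one_mul,
          ← C.pair_mul (hlt (hlt ha ha) (hlt ha ha)) (hlt (hlt hb hb) (hlt hb hb)) (hlt (hlt ha ha) (hlt ha ha))
            (hlt (hlt hb hb) (hlt hb hb)), ← C.pair_mul (hlt ha ha) (hlt hb hb) (hlt ha ha) (hlt hb hb),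
          ← C.pair_mul ha hb ha hb]
        have := congrArg (fun w : ↥(H₁ ⊔ H₂) => ((w : (centralizer ({z} : Set G))) : G)) h8x
        simp only [SubmonoidClass.coe_pow, OneMemClass.coe_one, ex] at this
        change (C.f1 a * C.f2 b) ^ 8 = 1 at this
        rw [show 8 = 2 + 2 + (2 + 2) from rfl, pow_add, pow_add, pow_two] at this
        exact this
      have la := hlt (hlt (hlt ha ha) (hlt ha ha)) (hlt (hlt ha ha) (hlt ha ha))
      have lb := hlt (hlt (hlt hb hb) (hlt hb hb)) (hlt (hlt hb hb) (hlt hb hb))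
      rcases C.pair_inj la lb (show sO < 24 by decide) (show sO < 24 by decide) h8' with ⟨p, q⟩ | ⟨p, q⟩
      · exact ⟨a, ha, b, hb, h8 a ha (Or.inl p), h8 b hb (Or.inl q), ex⟩
      · rw [(sZ_central sZ hz24).2.2.1] at p q
        exact ⟨a, ha, b, hb, h8 a ha (Or.inr p), h8 b hb (Or.inr q), ex⟩
    have hPn : P.Normal := ⟨fun n hn g => (hP2 _).2 (by
      obtain ⟨k, hk⟩ := (hP2 n).1 hn
      exact ⟨k, by rw [conj_pow, hk, mul_one, mul_inv_cancel]⟩)⟩
    have hPp : IsPGroup 2 P := fun x => by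
      obtain ⟨k, hk⟩ := (hP2 x).1 x.2
      exact ⟨k, Subtype.ext hk⟩
    have hcore : Cfsg.pCore 2 ↥(H₁ ⊔ H₂) = P := by
      refine le_antisymm (sSup_le ?_) (le_sSup ⟨hPn, hPp⟩)
      rintro N ⟨-, hN⟩ x hx
      obtain ⟨k, hk⟩ := hN ⟨x, hx⟩
      exact (hP2 x).2 ⟨k, congrArg Subtype.val hk⟩
    intro x
    rw [hQ, hcore, mem_map]
    constructor
    · rintro ⟨w, ⟨a, ha, b, hb, qa, qb, e⟩, rfl⟩
      exact ⟨a, ha, b, hb, qa, qb, e⟩
    · rintro ⟨a, ha, b, hb, qa, qb, e⟩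
      exact ⟨⟨x, (hKmem x).2 ⟨a, ha, b, hb, e⟩⟩, ⟨a, ha, b, hb, qa, qb, e⟩, rfl⟩
  have hQG : ∀ x : G, x ∈ Q.map (Subgroup.subtype (centralizer ({z} : Set G))) ↔ C.inQ x := by
    intro x
    constructor
    · rintro ⟨w, hw, rfl⟩
      obtain ⟨a, ha, b, hb, qa, qb, e⟩ := (hQmem w).1 hw
      exact ⟨a, ha, b, hb, qa, qb, congrArg Subtype.val e⟩
    · rintro ⟨a, ha, b, hb, qa, qb, rfl⟩
      exact ⟨g1 a * g2 b, (hQmem _).2 ⟨a, ha, b, hb, qa, qb, rfl⟩, rfl⟩
  refine ⟨⟨C, Q.map (Subgroup.subtype (centralizer ({z} : Set G))), hQG, ?_, ?_, ?_, by rw [hH]; norm_num, ?_, hQQg⟩⟩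
  · intro x hx q hq
    obtain ⟨w, hw, rfl⟩ := hq
    exact ⟨⟨x, (hmemH x).2 hx⟩ * w * ⟨x, (hmemH x).2 hx⟩⁻¹, (inferInstance : Q.Normal).conj_mem w hw _, rfl⟩
  · intro x hx hcen
    refine ⟨⟨x, (hmemH x).2 hx⟩, ?_, rfl⟩
    have h := Layer.centralizer_generalizedFitting_le (G := (centralizer ({z} : Set G)))
    rw [hF] at h
    exact h (mem_centralizer_iff.2 fun q hq => Subtype.ext (hcen q ⟨q, hq, rfl⟩).symm)
  · intro x hx
    let X : (centralizer ({z} : Set G)) := ⟨x, (hmemH x).2 hx⟩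
    have hKx : ∀ w ∈ H₁ ⊔ H₂, X * w * X⁻¹ ∈ H₁ ⊔ H₂ := by
      intro w hw
      rw [hK] at hw ⊢
      induction hw using closure_induction with
      | mem y hy =>
        refine subset_closure ?_
        show Odd (orderOf (X * y * X⁻¹))
        have hy' : Odd (orderOf y) := hy
        have e : orderOf (X * y * X⁻¹) = orderOf y :=
          orderOf_injective (MulAut.conj X).toMonoidHom (MulAut.conj X).injective y
        rwa [e]
      | one => simp
      | mul a b _ _ ha hb =>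
        rw [show X * (a * b) * X⁻¹ = X * a * X⁻¹ * (X * b * X⁻¹) by group]
        exact mul_mem ha hb
      | inv a _ ha =>
        rw [show X * a⁻¹ * X⁻¹ = (X * a * X⁻¹)⁻¹ by group]
        exact inv_mem ha
    have hK1 : ∀ b < 24, ∃ c < 24, ∃ e < 24, x * C.f1 b * x⁻¹ = C.f1 c * C.f2 e := by
      intro b hb
      obtain ⟨c, hc, e, he, h⟩ := (hKmem _).1 (hKx _ (mem_sup_left (gin1 b)))
      exact ⟨c, hc, e, he, congrArg Subtype.val h⟩
    have hK2 : ∀ b < 24, ∃ c < 24, ∃ e < 24, x * C.f2 b * x⁻¹ = C.f1 c * C.f2 e := by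
      intro b hb
      obtain ⟨c, hc, e, he, h⟩ := (hKmem _).1 (hKx _ (mem_sup_right (gin2 b)))
      exact ⟨c, hc, e, he, congrArg Subtype.val h⟩
    have hK1' : ∀ b < 24, ∃ c < 24, ∃ e < 24, x * C.f1 b * x⁻¹ = C.f2 c * C.f1 e := fun b hb => by
      obtain ⟨c, hc, e, he, h⟩ := hK1 b hb
      exact ⟨e, he, c, hc, h.trans (C.com c hc e he)⟩
    have hK2' : ∀ b < 24, ∃ c < 24, ∃ e < 24, x * C.f2 b * x⁻¹ = C.f2 c * C.f1 e := fun b hb => by
      obtain ⟨c, hc, e, he, h⟩ := hK2 b hb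
      exact ⟨e, he, c, hc, h.trans (C.com c hc e he)⟩
    have zk12 : ∀ c < 24, ∀ e < 24, ∃ e' < 24, (c = sO ∨ c = sZ) → C.f1 c * C.f2 e = C.f2 e' := by
      intro c hc e he
      by_cases h : c = sO
      · exact ⟨e, he, fun _ => by rw [h, C.one1, one_mul]⟩
      · exact ⟨_, hlt (show sZ < 24 by decide) he, fun hh => by
          rw [hh.resolve_left h, C.mul2 sZ (by decide) e he, C.zz1, C.zz2]⟩
    have zk21 : ∀ c < 24, ∀ e < 24, ∃ e' < 24, (c = sO ∨ c = sZ) → C.f2 c * C.f1 e = C.f1 e' := by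
      intro c hc e he
      by_cases h : c = sO
      · exact ⟨e, he, fun _ => by rw [h, C.one2, one_mul]⟩
      · exact ⟨_, hlt (show sZ < 24 by decide) he, fun hh => by
          rw [hh.resolve_left h, C.mul1 sZ (by decide) e he, C.zz1, C.zz2]⟩
    obtain ⟨ncm, hk, hp, qk, qp, k1, k2, p1, p2, q0, -⟩ := q8_noncomm
    have side : ∀ f : Nat → G, (∀ a < 24, inQ8 a = true → f a ∈ Q.map (Subgroup.subtype (centralizer ({z} : Set G)))) →
        (∀ a < 24, ∀ b < 24, f (sm a b) = f a * f b) → f sZ = z → ∀ a < 24, inQ8 a = true → a ≠ sO → a ≠ sZ →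
        (∃ u < 24, inQ8 u = true ∧ x * f a * x⁻¹ = C.f1 u) ∨ ∃ u < 24, inQ8 u = true ∧ x * f a * x⁻¹ = C.f2 u := by
      intro f hfQ hfm hfz a ha qa a1 a2
      refine C.sides hz1 ((hQG _).1 ?_) ?_
      · obtain ⟨w, hw, e⟩ := hfQ a ha qa
        exact ⟨X * w * X⁻¹, (inferInstance : Q.Normal).conj_mem w hw _, by rw [← e]; rfl⟩
      · rw [show x * f a * x⁻¹ * (x * f a * x⁻¹) = x * (f a * f a) * x⁻¹ by group, ← hfm a ha a ha,
          sq_central a ha qa a1 a2, hfz, hx]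
        group
    have q1 : ∀ a < 24, inQ8 a = true → C.f1 a ∈ Q.map (Subgroup.subtype (centralizer ({z} : Set G))) := fun a ha qa =>
      (hQG _).2 ⟨a, ha, sO, by decide, qa, q0, by rw [C.one2, mul_one]⟩
    have q2 : ∀ a < 24, inQ8 a = true → C.f2 a ∈ Q.map (Subgroup.subtype (centralizer ({z} : Set G))) := fun a ha qa =>
      (hQG _).2 ⟨sO, by decide, a, ha, q0, qa, by rw [C.one1, one_mul]⟩
    have nc : ∀ (f g : Nat → G), (∀ a < 24, ∀ b < 24, f (sm a b) = f a * f b) →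
        (∀ a < 24, ∀ b < 24, f a = f b → a = b) → (∀ a < 24, ∀ b < 24, g (sm a b) = g a * g b) →
        ∀ u v, u < 24 → v < 24 → x * f sK * x⁻¹ = g u → x * f sP * x⁻¹ = g v → sm u v ≠ sm v u := by
      intro f g hfm hfi hgm u v hu hv eu ev e
      refine ncm (hfi _ (hlt hk hp) _ (hlt hp hk) ?_)
      have e' := congrArg g e
      rw [hgm u hu v hv, hgm v hv u hu, ← eu, ← ev] at e'
      rw [hfm sK hk sP hp, hfm sP hp sK hk]
      calc f sK * f sP = x⁻¹ * (x * f sK * x⁻¹ * (x * f sP * x⁻¹)) * x := by group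
        _ = _ := by rw [e']; group
    have ncs : ∀ (f : Nat → G), (∀ a < 24, ∀ b < 24, f (sm a b) = f a * f b) →
        (∀ a < 24, ∀ b < 24, f a = f b → a = b) →
        ∀ u v, u < 24 → v < 24 → x * f sK * x⁻¹ = C.f1 u → x * f sP * x⁻¹ = C.f2 v → False := by
      intro f hfm hfi u v hu hv eu ev
      refine ncm (hfi _ (hlt hk hp) _ (hlt hp hk) ?_)
      have e' := C.com u hu v hv
      rw [← eu, ← ev] at e'
      rw [hfm sK hk sP hp, hfm sP hp sK hk]
      calc f sK * f sP = x⁻¹ * (x * f sK * x⁻¹ * (x * f sP * x⁻¹)) * x := by group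
        _ = _ := by rw [e']; group
    have ncs' : ∀ (f : Nat → G), (∀ a < 24, ∀ b < 24, f (sm a b) = f a * f b) →
        (∀ a < 24, ∀ b < 24, f a = f b → a = b) →
        ∀ u v, u < 24 → v < 24 → x * f sK * x⁻¹ = C.f2 u → x * f sP * x⁻¹ = C.f1 v → False := by
      intro f hfm hfi u v hu hv eu ev
      refine ncm (hfi _ (hlt hk hp) _ (hlt hp hk) ?_)
      have e' := C.com v hv u hu
      rw [← eu, ← ev] at e'
      rw [hfm sK hk sP hp, hfm sP hp sK hk]
      calc f sK * f sP = x⁻¹ * (x * f sK * x⁻¹ * (x * f sP * x⁻¹)) * x := by group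
        _ = _ := by rw [← e']; group
    rcases side C.f1 q1 C.mul1 C.zz1 sK hk qk k1 k2 with ⟨u, hu, qu, eu⟩ | ⟨u, hu, qu, eu⟩ <;>
      rcases side C.f1 q1 C.mul1 C.zz1 sP hp qp p1 p2 with ⟨v, hv, qv, ev⟩ | ⟨v, hv, qv, ev⟩
    · have h2 := Coords.other x (f := C.f1) (g := C.f2) C.com zk12 C.com C.mul1 C.inj1 hK2 hu hv qu qv eu ev
        (nc C.f1 C.f1 C.mul1 C.inj1 C.mul1 u v hu hv eu ev)
      left
      refine ⟨?_, h2⟩
      obtain ⟨u', hu', eu'⟩ := h2 sK hk
      obtain ⟨v', hv', ev'⟩ := h2 sP hp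
      rcases side C.f2 q2 C.mul2 C.zz2 sK hk qk k1 k2 with ⟨w, hw, qw, ew⟩ | ⟨w, hw, qw, ew⟩
      · exfalso
        rw [eu'] at ew
        rcases C.meet w hw u' hu' ew.symm with e | e <;> rw [e] at ew
        · rw [C.one1] at ew
          rw [ew, mul_inv_eq_one, mul_eq_left] at eu'
          exact k1 (C.inj2 sK hk sO (by decide) (eu'.trans C.one2.symm))
        · rw [C.zz1] at ew
          rw [ew] at eu'
          have : C.f2 sK = z := by
            calc C.f2 sK = x⁻¹ * (x * C.f2 sK * x⁻¹) * x := by group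
              _ = x⁻¹ * (z * x) := by rw [eu']; group
              _ = _ := by rw [← hx]; group
          exact k2 (C.inj2 sK hk sZ (by decide) (this.trans C.zz2.symm))
      · rcases side C.f2 q2 C.mul2 C.zz2 sP hp qp p1 p2 with ⟨w', hw', qw', ew'⟩ | ⟨w', hw', qw', ew'⟩
        · exact (ncs' C.f2 C.mul2 C.inj2 w w' hw hw' ew ew').elim
        · exact Coords.other x (f := C.f2) (g := C.f1) (fun a ha b hb => (C.com b hb a ha).symm) zk21
            (fun a ha b hb => (C.com b hb a ha).symm) C.mul2 C.inj2 hK1' hw hw' qw qw' ew ew'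
            (nc C.f2 C.f2 C.mul2 C.inj2 C.mul2 w w' hw hw' ew ew')
    · exact (ncs C.f1 C.mul1 C.inj1 u v hu hv eu ev).elim
    · exact (ncs' C.f1 C.mul1 C.inj1 u v hu hv eu ev).elim
    · have h2 := Coords.other x (f := C.f1) (g := C.f2) C.com zk21 (fun a ha b hb => (C.com b hb a ha).symm)
        C.mul2 C.inj2 hK2' hu hv qu qv eu ev (nc C.f1 C.f2 C.mul1 C.inj1 C.mul2 u v hu hv eu ev)
      right
      refine ⟨?_, h2⟩
      obtain ⟨u', hu', eu'⟩ := h2 sK hk
      rcases side C.f2 q2 C.mul2 C.zz2 sK hk qk k1 k2 with ⟨w, hw, qw, ew⟩ | ⟨w, hw, qw, ew⟩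
      · rcases side C.f2 q2 C.mul2 C.zz2 sP hp qp p1 p2 with ⟨w', hw', qw', ew'⟩ | ⟨w', hw', qw', ew'⟩
        · exact Coords.other x (f := C.f2) (g := C.f1) (fun a ha b hb => (C.com b hb a ha).symm) zk12
            C.com C.mul1 C.inj1 hK1 hw hw' qw qw' ew ew'
            (nc C.f2 C.f1 C.mul2 C.inj2 C.mul1 w w' hw hw' ew ew')
        · exact (ncs C.f2 C.mul2 C.inj2 w w' hw hw' ew ew').elim
      · exfalso
        rw [eu'] at ew
        rcases C.meet u' hu' w hw ew with e | e <;> rw [e] at eu'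
        · rw [C.one1, mul_inv_eq_one, mul_eq_left] at eu'
          exact k1 (C.inj2 sK hk sO (by decide) (eu'.trans C.one2.symm))
        · rw [C.zz1] at eu'
          have : C.f2 sK = z := by
            calc C.f2 sK = x⁻¹ * (x * C.f2 sK * x⁻¹) * x := by group
              _ = x⁻¹ * (z * x) := by rw [eu']; group
              _ = _ := by rw [← hx]; group
          exact k2 (C.inj2 sK hk sZ (by decide) (this.trans C.zz2.symm))
  · obtain ⟨g, ⟨hq, hm⟩, hne⟩ := hnwc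
    exact ⟨g, ⟨⟨g * z * g⁻¹, hq⟩, hm, rfl⟩, hne⟩

end Cfsg.Agent.U43Type
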