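import Cfsg.Agent.U43Type.Hom
import Cfsg.Agent.U43Type.GenWords
import Cfsg.Agent.U43Type.Cert.Cent.Main

/-!
Bounds on the presented group and its subgroup on four letters.
-/

set_option autoImplicit false
set_option maxRecDepth 100000
set_option linter.all false

namespace Cfsg.Agent.U43Type

open Cfsg.Agent.CosetCert

/-- The four letters. -/
abbrev fourL : List (Fin 5) := [0, 1, 2, 3]

/-- The subgroup on four letters. -/
abbrev KP : Subgroup PGrp := letterSub PRels fourL

theorem KP_bound : Finite KP ∧ Nat.card KP ≤ 1152 := by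
  have h4 := letterSub_nil_card PRels
  have h := letterSub_card_le (rels := PRels) (fun b : Fin 4 => (Fin.castSucc b : Fin 5)) (List.finRange 4)
    Cert.Cent.subLetters [] rfl List.mem_finRange
    (fun l hl => PresentedGroup.one_of_mem (List.mem_map_of_mem (by
      have h : (Cert.Cent.relWords.all fun l => decide (l.map (fun a => ((Fin.castSucc a.1 : Fin 5), a.2)) ∈
          Cert.Index.relWords)) = true := by decide +kernel
      exact of_decide_eq_true (List.all_eq_true.1 h l hl))))
    Cert.Cent.index_bound h4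
  have e : (List.finRange 4).map (fun b : Fin 4 => (Fin.castSucc b : Fin 5)) = fourL := by decide +kernel
  rw [e, Nat.mul_one] at h
  exact h

theorem PGrp_bound : Finite PGrp ∧ Nat.card PGrp ≤ 3265920 := by
  have h := card_le_top (rels := PRels) fourL (by
    show _ = fourL.map FreeGroup.of
    have : Cert.Index.subLetters = fourL := by decide +kernel
    rw [← this]) Cert.Index.index_bound KP_bound
  exact h

/-- The value of a word in the presented group. -/
noncomputable def pVal (w : List Nat) : PGrp := valOf (fun b => (PresentedGroup.of b : PGrp)) w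

theorem pVal_rel {w : List Nat} (hw : w ∈ relMain) : pVal w = 1 := by
  have h : PresentedGroup.mk PRels (FreeGroup.mk (w.map sl5)) = 1 :=
    PresentedGroup.one_of_mem (List.mem_map_of_mem (index_rels ▸ List.mem_map_of_mem hw))
  have e : FreeGroup.lift (fun b => (PresentedGroup.of b : PGrp)) = PresentedGroup.mk PRels :=
    FreeGroup.ext_hom _ _ fun b => by rw [FreeGroup.lift_apply_of]; rfl
  rw [pVal, ← lift_valOf, e]
  exact h

theorem pVal_mem_KP {w : List Nat} (hw : hWord w = true) : pVal w ∈ KP := by
  induction w with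
  | nil => exact KP.one_mem
  | cons x w ih =>
    simp only [hWord, List.all_cons, Bool.and_eq_true] at hw
    rw [pVal, valOf_cons]
    refine KP.mul_mem ?_ (ih hw.2)
    have hx : x < 8 := Nat.ble_eq.mp hw.1
    have hm : (sl5 x).1 ∈ fourL := by
      have : ∀ x < 8, (sl5 x).1 ∈ fourL := by decide
      exact this x hx
    have hg : (PresentedGroup.of (sl5 x).1 : PGrp) ∈ KP := Subgroup.subset_closure ⟨_, hm, rfl⟩
    unfold letterVal
    cases (sl5 x).2
    · exact KP.inv_mem hg
    · exact hg

variable {G : Type*} [Group G]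

namespace Std

variable {z : G} (S : Std z) [Finite G]

theorem psi_pVal (w : List Nat) : S.psi (pVal w) = S.val w := by
  rw [pVal, map_valOf, show (fun b => S.psi (PresentedGroup.of b)) = S.gen from funext S.psi_of]
  rfl

theorem psi_KP : KP.map S.psi = Subgroup.centralizer ({z} : Set G) := by
  refine le_antisymm ?_ ?_
  · rw [show KP = Subgroup.closure {g | ∃ b ∈ fourL, g = PresentedGroup.of b} from rfl, MonoidHom.map_closure, Subgroup.closure_le]
    rintro _ ⟨_, ⟨b, hb, rfl⟩, rfl⟩
    rw [SetLike.mem_coe, Subgroup.mem_centralizer_singleton_iff, S.psi_of]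
    refine S.gen_cen ?_
    revert b
    decide
  · intro x hx
    obtain ⟨i, hi, rfl⟩ := S.φ_surj x (Subgroup.mem_centralizer_singleton_iff.1 hx)
    have h := List.all_eq_true.1 wordOf_ok i (List.mem_range.2 hi)
    simp only [Bool.and_eq_true, beq_iff_eq] at h
    refine ⟨pVal (wordOf i), pVal_mem_KP h.1, ?_⟩
    rw [S.psi_pVal, (S.val_H h.1).2, h.2]

include S in
theorem card_cent : Nat.card ↥(Subgroup.centralizer ({z} : Set G)) = 1152 := by
  classical
  let f : Fin 1152 → ↥(Subgroup.centralizer ({z} : Set G)) := fun i =>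
    ⟨S.φ i, Subgroup.mem_centralizer_singleton_iff.2 (S.φ_cen i i.2)⟩
  have hb : Function.Bijective f := by
    refine ⟨fun a b e => Fin.ext (S.φ_inj a a.2 b b.2 (congrArg Subtype.val e)), fun x => ?_⟩
    obtain ⟨i, hi, e⟩ := S.φ_surj x (Subgroup.mem_centralizer_singleton_iff.1 x.2)
    exact ⟨⟨i, hi⟩, Subtype.ext e⟩
  rw [← Nat.card_congr (Equiv.ofBijective f hb), Nat.card_fin]

theorem psi_inj_KP {u : PGrp} (hu : u ∈ KP) (h : S.psi u = 1) : u = 1 := by
  haveI : Finite KP := KP_bound.1
  let f : KP → ↥(Subgroup.centralizer ({z} : Set G)) := fun k =>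
    ⟨S.psi k, S.psi_KP ▸ Subgroup.mem_map_of_mem _ k.2⟩
  have hs : Function.Surjective f := by
    rintro ⟨x, hx⟩
    rw [← S.psi_KP] at hx
    obtain ⟨k, hk, e⟩ := hx
    exact ⟨⟨k, hk⟩, Subtype.ext e⟩
  have hb := hs.bijective_of_nat_card_le (by rw [S.card_cent]; exact KP_bound.2)
  exact congrArg Subtype.val (hb.1 (a₁ := ⟨u, hu⟩) (a₂ := 1) (Subtype.ext (by
    show S.psi u = S.psi 1
    rw [h, map_one])))

end Std

end Cfsg.Agent.U43Type
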