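import Cfsg.Agent.U43Type.Mat
import Cfsg.Prelude.Def_Classical

/-!
The tables as elements of the special unitary group of dimension four.
-/

set_option autoImplicit false
set_option maxRecDepth 100000
set_option linter.all false

namespace Cfsg.Agent.U43Type

open Matrix

/-- A field with nine elements with a root of `-1`. -/
structure Nine (K : Type) [Field K] : Prop where
  three : (3 : K) = 0
  root : ∃ u : K, u * u = -1

theorem nine_of_card (K : Type) [Field K] [Fintype K] (h : Fintype.card K = 9) : Nine K := by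
  constructor
  · obtain ⟨p, n, hp⟩ : ∃ p, ∃ n : ℕ+, p.Prime ∧ Fintype.card K = p ^ (n : ℕ) ∧ CharP K p := by
      obtain ⟨p, hp⟩ := CharP.exists K
      obtain ⟨n, h1, h2⟩ := FiniteField.card K p
      exact ⟨p, n, h1, h2, hp⟩
    obtain ⟨hpr, hc, hch⟩ := hp
    have : p ∣ 3 ^ 2 := by
      rw [show (3 : ℕ) ^ 2 = 9 from rfl, ← h, hc]
      exact dvd_pow_self p n.pos.ne'
    have hp3 : p = 3 := (Nat.prime_dvd_prime_iff_eq hpr Nat.prime_three).1 (hpr.dvd_of_dvd_pow this)
    subst hp3
    exact_mod_cast CharP.cast_eq_zero K 3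
  · obtain ⟨u, hu⟩ := (FiniteField.isSquare_neg_one_iff (F := K)).2 (by omega)
    exact ⟨u, hu.symm⟩

variable {K : Type} [Field K]

/-- The value of a number. -/
def iota (u : K) (x : Nat) : K := ((x % 3 : Nat) : K) + ((x / 3 : Nat) : K) * u

variable {u : K} (h3 : (3 : K) = 0) (hu : u * u = -1)

include h3 in
theorem cast_mod3 (n : Nat) : ((n % 3 : Nat) : K) = (n : K) := by
  conv_rhs => rw [← Nat.mod_add_div n 3]
  push_cast
  rw [h3]; ring

include h3 in
theorem iota_split (a b : Nat) (ha : a < 3) : iota u (a + 3 * b) = (a : K) + (b : K) * u := by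
  rw [iota, show (a + 3 * b) % 3 = a by omega, show (a + 3 * b) / 3 = b by omega]

include h3 in
theorem iota_add (x y : Nat) : iota u (fAdd x y) = iota u x + iota u y := by
  rw [fAdd, iota_split h3 _ _ (Nat.mod_lt _ (by norm_num)), cast_mod3 h3, cast_mod3 h3]
  simp only [iota]
  push_cast
  ring

include h3 hu in
theorem iota_mul (x y : Nat) : iota u (fMul x y) = iota u x * iota u y := by
  rw [fMul, iota_split h3 _ _ (Nat.mod_lt _ (by norm_num)), cast_mod3 h3, cast_mod3 h3]
  simp only [iota]
  push_cast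
  linear_combination (-((x / 3 : Nat) : K) * ((y / 3 : Nat) : K)) * hu + (((x / 3 : Nat) : K) * ((y / 3 : Nat) : K)) * h3

theorem iota_one : iota u 1 = 1 := by simp [iota]

theorem iota_zero : iota u 0 = 0 := by simp [iota]

include h3 hu in
theorem iota_neg (x : Nat) : iota u (fNeg x) = -iota u x := by
  rw [fNeg, iota_mul h3 hu]
  have : iota u 2 = -1 := by
    simp [iota]
    linear_combination h3
  rw [this]; ring

include h3 hu in
theorem iota_inj {x y : Nat} (hx : x < 9) (hy : y < 9) (h : iota u x = iota u y) : x = y := by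
  by_contra hne
  have hh := List.all_eq_true.1 (List.all_eq_true.1 inv_table x (List.mem_range.2 hx)) y (List.mem_range.2 hy)
  simp only [beq_eq_false_iff_ne.2 hne, Bool.false_or, List.any_eq_true, beq_iff_eq] at hh
  obtain ⟨w, -, hw⟩ := hh
  have := congrArg (iota u) hw
  rw [iota_mul h3 hu, iota_add h3, iota_neg h3 hu, iota_one, h, add_neg_cancel, mul_zero] at this
  exact zero_ne_one this

/-- The matrix of a table. -/
def toK (u : K) (A : List Nat) : Matrix (Fin 4) (Fin 4) K := Matrix.of fun i j => iota u (ent A i j)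

theorem ent_map (f : Nat → Nat) (i j : Fin 4) :
    ent ((List.range 16).map f) i j = f (4 * (i : Nat) + j) := by
  have h : 4 * (i : Nat) + j < 16 := by omega
  simp [ent, List.getD_eq_getElem?_getD, List.getElem?_range h]

include h3 hu in
theorem toK_mul (A B : List Nat) : toK u (mulT A B) = toK u A * toK u B := by
  ext i j
  rw [Matrix.mul_apply, Fin.sum_univ_four]
  simp only [toK, Matrix.of_apply, mulT, ent_map, iota_add h3, iota_mul h3 hu]
  rw [show (4 * (i : Nat) + j) / 4 = i by omega, show (4 * (i : Nat) + j) % 4 = j by omega]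
  rfl

theorem toK_scal (c : Nat) : toK u (scalT c) = iota u c • (1 : Matrix (Fin 4) (Fin 4) K) := by
  ext i j
  simp only [toK, Matrix.of_apply, scalT, ent_map, Matrix.smul_apply, smul_eq_mul, Matrix.one_apply]
  rw [show (4 * (i : Nat) + j) / 4 = i by omega, show (4 * (i : Nat) + j) % 4 = j by omega]
  by_cases h : i = j
  · subst h; simp
  · have : ((i : Nat) == (j : Nat)) = false := beq_eq_false_iff_ne.2 (fun e => h (Fin.ext e))
    simp [h, this, iota_zero]

include h3 hu in
theorem toK_star (A : List Nat) : toK u (starT A) = (((toK u A).map (· ^ 3))ᵀ) := by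
  ext i j
  simp only [toK, Matrix.of_apply, starT, ent_map, Matrix.transpose_apply, Matrix.map_apply, iota_mul h3 hu]
  rw [show (4 * (i : Nat) + j) / 4 = i by omega, show (4 * (i : Nat) + j) % 4 = j by omega]
  ring

include h3 hu in
theorem toK_det (A : List Nat) : (toK u A).det = iota u (detT A) := by
  rw [Matrix.det_succ_row_zero, Fin.sum_univ_four]
  simp [Matrix.det_fin_three, Fin.succAbove, Fin.succ, Fin.castSucc, Fin.castAdd, Fin.castLE, detT, det3T, toK,
    iota_add h3, iota_mul h3 hu, iota_neg h3 hu]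
  ring

/-- All entries are reduced. -/
def Reduced (A : List Nat) : Prop := A.length = 16 ∧ ∀ x ∈ A, x < 9

theorem reduced_mul (A B : List Nat) : Reduced (mulT A B) := by
  refine ⟨by simp [mulT], fun x hx => ?_⟩
  simp only [mulT, List.mem_map] at hx
  obtain ⟨n, -, rfl⟩ := hx
  unfold fAdd
  omega

include h3 hu in
theorem toK_inj {A B : List Nat} (hA : Reduced A) (hB : Reduced B) (h : toK u A = toK u B) : A = B := by
  refine List.ext_getElem (hA.1.trans hB.1.symm) fun n h1 h2 => ?_
  have hn : n < 16 := hA.1 ▸ h1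
  have e := congrFun (congrFun h ⟨n / 4, by omega⟩) ⟨n % 4, by omega⟩
  simp only [toK, Matrix.of_apply, ent, show 4 * (n / 4) + n % 4 = n by omega, List.getD_eq_getElem _ _ h1,
    List.getD_eq_getElem _ _ h2] at e
  exact iota_inj h3 hu (hA.2 _ (List.getElem_mem h1)) (hB.2 _ (List.getElem_mem h2)) e

/-- The group. -/
abbrev U (K : Type) [Field K] : Type := ↥(Cfsg.SU 4 K 3)

/-- The matrix of an element. -/
noncomputable def mat : U K →* Matrix (Fin 4) (Fin 4) K :=
  (Cfsg.slToMat 4 K).comp (Cfsg.SU 4 K 3).subtype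

theorem mat_injective : Function.Injective (mat : U K → Matrix (Fin 4) (Fin 4) K) := fun _ _ h =>
  Subtype.ext (Subtype.ext h)

include h3 in
theorem mem_SU_of {M : Matrix.SpecialLinearGroup (Fin 4) K}
    (h : (((M : Matrix (Fin 4) (Fin 4) K).map (· ^ 3))ᵀ) * M = 1) : M ∈ Cfsg.SU 4 K 3 := by
  haveI : Fact (Nat.Prime 3) := ⟨Nat.prime_three⟩
  haveI : CharP K 3 := (CharP.charP_iff_prime_eq_zero Nat.prime_three).2 (by exact_mod_cast h3)
  intro a b
  show Cfsg.hermForm 4 K 3 ((M : Matrix (Fin 4) (Fin 4) K) *ᵥ a) ((M : Matrix (Fin 4) (Fin 4) K) *ᵥ b) = _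
  have h' := congrArg Matrix.transpose h
  rw [Matrix.transpose_mul, Matrix.transpose_transpose, Matrix.transpose_one] at h'
  have hf : ∀ a b : Fin 4 → K, Cfsg.hermForm 4 K 3 a b = a ⬝ᵥ fun i => b i ^ 3 := fun _ _ => rfl
  have h2 : (fun i => ((M : Matrix (Fin 4) (Fin 4) K) *ᵥ b) i ^ 3) =
      (M : Matrix (Fin 4) (Fin 4) K).map (frobenius K 3) *ᵥ fun i => b i ^ 3 := by
    funext i
    exact RingHom.map_mulVec (frobenius K 3) _ b i
  rw [hf, h2, ← Matrix.vecMul_transpose (M : Matrix (Fin 4) (Fin 4) K) a, ← Matrix.dotProduct_mulVec,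
    Matrix.mulVec_mulVec, show (M : Matrix (Fin 4) (Fin 4) K).map (frobenius K 3)
    = (M : Matrix (Fin 4) (Fin 4) K).map (· ^ 3) from rfl, h', Matrix.one_mulVec]
  exact (hf a b).symm

end Cfsg.Agent.U43Type
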