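import Cfsg.Agent.U43Type.Bound
import Cfsg.Agent.U43Type.Unitary
import Cfsg.Agent.S0280
import Cfsg.Agent.S0283

/-!
The presented group is the projective unitary group.
-/

set_option autoImplicit false
set_option maxRecDepth 100000
set_option linter.all false
set_option maxHeartbeats 1000000

namespace Cfsg.Agent.U43Type

open Matrix

variable {K : Type} [Field K] [Fintype K] (hK : Fintype.card K = 9)

/-- The root. -/
noncomputable def rootK : K := Classical.choose (nine_of_card K hK).root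

theorem rootK_sq : rootK hK * rootK hK = -1 := Classical.choose_spec (nine_of_card K hK).root

theorem genT_props (b : Nat) (hb : b < 5) : Reduced (genT b) ∧ mulT (starT (genT b)) (genT b) = scalT 1 ∧
    mulT (genT b) (starT (genT b)) = scalT 1 ∧ detT (genT b) = 1 := by
  have h := List.all_eq_true.1 gen_table b (List.mem_range.2 hb)
  simp only [Bool.and_eq_true, beq_iff_eq, List.all_eq_true] at h
  exact ⟨⟨h.1.1.1.1, fun x hx => Nat.ble_eq.mp (h.1.1.1.2 x hx)⟩, h.1.1.2, h.1.2, h.2⟩

/-- A generator in the special unitary group. -/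
noncomputable def genU (b : Fin 5) : U K :=
  ⟨⟨toK (rootK hK) (genT b), by
      rw [toK_det (nine_of_card K hK).three (rootK_sq hK), (genT_props b b.2).2.2.2, iota_one]⟩,
    mem_SU_of (nine_of_card K hK).three (by
      show ((toK (rootK hK) (genT b)).map (· ^ 3))ᵀ * toK (rootK hK) (genT b) = 1
      rw [← toK_star (nine_of_card K hK).three (rootK_sq hK), ← toK_mul (nine_of_card K hK).three (rootK_sq hK),
        (genT_props b b.2).2.1, toK_scal, iota_one, one_smul])⟩

theorem mat_genU (b : Fin 5) : mat (genU hK b) = toK (rootK hK) (genT b) := rfl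

theorem mat_letter (x : Nat) : mat (letterVal (genU hK) x) = toK (rootK hK) (letT x) := by
  unfold letterVal letT sl5
  have hb : (Fin.ofNat 5 (x / 2)).val = x / 2 % 5 := rfl
  cases h : Nat.beq (x % 2) 0
  · simp only [cond_false]
    have h1 : toK (rootK hK) (starT (genT (x / 2 % 5))) * mat (genU hK (Fin.ofNat 5 (x / 2))) = 1 := by
      rw [mat_genU, hb, ← toK_mul (nine_of_card K hK).three (rootK_sq hK),
        (genT_props _ (Nat.mod_lt _ (by norm_num))).2.1, toK_scal, iota_one, one_smul]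
    calc mat (genU hK (Fin.ofNat 5 (x / 2)))⁻¹
        = toK (rootK hK) (starT (genT (x / 2 % 5))) * (mat (genU hK (Fin.ofNat 5 (x / 2))) *
            mat (genU hK (Fin.ofNat 5 (x / 2)))⁻¹) := by rw [← mul_assoc, h1, one_mul]
      _ = _ := by rw [← map_mul, mul_inv_cancel, map_one, mul_one]
  · simp only [cond_true]
    rw [mat_genU, hb]

theorem mat_valOf (w : List Nat) : mat (valOf (genU hK) w) = toK (rootK hK) (evalT w) := by
  induction w with
  | nil => rw [valOf_nil, map_one, evalT, toK_scal, iota_one, one_smul]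
  | cons x w ih =>
    rw [valOf_cons, map_mul, ih, mat_letter, evalT, toK_mul (nine_of_card K hK).three (rootK_sq hK)]

theorem scal_center {w : List Nat} (h : isScal w = true) :
    valOf (genU hK) w ∈ Subgroup.center (U K) := by
  rw [Subgroup.mem_center_iff]
  intro g
  refine mat_injective ?_
  rw [isScal, beq_iff_eq] at h
  rw [map_mul, map_mul, mat_valOf, h, toK_scal, smul_mul_assoc, mul_smul_comm, one_mul, mul_one]

theorem reduced_evalT : ∀ w, Reduced (evalT w)
  | [] => by
      have h : (scalT 1).length = 16 ∧ ∀ x ∈ scalT 1, x < 9 := by decide +kernel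
      exact h
  | x :: w => reduced_mul _ _

theorem notCen_center {w : List Nat} (h : notCen w = true) :
    valOf (genU hK) w ∉ Subgroup.center (U K) := by
  intro hc
  obtain ⟨b, hb, hne⟩ := List.any_eq_true.1 h
  simp only [Bool.not_eq_true', beq_eq_false_iff_ne] at hne
  refine hne (toK_inj (nine_of_card K hK).three (rootK_sq hK) (reduced_mul _ _) (reduced_mul _ _) ?_)
  rw [toK_mul (nine_of_card K hK).three (rootK_sq hK), toK_mul (nine_of_card K hK).three (rootK_sq hK)]
  have e := congrArg mat (Subgroup.mem_center_iff.1 hc (genU hK ⟨b, List.mem_range.1 hb⟩))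
  rw [map_mul, map_mul, mat_valOf, mat_genU] at e
  exact e.symm

/-- The images in the quotient. -/
noncomputable def genP (b : Fin 5) : Cfsg.PSU 4 K 3 := QuotientGroup.mk' _ (genU hK b)

theorem valP (w : List Nat) : valOf (genP hK) w = QuotientGroup.mk' _ (valOf (genU hK) w) :=
  (map_valOf (genU hK) (QuotientGroup.mk' (Subgroup.center (U K))) w).symm

theorem valP_one_iff (w : List Nat) : valOf (genP hK) w = 1 ↔ valOf (genU hK) w ∈ Subgroup.center (U K) := by
  rw [valP]
  exact QuotientGroup.eq_one_iff _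

/-- The map onto the projective unitary group. -/
noncomputable def chi : PGrp →* Cfsg.PSU 4 K 3 :=
  PresentedGroup.toGroup (f := genP hK) (rels := PRels) (by
    intro r hr
    obtain ⟨l, hl, rfl⟩ := List.mem_map.1 hr
    rw [index_rels] at hl
    obtain ⟨w, hw, rfl⟩ := List.mem_map.1 hl
    rw [lift_valOf, valP_one_iff]
    exact scal_center hK (List.all_eq_true.1 rel_table w hw))

theorem chi_pVal (w : List Nat) : chi hK (pVal w) = valOf (genP hK) w := by
  rw [pVal, map_valOf]
  exact congrArg (fun f => valOf f w) (funext fun b => PresentedGroup.toGroup.of _)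

include hK in
theorem card_PSU : Nat.card (Cfsg.PSU 4 K 3) = 3265920 := by
  have hF : Fintype.card K = 3 ^ 2 := by rw [hK]; norm_num
  have h := Cfsg.Agent.S0280.result hF 4 (by norm_num)
  rw [show Nat.gcd 4 (3 + 1) = 4 by norm_num] at h
  norm_num [Finset.prod_range_succ, Finset.prod_range_zero, Nat.even_iff] at h
  omega

theorem order_dvd {w : List Nat} {p : ℕ} (hp : p.Prime) (hs : isScal (List.replicate p w).flatten = true)
    (hn : notCen w = true) : p ∣ Nat.card (chi hK).range := by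
  haveI : Fact p.Prime := ⟨hp⟩
  have h1 : valOf (genP hK) w ^ p = 1 := by
    rw [← valOf_pow, valP_one_iff]
    exact scal_center hK hs
  have h2 : valOf (genP hK) w ≠ 1 := fun e => notCen_center hK hn ((valP_one_iff hK w).1 e)
  have h3 : orderOf (valOf (genP hK) w) = p := orderOf_eq_prime h1 h2
  have hmem : valOf (genP hK) w ∈ (chi hK).range := ⟨pVal w, chi_pVal hK w⟩
  rw [← h3]
  exact Subgroup.orderOf_dvd_natCard _ hmem

theorem regroup {A : Type*} [Group A] (h : ∀ x y : A, x * y = y * x) (a b c d a' b' c' d' : A) :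
    a * a'⁻¹ * (b * b'⁻¹) * (c * c'⁻¹) * (d * d'⁻¹) = a * b * c * d * (a' * b' * c' * d')⁻¹ := by
  haveI : Std.Commutative (α := A) (· * ·) := ⟨h⟩
  rw [_root_.mul_inv_rev, _root_.mul_inv_rev, _root_.mul_inv_rev]
  ac_rfl

theorem eighty_one_dvd : 81 ∣ Nat.card (chi hK).range := by
  haveI : Finite (Cfsg.PSU 4 K 3) := Nat.finite_of_card_ne_zero (by rw [card_PSU hK]; norm_num)
  let L : Set (Cfsg.PSU 4 K 3) := {x | ∃ u ∈ fourThree, valOf (genP hK) u = x}
  have hcomm : ∀ u ∈ fourThree, ∀ v ∈ fourThree, Commute (valOf (genP hK) u) (valOf (genP hK) v) := by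
    intro u hu v hv
    have h := List.all_eq_true.1 four_table.1 u hu
    simp only [Bool.and_eq_true, List.all_eq_true] at h
    have e : valOf (genP hK) (u ++ v ++ invW u ++ invW v) = 1 := (valP_one_iff hK _).2 (scal_center hK (h.2 v hv))
    rw [valOf_append, valOf_append, valOf_append, valOf_inv, valOf_inv, mul_inv_eq_one, mul_inv_eq_iff_eq_mul] at e
    exact e
  have hcube : ∀ u ∈ fourThree, valOf (genP hK) u ^ 3 = 1 := by
    intro u hu
    have h := List.all_eq_true.1 four_table.1 u hu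
    simp only [Bool.and_eq_true] at h
    have e : valOf (genP hK) (u ++ u ++ u) = 1 := (valP_one_iff hK _).2 (scal_center hK h.1)
    rw [valOf_append, valOf_append] at e
    rw [pow_succ, pow_two]
    exact e
  haveI : IsMulCommutative (Subgroup.closure L) := Subgroup.isMulCommutative_closure (by
    rintro _ ⟨u, hu, rfl⟩ _ ⟨v, hv, rfl⟩
    exact hcomm u hu v hv)
  have hp : IsPGroup 3 (Subgroup.closure L) := by
    have key : ∀ x ∈ Subgroup.closure L, x ^ 3 = 1 := by
      intro x hx
      induction hx using Subgroup.closure_induction with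
      | mem y hy => obtain ⟨u, hu, rfl⟩ := hy; exact hcube u hu
      | one => exact one_pow 3
      | mul a b ha hb iha ihb =>
        have hab : Commute a b := by
          have h : (⟨a, ha⟩ : Subgroup.closure L) * ⟨b, hb⟩ = ⟨b, hb⟩ * ⟨a, ha⟩ :=
            IsMulCommutative.is_comm.comm _ _
          exact congrArg Subtype.val h
        rw [hab.mul_pow, iha, ihb, one_mul]
      | inv a _ iha => rw [inv_pow, iha, inv_one]
    exact fun x => ⟨1, Subtype.ext (by show (x : Cfsg.PSU 4 K 3) ^ (3 ^ 1) = 1; rw [pow_one]; exact key x x.2)⟩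
  have hmemL : ∀ u ∈ fourThree, valOf (genP hK) u ∈ Subgroup.closure L :=
    fun u hu => Subgroup.subset_closure ⟨u, hu, rfl⟩
  have hf : ∀ a b c d, valOf (genP hK) (fourWord a b c d) = valOf (genP hK) sideX1 ^ a * valOf (genP hK) abW ^ b *
      valOf (genP hK) (conjW rpW abW) ^ c * valOf (genP hK) (conjW (rpW ++ rpW) abW) ^ d := by
    intro a b c d
    rw [fourWord, valOf_append, valOf_append, valOf_append, valOf_pow, valOf_pow, valOf_pow, valOf_pow]
  obtain ⟨p, hp1⟩ : ∃ p, p = valOf (genP hK) sideX1 := ⟨_, rfl⟩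
  obtain ⟨q, hq1⟩ : ∃ q, q = valOf (genP hK) abW := ⟨_, rfl⟩
  obtain ⟨r, hr1⟩ : ∃ r, r = valOf (genP hK) (conjW rpW abW) := ⟨_, rfl⟩
  obtain ⟨s, hs1⟩ : ∃ s, s = valOf (genP hK) (conjW (rpW ++ rpW) abW) := ⟨_, rfl⟩
  rw [← hp1, ← hq1, ← hr1, ← hs1] at hf
  have mp : p ∈ Subgroup.closure L := hp1 ▸ hmemL _ (by simp [fourThree])
  have mq : q ∈ Subgroup.closure L := hq1 ▸ hmemL _ (by simp [fourThree])
  have mr : r ∈ Subgroup.closure L := hr1 ▸ hmemL _ (by simp [fourThree])
  have ms : s ∈ Subgroup.closure L := hs1 ▸ hmemL _ (by simp [fourThree])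
  let P : Subgroup.closure L := ⟨p, mp⟩
  let Q : Subgroup.closure L := ⟨q, mq⟩
  let R : Subgroup.closure L := ⟨r, mr⟩
  let S : Subgroup.closure L := ⟨s, ms⟩
  let f : Fin 81 → Subgroup.closure L := fun n =>
    P ^ (n.val % 3) * Q ^ (n.val / 3 % 3) * R ^ (n.val / 9 % 3) * S ^ (n.val / 27)
  have c3 : ∀ X : Subgroup.closure L, X ^ 3 = 1 := by
    intro X
    obtain ⟨k, hk⟩ := hp X
    have key : ∀ x ∈ Subgroup.closure L, x ^ 3 = 1 := by
      intro x hx
      induction hx using Subgroup.closure_induction with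
      | mem y hy => obtain ⟨u, hu, rfl⟩ := hy; exact hcube u hu
      | one => exact one_pow 3
      | mul a b ha hb iha ihb =>
        have hab : Commute a b := congrArg Subtype.val
          (IsMulCommutative.is_comm.comm (⟨a, ha⟩ : Subgroup.closure L) ⟨b, hb⟩)
        rw [hab.mul_pow, iha, ihb, one_mul]
      | inv a _ iha => rw [inv_pow, iha, inv_one]
    exact Subtype.ext (key X X.2)
  have zero : ∀ a b c d : ℕ, a < 3 → b < 3 → c < 3 → d < 3 → P ^ a * Q ^ b * R ^ c * S ^ d = 1 →
      a = 0 ∧ b = 0 ∧ c = 0 ∧ d = 0 := by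
    intro a b c d ha hb hc hd e
    by_contra hne
    obtain ⟨n, hn⟩ : ∃ n, n = a + 3 * b + 9 * c + 27 * d := ⟨_, rfl⟩
    have hn81 : n < 81 := by omega
    have h := List.all_eq_true.1 four_table.2 n (List.mem_range.2 hn81)
    simp only [beq_eq_false_iff_ne.2 (show n ≠ 0 by omega), Bool.false_or] at h
    rw [show n % 3 = a by omega, show n / 3 % 3 = b by omega, show n / 9 % 3 = c by omega, show n / 27 = d by omega] at h
    refine notCen_center hK h ((valP_one_iff hK _).1 ?_)
    rw [hf]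
    exact congrArg Subtype.val e
  have hinj : Function.Injective f := by
    intro n m e
    have hcm : ∀ X Y : Subgroup.closure L, X * Y = Y * X := fun X Y => IsMulCommutative.is_comm.comm X Y
    have key : ∀ (X : Subgroup.closure L) (i j : ℕ), X ^ ((i + 2 * j) % 3) = X ^ i * (X ^ j)⁻¹ := by
      intro X i j
      rw [← pow_eq_pow_mod (i + 2 * j) (c3 X), pow_add]
      congr 1
      rw [eq_inv_iff_mul_eq_one, ← pow_add, show 2 * j + j = 3 * j by ring, pow_mul, c3, one_pow]
    have h0 := zero ((n.val % 3 + 2 * (m.val % 3)) % 3) ((n.val / 3 % 3 + 2 * (m.val / 3 % 3)) % 3)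
      ((n.val / 9 % 3 + 2 * (m.val / 9 % 3)) % 3) ((n.val / 27 + 2 * (m.val / 27)) % 3)
      (Nat.mod_lt _ (by norm_num)) (Nat.mod_lt _ (by norm_num)) (Nat.mod_lt _ (by norm_num)) (Nat.mod_lt _ (by norm_num))
      (by
        rw [key, key, key, key]
        have e' : f n * (f m)⁻¹ = 1 := by rw [e, mul_inv_cancel]
        rw [← e']
        exact regroup hcm _ _ _ _ _ _ _ _)
    refine Fin.ext ?_
    obtain ⟨g0, g1, g2, g3⟩ := h0
    have := n.2
    have := m.2
    have aux : ∀ x y : ℕ, x < 3 → y < 3 → (x + 2 * y) % 3 = 0 → x = y := by omega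
    have a0 := aux _ _ (Nat.mod_lt _ (by norm_num)) (Nat.mod_lt _ (by norm_num)) g0
    have a1 := aux _ _ (Nat.mod_lt _ (by norm_num)) (Nat.mod_lt _ (by norm_num)) g1
    have a2 := aux _ _ (Nat.mod_lt _ (by norm_num)) (Nat.mod_lt _ (by norm_num)) g2
    have a3 := aux _ _ (by omega) (by omega) g3
    omega
  obtain ⟨k, hk⟩ := IsPGroup.iff_card.1 hp
  have hge : 81 ≤ 3 ^ k := by
    rw [← hk]
    simpa using Nat.card_le_card_of_injective f hinj
  have hk4 : 4 ≤ k := by
    by_contra h
    have : 3 ^ k ≤ 3 ^ 3 := Nat.pow_le_pow_right (by norm_num) (by omega)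
    omega
  have hle : Subgroup.closure L ≤ (chi hK).range := by
    rw [Subgroup.closure_le]
    rintro _ ⟨u, -, rfl⟩
    exact ⟨pVal u, chi_pVal hK u⟩
  exact (show (81 : ℕ) ∣ 3 ^ k from pow_dvd_pow 3 hk4).trans (hk ▸ Subgroup.card_dvd_of_le hle)

variable {G : Type*} [Group G] [Finite G] {z : G}

/-- The Sylow two-subgroup in the centraliser. -/
def Std.TG (S : Std z) : Subgroup G where
  carrier := {x | ∃ i ∈ tList, S.φ i = x}
  one_mem' := ⟨oI, List.mem_filter.2 ⟨List.mem_range.2 oI_lt, t_table.2.1⟩, S.φ_one⟩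
  mul_mem' := by
    rintro _ _ ⟨i, hi, rfl⟩ ⟨j, hj, rfl⟩
    have h := List.all_eq_true.1 (List.all_eq_true.1 t_table.2.2.2.1 i hi) j hj
    have li := List.mem_range.1 (List.mem_filter.1 hi).1
    have lj := List.mem_range.1 (List.mem_filter.1 hj).1
    exact ⟨hh i j, List.mem_filter.2 ⟨List.mem_range.2 (S.φ_mul i li j lj).1, h⟩, (S.φ_mul i li j lj).2⟩
  inv_mem' := by
    rintro _ ⟨i, hi, rfl⟩
    have li := List.mem_range.1 (List.mem_filter.1 hi).1
    obtain ⟨n, hn0, hn⟩ : ∃ n, 0 < n ∧ S.φ i ^ n = 1 := ⟨_, orderOf_pos _, pow_orderOf_eq_one _⟩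
    have key : ∀ m, ∃ j ∈ tList, S.φ j = S.φ i ^ m := by
      intro m
      induction m with
      | zero => exact ⟨oI, List.mem_filter.2 ⟨List.mem_range.2 oI_lt, t_table.2.1⟩, by rw [S.φ_one, pow_zero]⟩
      | succ m ih =>
        obtain ⟨j, hj, e⟩ := ih
        have lj := List.mem_range.1 (List.mem_filter.1 hj).1
        exact ⟨hh j i, List.mem_filter.2 ⟨List.mem_range.2 (S.φ_mul j lj i li).1,
          List.all_eq_true.1 (List.all_eq_true.1 t_table.2.2.2.1 j hj) i hi⟩,
          by rw [(S.φ_mul j lj i li).2, e, pow_succ]⟩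
    obtain ⟨j, hj, e⟩ := key (n - 1)
    refine ⟨j, hj, ?_⟩
    rw [e, eq_inv_iff_mul_eq_one, ← pow_succ, Nat.sub_add_cancel hn0, hn]

theorem Std.card_TG (S : Std z) : Nat.card S.TG = 128 := by
  classical
  have e : (S.TG : Set G) = ((tList.toFinset.image S.φ : Finset G) : Set G) := by
    ext g
    simp [Std.TG]
  have hn : tList.Nodup := List.nodup_range.filter _
  rw [← SetLike.coe_sort_coe, e, Nat.card_coe_set_eq, Set.ncard_coe_finset,
    Finset.card_image_of_injOn, List.toFinset_card_of_nodup hn, t_table.1]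
  intro a ha b hb h
  exact S.φ_inj a (List.mem_range.1 (List.mem_filter.1 (List.mem_toFinset.1 ha)).1)
    b (List.mem_range.1 (List.mem_filter.1 (List.mem_toFinset.1 hb)).1) h

theorem Std.TG_le (S : Std z) : S.TG ≤ Subgroup.centralizer ({z} : Set G) := by
  rintro _ ⟨i, hi, rfl⟩
  exact Subgroup.mem_centralizer_singleton_iff.2 (S.φ_cen i (List.mem_range.1 (List.mem_filter.1 hi).1))

theorem Std.TG_center (S : Std z) {x : G} (hx : x ∈ S.TG) (hc : ∀ y ∈ S.TG, x * y = y * x) : x = 1 ∨ x = z := by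
  obtain ⟨i, hi, rfl⟩ := hx
  have li := List.mem_range.1 (List.mem_filter.1 hi).1
  have h := List.all_eq_true.1 t_table.2.2.2.2 i hi
  have hall : (tList.all fun j => hh i j == hh j i) = true := List.all_eq_true.2 fun j hj => by
    have lj := List.mem_range.1 (List.mem_filter.1 hj).1
    exact beq_iff_eq.2 (S.φ_inj _ (S.φ_mul i li j lj).1 _ (S.φ_mul j lj i li).1 (by
      rw [(S.φ_mul i li j lj).2, (S.φ_mul j lj i li).2, hc _ ⟨j, hj, rfl⟩]))
  simp only [hall, Bool.not_true, Bool.false_or, Bool.or_eq_true, beq_iff_eq] at h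
  rcases h with rfl | rfl
  · exact Or.inl S.φ_one
  · exact Or.inr S.φ_z

/-- A normal nontrivial subgroup of a two-group meets the centre. -/
theorem exists_central {T : Type*} [Group T] [Finite T] (hT : IsPGroup 2 T) (N : Subgroup T) [N.Normal]
    (hN : N ≠ ⊥) : ∃ x ∈ N, x ≠ 1 ∧ ∀ y : T, x * y = y * x := by
  haveI : Fact (Nat.Prime 2) := ⟨Nat.prime_two⟩
  have hA : IsPGroup 2 (ConjAct T) := hT
  haveI : Finite (ConjAct T) := ‹Finite T›
  have h := hA.card_modEq_card_fixedPoints N
  obtain ⟨k, hk⟩ := IsPGroup.iff_card.1 (hT.to_subgroup N)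
  have hk0 : k ≠ 0 := fun e => hN (Subgroup.card_eq_one.1 (by rw [hk, e, pow_zero]))
  obtain ⟨⟨x, hxfix⟩, hx1⟩ : ∃ x : MulAction.fixedPoints (ConjAct T) N, (x : N) ≠ 1 := by
    by_contra hc
    push Not at hc
    haveI : Subsingleton (MulAction.fixedPoints (ConjAct T) N) :=
      ⟨fun a b => Subtype.ext ((hc a).trans (hc b).symm)⟩
    haveI : Nonempty (MulAction.fixedPoints (ConjAct T) N) :=
      ⟨⟨1, fun g => Subtype.ext (by simp [ConjAct.Subgroup.val_conj_smul])⟩⟩
    rw [Nat.card_unique (α := MulAction.fixedPoints (ConjAct T) N), hk, Nat.ModEq, Nat.pow_mod] at h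
    simp [zero_pow hk0] at h
  refine ⟨x, x.2, fun e => hx1 (Subtype.ext e), fun y => ?_⟩
  have e := congrArg Subtype.val (hxfix (ConjAct.toConjAct y))
  rw [ConjAct.Subgroup.val_conj_smul, ConjAct.smul_def, ConjAct.ofConjAct_toConjAct] at e
  calc (x : T) * y = y * x * y⁻¹ * y := by rw [e]
    _ = _ := by group

theorem two_part_dvd (S : Std z) : 128 ∣ Nat.card (chi hK).range := by
  let KT : Subgroup PGrp := KP ⊓ S.TG.comap S.psi
  let ρ : KT →* G := S.psi.comp KT.subtype
  let ω : KT →* Cfsg.PSU 4 K 3 := (chi hK).comp KT.subtype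
  have hρ : Function.Injective ρ := by
    rw [← MonoidHom.ker_eq_bot_iff, eq_bot_iff]
    intro u hu
    exact Subgroup.mem_bot.2 (Subtype.ext (S.psi_inj_KP u.2.1 (MonoidHom.mem_ker.1 hu)))
  have hsurj : ∀ x ∈ S.TG, ∃ u : KT, ρ u = x := by
    intro x hx
    have hxc := S.TG_le hx
    rw [← S.psi_KP] at hxc
    obtain ⟨u, hu, e⟩ := hxc
    exact ⟨⟨u, hu, by show S.psi u ∈ S.TG; rw [e]; exact hx⟩, e⟩
  have hcard : Nat.card KT = 128 := by
    rw [← S.card_TG]
    refine Nat.card_congr (Equiv.ofBijective (fun u => (⟨ρ u, u.2.2⟩ : S.TG)) ⟨fun a b e => hρ (congrArg Subtype.val e), ?_⟩)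
    rintro ⟨x, hx⟩
    obtain ⟨u, hu⟩ := hsurj x hx
    exact ⟨u, Subtype.ext hu⟩
  haveI : Finite KT := Nat.finite_of_card_ne_zero (by rw [hcard]; norm_num)
  have hω : Function.Injective ω := by
    rw [← MonoidHom.ker_eq_bot_iff]
    by_contra hne
    haveI : ω.ker.Normal := inferInstance
    obtain ⟨x, hx, hx1, hxc⟩ := exists_central (IsPGroup.of_card (n := 7) (by rw [hcard]; rfl)) ω.ker hne
    have hxz : ρ x = z := by
      refine (S.TG_center x.2.2 fun y hy => ?_).resolve_left fun e => hx1 (hρ (e.trans (map_one ρ).symm))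
      obtain ⟨u, hu⟩ := hsurj y hy
      rw [← hu]
      show ρ x * ρ u = ρ u * ρ x
      rw [← map_mul, ← map_mul, hxc]
    have hzw : hWord [2, 2] = true ∧ hv [2, 2] = zI := by decide +kernel
    have hzval : S.val [2, 2] = z := by rw [(S.val_H hzw.1).2, hzw.2, S.φ_z]
    have hxw : (x : PGrp) = pVal [2, 2] := by
      refine mul_inv_eq_one.1 (S.psi_inj_KP (KP.mul_mem x.2.1 (KP.inv_mem (pVal_mem_KP hzw.1))) ?_)
      rw [map_mul, map_inv, S.psi_pVal, hzval, show S.psi (x : PGrp) = z from hxz, mul_inv_cancel]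
    have hn : notCen [2, 2] = true := by
      have := word_table
      simp only [Bool.and_eq_true] at this
      exact this.2
    refine notCen_center hK hn ((valP_one_iff hK _).1 ?_)
    rw [← chi_pVal, ← hxw]
    exact MonoidHom.mem_ker.1 hx
  have hle : ω.range ≤ (chi hK).range := by
    rintro _ ⟨u, rfl⟩
    exact ⟨u, rfl⟩
  have hc : Nat.card ω.range = 128 := by
    rw [← hcard]
    exact (Nat.card_congr (MonoidHom.ofInjective hω).toEquiv).symm
  exact hc ▸ Subgroup.card_dvd_of_le hle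

theorem chi_bijective (S : Std z) : Function.Bijective (chi hK) := by
  classical
  haveI : Finite PGrp := PGrp_bound.1
  haveI : Finite (Cfsg.PSU 4 K 3) := Nat.finite_of_card_ne_zero (by rw [card_PSU hK]; norm_num)
  haveI hsimp : IsSimpleGroup (Cfsg.PSU 4 K 3) :=
    Cfsg.Agent.S0283.result (q := 3) (by rw [hK]; norm_num) 4 (by norm_num) (by norm_num)
  have hw := word_table
  simp only [Bool.and_eq_true] at hw
  have d5 := order_dvd hK (p := 5) (by norm_num) hw.1.1.2 hw.1.2
  have d7 := order_dvd hK (p := 7) (by norm_num) hw.1.1.1.1 hw.1.1.1.2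
  have d81 := eighty_one_dvd hK
  have d128 := two_part_dvd hK S
  have hN := (chi hK).range.card_mul_index
  rw [card_PSU hK] at hN
  have h1 : Nat.Coprime 128 81 := by norm_num
  have h2 : Nat.Coprime (128 * 81) 5 := by norm_num
  have h3 : Nat.Coprime (128 * 81 * 5) 7 := by norm_num
  obtain ⟨m, hm⟩ := h3.mul_dvd_of_dvd_of_dvd (h2.mul_dvd_of_dvd_of_dvd (h1.mul_dvd_of_dvd_of_dvd d128 d81) d5) d7
  rw [hm] at hN
  have hidx : (chi hK).range.index ≤ 9 := by
    have h9 : m * (chi hK).range.index = 9 := by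
      have : 128 * 81 * 5 * 7 * (m * (chi hK).range.index) = 128 * 81 * 5 * 7 * 9 := by
        rw [← mul_assoc, hN]
      omega
    exact Nat.le_of_dvd (by norm_num) ⟨m, by rw [mul_comm]; exact h9.symm⟩
  have htop : (chi hK).range = ⊤ := by
    by_contra hne
    haveI : Fintype (Cfsg.PSU 4 K 3 ⧸ (chi hK).range) := Fintype.ofFinite _
    let a := MulAction.toPermHom (Cfsg.PSU 4 K 3) (Cfsg.PSU 4 K 3 ⧸ (chi hK).range)
    have hker : a.ker = ⊥ := by
      rcases hsimp.eq_bot_or_eq_top_of_normal a.ker inferInstance with h | h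
      · exact h
      · exfalso
        refine hne (eq_top_iff.2 fun g _ => ?_)
        have hg : g ∈ a.ker := h ▸ Subgroup.mem_top g
        have e : a g ((1 : Cfsg.PSU 4 K 3) : Cfsg.PSU 4 K 3 ⧸ (chi hK).range) = ((1 : Cfsg.PSU 4 K 3) : _) := by
          rw [MonoidHom.mem_ker.1 hg]; rfl
        have e' : ((g * 1 : Cfsg.PSU 4 K 3) : Cfsg.PSU 4 K 3 ⧸ (chi hK).range) = ((1 : Cfsg.PSU 4 K 3) : _) := e
        rw [mul_one, QuotientGroup.eq, mul_one] at e'
        simpa using e'
    have h := Subgroup.card_dvd_of_injective a ((MonoidHom.ker_eq_bot_iff a).1 hker)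
    rw [card_PSU hK, Nat.card_perm] at h
    have hi : Nat.card (Cfsg.PSU 4 K 3 ⧸ (chi hK).range) = (chi hK).range.index := rfl
    rw [hi] at h
    have h9 : Nat.factorial (chi hK).range.index ≤ Nat.factorial 9 := Nat.factorial_le hidx
    have h' := Nat.le_of_dvd (Nat.factorial_pos _) h
    have : Nat.factorial 9 = 362880 := by decide
    omega
  have hsurj : Function.Surjective (chi hK) := MonoidHom.range_eq_top.1 htop
  exact hsurj.bijective_of_nat_card_le (by rw [card_PSU hK]; exact PGrp_bound.2)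

/-- The presented group is the projective unitary group. -/
noncomputable def chiEquiv (S : Std z) : PGrp ≃* Cfsg.PSU 4 K 3 :=
  MulEquiv.ofBijective (chi hK) (chi_bijective hK S)

end Cfsg.Agent.U43Type
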