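import Cfsg.Agent.U43Type.SLFacts
import Cfsg.Agent.Layer.FStar
import Cfsg.Prelude.Def_Solvable
import Cfsg.Prelude.Def_Local

/-!
Two commuting copies of `SL(2,3)` amalgamated over `⟨z⟩` inside a centraliser.
-/

set_option autoImplicit false
set_option linter.all false

namespace Cfsg.Agent.U43Type

open Subgroup

variable {G : Type*} [Group G]

/-- Coordinates for the product of two copies of `SL(2,3)`. -/
structure Coords (z : G) where
  f1 : Nat → G
  f2 : Nat → G
  mul1 : ∀ a < 24, ∀ b < 24, f1 (sm a b) = f1 a * f1 b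
  mul2 : ∀ a < 24, ∀ b < 24, f2 (sm a b) = f2 a * f2 b
  inj1 : ∀ a < 24, ∀ b < 24, f1 a = f1 b → a = b
  inj2 : ∀ a < 24, ∀ b < 24, f2 a = f2 b → a = b
  zz1 : f1 sZ = z
  zz2 : f2 sZ = z
  com : ∀ a < 24, ∀ b < 24, f1 a * f2 b = f2 b * f1 a
  meet : ∀ a < 24, ∀ b < 24, f1 a = f2 b → a = sO ∨ a = sZ

namespace Coords

variable {z : G} (C : Coords z)

theorem one1 : C.f1 sO = 1 := by
  have h := C.mul1 sO (by decide) sO (by decide)
  rw [show sm sO sO = sO by decide +kernel] at h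
  exact mul_eq_left.1 h.symm

theorem one2 : C.f2 sO = 1 := by
  have h := C.mul2 sO (by decide) sO (by decide)
  rw [show sm sO sO = sO by decide +kernel] at h
  exact mul_eq_left.1 h.symm

theorem inv1 {a : Nat} (ha : a < 24) : (C.f1 a)⁻¹ = C.f1 (sinv a) := by
  obtain ⟨h1, h2, -⟩ := sinv_mul a ha
  exact inv_eq_of_mul_eq_one_right (by rw [← C.mul1 a ha _ h1, h2, C.one1])

theorem inv2 {a : Nat} (ha : a < 24) : (C.f2 a)⁻¹ = C.f2 (sinv a) := by
  obtain ⟨h1, h2, -⟩ := sinv_mul a ha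
  exact inv_eq_of_mul_eq_one_right (by rw [← C.mul2 a ha _ h1, h2, C.one2])

theorem lt_sm {a b : Nat} (ha : a < 24) (hb : b < 24) : sm a b < 24 := (slMat_mul a ha b hb).2

theorem z_comm1 {a : Nat} (ha : a < 24) : C.f1 a * z = z * C.f1 a := by
  have h : C.f1 a * C.f1 sZ = C.f1 sZ * C.f1 a :=
    ((C.mul1 a ha sZ (by decide)).symm.trans (congrArg C.f1 (sZ_central a ha).1)).trans
      (C.mul1 sZ (by decide) a ha)
  simpa only [C.zz1] using h

theorem z_comm2 {a : Nat} (ha : a < 24) : C.f2 a * z = z * C.f2 a := by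
  have h : C.f2 a * C.f2 sZ = C.f2 sZ * C.f2 a :=
    ((C.mul2 a ha sZ (by decide)).symm.trans (congrArg C.f2 (sZ_central a ha).1)).trans
      (C.mul2 sZ (by decide) a ha)
  simpa only [C.zz2] using h

theorem pair_mul {a b c e : Nat} (ha : a < 24) (hb : b < 24) (hc : c < 24) (he : e < 24) :
    C.f1 a * C.f2 b * (C.f1 c * C.f2 e) = C.f1 (sm a c) * C.f2 (sm b e) := by
  rw [C.mul1 a ha c hc, C.mul2 b hb e he]
  calc C.f1 a * C.f2 b * (C.f1 c * C.f2 e) = C.f1 a * (C.f2 b * C.f1 c) * C.f2 e := by group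
    _ = _ := by rw [← C.com c hc b hb]; group

theorem neg_mul_neg {a b : Nat} (ha : a < 24) (hb : b < 24) :
    C.f1 (sm a sZ) * C.f2 (sm b sZ) = C.f1 a * C.f2 b := by
  rw [C.mul1 a ha sZ (by decide), C.mul2 b hb sZ (by decide), C.zz1, C.zz2]
  have hz2 : z * z = 1 := by
    have h := C.mul1 sZ (by decide) sZ (by decide)
    rw [show sm sZ sZ = sO by decide +kernel, C.one1] at h
    simpa only [C.zz1] using h.symm
  calc C.f1 a * z * (C.f2 b * z) = C.f1 a * (z * C.f2 b) * z := by group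
    _ = C.f1 a * C.f2 b * (z * z) := by rw [← C.z_comm2 hb]; group
    _ = _ := by rw [hz2, mul_one]

theorem pair_inj {a b c e : Nat} (ha : a < 24) (hb : b < 24) (hc : c < 24) (he : e < 24)
    (h : C.f1 a * C.f2 b = C.f1 c * C.f2 e) : (a = c ∧ b = e) ∨ (a = sm c sZ ∧ b = sm e sZ) := by
  have hzlt : sZ < 24 := by decide
  have h1 : C.f1 (sm (sinv c) a) = C.f2 (sm e (sinv b)) := by
    rw [C.mul1 _ (sinv_mul c hc).1 a ha, C.mul2 e he _ (sinv_mul b hb).1, ← C.inv1 hc, ← C.inv2 hb]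
    calc (C.f1 c)⁻¹ * C.f1 a = (C.f1 c)⁻¹ * (C.f1 a * C.f2 b) * (C.f2 b)⁻¹ := by group
      _ = _ := by rw [h]; group
  have key : ∀ v, v < 24 → sm (sinv c) a = v → a = sm c v := by
    intro v hv e1
    rw [← e1]
    exact C.inj1 a ha _ (lt_sm hc (lt_sm (sinv_mul c hc).1 ha)) (by
      rw [C.mul1 c hc _ (lt_sm (sinv_mul c hc).1 ha), C.mul1 _ (sinv_mul c hc).1 a ha, ← C.inv1 hc]; group)
  rcases C.meet _ (lt_sm (sinv_mul c hc).1 ha) _ (lt_sm he (sinv_mul b hb).1) h1 with e1 | e1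
  · have hac : a = c := by rw [key sO (by decide) e1]; exact (sZ_central c hc).2.2.2.1
    subst hac
    exact Or.inl ⟨rfl, C.inj2 b hb e he (mul_left_cancel h)⟩
  · have hac := key sZ hzlt e1
    refine Or.inr ⟨hac, C.inj2 b hb _ (lt_sm he hzlt) ?_⟩
    rw [hac, ← C.neg_mul_neg hc he] at h
    exact mul_left_cancel h

/-- The elements of the quaternion product. -/
def inQ (x : G) : Prop := ∃ a < 24, ∃ b < 24, inQ8 a = true ∧ inQ8 b = true ∧ x = C.f1 a * C.f2 b

/-- The elements of the product. -/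
def inK (x : G) : Prop := ∃ a < 24, ∃ b < 24, x = C.f1 a * C.f2 b

/-- An element normalising both factors. -/
def Keeps (x : G) : Prop :=
  (∀ a < 24, ∃ a' < 24, x * C.f1 a * x⁻¹ = C.f1 a') ∧ ∀ a < 24, ∃ a' < 24, x * C.f2 a * x⁻¹ = C.f2 a'

/-- An element interchanging the factors. -/
def Swaps (x : G) : Prop :=
  (∀ a < 24, ∃ a' < 24, x * C.f1 a * x⁻¹ = C.f2 a') ∧ ∀ a < 24, ∃ a' < 24, x * C.f2 a * x⁻¹ = C.f1 a'

/-- The action of an element normalising a factor is inner up to the outer automorphism. -/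
theorem act_class {f : Nat → G} (hmul : ∀ a < 24, ∀ b < 24, f (sm a b) = f a * f b)
    (hinj : ∀ a < 24, ∀ b < 24, f a = f b → a = b) {x : G} (hx : ∀ a < 24, ∃ a' < 24, x * f a * x⁻¹ = f a')
    (hxz : x * f sZ * x⁻¹ = f sZ) :
    ∃ g < 24, ∃ e : Bool, ∀ a < 24, x * f a * x⁻¹ = f (sact g e a) := by
  have h1 : f sO = 1 := by
    have h := hmul sO (by decide) sO (by decide)
    rw [show sm sO sO = sO by decide +kernel] at h
    exact mul_eq_left.1 h.symm
  have hA : sA < 24 := by decide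
  have hI : sI < 24 := by decide
  obtain ⟨u, hu, eu⟩ := hx sA hA
  obtain ⟨v, hv, ev⟩ := hx sI hI
  have hm : ∀ p q p' q', p < 24 → q < 24 → p' < 24 → q' < 24 → x * f p * x⁻¹ = f p' → x * f q * x⁻¹ = f q' →
      x * f (sm p q) * x⁻¹ = f (sm p' q') := by
    intro p q p' q' hp hq hp' hq' e1 e2
    rw [hmul p hp q hq, hmul p' hp' q' hq', ← e1, ← e2]; group
  have hlt := @lt_sm
  have c3 : sm (sm u u) u = sO := hinj _ (hlt (hlt hu hu) hu) _ (by decide) (by
    rw [← hm _ _ _ _ (hlt hA hA) hA (hlt hu hu) hu (hm _ _ _ _ hA hA hu hu eu eu) eu,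
      show sm (sm sA sA) sA = sO by decide +kernel, h1]; group)
  have c2 : sm v v = sZ := hinj _ (hlt hv hv) _ (by decide) (by
    rw [← hm _ _ _ _ hI hI hv hv ev ev, show sm sI sI = sZ by decide +kernel, hxz])
  have c1 : u ≠ sO := fun e => by
    rw [e, h1, mul_inv_eq_one, mul_eq_left] at eu
    exact absurd (hinj sA hA sO (by decide) (eu.trans h1.symm)) (by decide)
  have euv := hm _ _ _ _ hA hI hu hv eu ev
  have c4 : sm (sm (sm u v) (sm u v)) (sm u v) = sO :=
    hinj _ (hlt (hlt (hlt hu hv) (hlt hu hv)) (hlt hu hv)) _ (by decide) (by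
      rw [← hm _ _ _ _ (hlt (hlt hA hI) (hlt hA hI)) (hlt hA hI) (hlt (hlt hu hv) (hlt hu hv)) (hlt hu hv)
          (hm _ _ _ _ (hlt hA hI) (hlt hA hI) (hlt hu hv) (hlt hu hv) euv euv) euv,
        show sm (sm (sm sA sI) (sm sA sI)) (sm sA sI) = sO by decide +kernel, h1]; group)
  obtain ⟨g, hg, e, hgA, hgI⟩ := aut_class hu hv c1 c3 c2 c4
  refine ⟨g, hg, e, ?_⟩
  have gl := sinv_mul g hg
  have elt : ∀ b : Nat, b < 24 → (bif e then st b else b) < 24 := fun b hb => by
    cases e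
    · exact hb
    · exact (st_hom b hb b hb).2.1
  have slt : ∀ b : Nat, b < 24 → sact g e b < 24 := fun b hb => hlt (hlt hg (elt b hb)) gl.1
  have sac : ∀ p q : Nat, p < 24 → q < 24 → f (sact g e (sm p q)) = f (sact g e p) * f (sact g e q) := by
    intro p q hp hq
    have he : f (bif e then st (sm p q) else sm p q) = f (bif e then st p else p) * f (bif e then st q else q) := by
      cases e
      · exact hmul p hp q hq
      · simp only [cond_true]
        rw [(st_hom p hp q hq).1]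
        exact hmul _ (st_hom p hp q hq).2.1 _ (st_hom q hq q hq).2.1
    have hinv : f (sinv g) = (f g)⁻¹ := eq_inv_of_mul_eq_one_right (by rw [← hmul g hg _ gl.1, gl.2.1, h1])
    simp only [sact]
    rw [hmul _ (hlt hg (elt _ (hlt hp hq))) _ gl.1, hmul g hg _ (elt _ (hlt hp hq)),
      hmul _ (hlt hg (elt _ hp)) _ gl.1, hmul g hg _ (elt _ hp),
      hmul _ (hlt hg (elt _ hq)) _ gl.1, hmul g hg _ (elt _ hq), he, hinv]
    group
  have step : ∀ (l : List (Fin 3)) (p : Nat), p < 24 → x * f p * x⁻¹ = f (sact g e p) →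
      let r := List.foldl (fun y b => if b = (0 : Fin 3) then y else if b = 1 then sm y sA else sm y sI) p l
      r < 24 ∧ x * f r * x⁻¹ = f (sact g e r) := by
    intro l
    induction l with
    | nil => intro p hp h; exact ⟨hp, h⟩
    | cons b t ih =>
      intro p hp h
      simp only [List.foldl_cons]
      have hk : ∀ c cc, c < 24 → cc < 24 → x * f c * x⁻¹ = f cc → sact g e c = cc →
          x * f (sm p c) * x⁻¹ = f (sact g e (sm p c)) := by
        intro c cc hc hcc ec es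
        rw [sac p c hp hc, hmul p hp c hc, es, ← h, ← ec]; group
      split_ifs with hb0 hb1
      · exact ih p hp h
      · exact ih _ (hlt hp hA) (hk sA u hA hu eu hgA)
      · exact ih _ (hlt hp hI) (hk sI v hI hv ev hgI)
  intro a ha
  obtain ⟨l, rfl⟩ := gen_words a ha
  refine (step _ sO (by decide) ?_).2
  have hO : sact g e sO = sO := by
    have h0 : (bif e then st sO else sO) = sO := by cases e <;> decide +kernel
    rw [sact, h0, (sZ_central g hg).2.2.2.1, gl.2.1]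
  rw [hO, h1]; group

theorem keeps_class {x : G} (h : C.Keeps x) (hxz : x * z = z * x) :
    ∃ g1 < 24, ∃ g2 < 24, ∃ e1 e2 : Bool,
      (∀ a < 24, x * C.f1 a * x⁻¹ = C.f1 (sact g1 e1 a)) ∧ ∀ a < 24, x * C.f2 a * x⁻¹ = C.f2 (sact g2 e2 a) := by
  obtain ⟨g1, h1, e1, k1⟩ := act_class C.mul1 C.inj1 h.1 (by rw [C.zz1, hxz]; group)
  obtain ⟨g2, h2, e2, k2⟩ := act_class C.mul2 C.inj2 h.2 (by rw [C.zz2, hxz]; group)
  exact ⟨g1, h1, g2, h2, e1, e2, k1, k2⟩

end Coords

end Cfsg.Agent.U43Type
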