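import Cfsg.Agent.U43Type.ThreeLocal
import Cfsg.Agent.U43Type.Cert.Kill00.Main
import Cfsg.Agent.U43Type.Cert.Kill01.Main
import Cfsg.Agent.U43Type.Cert.Kill02.Main
import Cfsg.Agent.U43Type.Cert.Kill10.Main
import Cfsg.Agent.U43Type.Cert.Kill11.Main
import Cfsg.Agent.U43Type.Cert.Kill12.Main
import Cfsg.Agent.U43Type.Cert.Index.Main

/-!
The map from the presented group.
-/

set_option autoImplicit false
set_option maxRecDepth 100000
set_option linter.all false

namespace Cfsg.Agent.U43Type

open Cfsg.Agent.CosetCert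

/-- The presented group. -/
abbrev PRels : Set (FreeGroup (Fin 5)) := wordRels Cert.Index.relWords

/-- The presented group itself. -/
abbrev PGrp : Type := PresentedGroup PRels

theorem index_rels : Cert.Index.relWords = relMain.map (List.map sl5) := by
  have h : Cert.Index.rels = relMain := by decide +kernel
  rw [Cert.Index.relWords, h]
  rfl

theorem fmap_zI : fmap imgList zI = yI false ∧ zI ∈ t0List ∧ yI false ≠ zI := by decide +kernel

variable {G : Type*} [Group G]

namespace Std

variable {z : G} (S : Std z)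

theorem gen_four : S.gen 4 = S.t := by simp [gen]

theorem gen_cen {b : Fin 5} (hb : b.val ≠ 4) : S.gen b * z = z * S.gen b := by
  rw [gen, if_neg hb]
  exact S.φ_cen _ (gIdx_lt (by omega)).1

theorem t_ne : S.t * z ≠ z * S.t := by
  intro h
  obtain ⟨hf, hmem, hne⟩ := fmap_zI
  obtain ⟨l, e⟩ := S.t_act zI hmem
  rw [hf, S.φ_z] at e
  rw [hf] at l
  refine hne (S.φ_inj _ l _ zI_lt ?_)
  rw [← e, S.φ_z, h, mul_assoc, S.t_sq, mul_one]

theorem no_kill {rels : List (List Nat)} (hall : ∀ w ∈ rels, S.val w = 1)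
    (hmem : PresentedGroup.mk (wordRels (rels.map (List.map sl5))) (FreeGroup.mk [((4 : Fin 5), true)]) ∈
      Data.sub (wordRels (rels.map (List.map sl5))) (([0, 1, 2, 3] : List (Fin 5)).map FreeGroup.of)) : False := by
  have hSW : ([0, 1, 2, 3] : List (Fin 5)).map FreeGroup.of =
      (([0, 1, 2, 3] : List (Fin 5)).map fun b => [(b, true)]).map FreeGroup.mk := by
    rw [List.map_map]; rfl
  rw [hSW] at hmem
  have h := group_mem_of_mem_sub hmem S.gen (fun r hr => by
    obtain ⟨w, hw, rfl⟩ := List.mem_map.1 hr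
    rw [lift_valOf]
    exact hall w hw)
  have hle : Subgroup.closure {s | ∃ w ∈ ([0, 1, 2, 3] : List (Fin 5)).map (fun b => [(b, true)]),
      FreeGroup.lift S.gen (FreeGroup.mk w) = s} ≤ Subgroup.centralizer ({z} : Set G) := by
    rw [Subgroup.closure_le]
    rintro s ⟨w, hw, rfl⟩
    obtain ⟨b, hb, rfl⟩ := List.mem_map.1 hw
    rw [SetLike.mem_coe, Subgroup.mem_centralizer_singleton_iff, FreeGroup.lift_mk]
    simp only [List.map_cons, List.map_nil, List.prod_cons, List.prod_nil, mul_one, cond_true]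
    refine S.gen_cen ?_
    revert b
    decide
  have h' := Subgroup.mem_centralizer_singleton_iff.1 (hle h)
  rw [FreeGroup.lift_mk] at h'
  simp only [List.map_cons, List.map_nil, List.prod_cons, List.prod_nil, mul_one, cond_true, S.gen_four] at h'
  exact S.t_ne h'

theorem kill_hall {w : List Nat} (hw : S.val w = 1) : ∀ u ∈ relHr ++ relTr ++ [w] ++ relExt, S.val u = 1 := by
  intro u hu
  simp only [List.mem_append, List.mem_cons, List.not_mem_nil, or_false] at hu
  rcases hu with ((h | h) | rfl) | h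
  · exact S.val_hr h
  · exact S.val_tr h
  · exact hw
  · exact S.val_ext h

theorem val_Ex1 : S.val relEx1 = 1 := by
  obtain ⟨w, hw, h1⟩ := S.val_opt opts_ok.1
  have e : sideWords1 = [sideWords1.getD 0 [], relEx1, sideWords1.getD 2 [], sideWords1.getD 3 []] := by decide +kernel
  rw [e] at hw
  simp only [List.mem_cons, List.not_mem_nil, or_false] at hw
  have r0 : Cert.Kill00.rels = relHr ++ relTr ++ [sideWords1.getD 0 []] ++ relExt := by decide +kernel
  have r1 : Cert.Kill01.rels = relHr ++ relTr ++ [sideWords1.getD 2 []] ++ relExt := by decide +kernel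
  have r2 : Cert.Kill02.rels = relHr ++ relTr ++ [sideWords1.getD 3 []] ++ relExt := by decide +kernel
  rcases hw with rfl | rfl | rfl | rfl
  · exact (S.no_kill (rels := Cert.Kill00.rels) (r0 ▸ S.kill_hall h1) Cert.Kill00.mem).elim
  · exact h1
  · exact (S.no_kill (rels := Cert.Kill01.rels) (r1 ▸ S.kill_hall h1) Cert.Kill01.mem).elim
  · exact (S.no_kill (rels := Cert.Kill02.rels) (r2 ▸ S.kill_hall h1) Cert.Kill02.mem).elim

theorem val_Ex2 : S.val relEx2 = 1 := by
  obtain ⟨w, hw, h1⟩ := S.val_opt opts_ok.2.1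
  have e : sideWords2 = [relEx2, sideWords2.getD 1 [], sideWords2.getD 2 [], sideWords2.getD 3 []] := by decide +kernel
  rw [e] at hw
  simp only [List.mem_cons, List.not_mem_nil, or_false] at hw
  have r0 : Cert.Kill10.rels = relHr ++ relTr ++ [sideWords2.getD 1 []] ++ relExt := by decide +kernel
  have r1 : Cert.Kill11.rels = relHr ++ relTr ++ [sideWords2.getD 2 []] ++ relExt := by decide +kernel
  have r2 : Cert.Kill12.rels = relHr ++ relTr ++ [sideWords2.getD 3 []] ++ relExt := by decide +kernel
  rcases hw with rfl | rfl | rfl | rfl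
  · exact h1
  · exact (S.no_kill (rels := Cert.Kill10.rels) (r0 ▸ S.kill_hall h1) Cert.Kill10.mem).elim
  · exact (S.no_kill (rels := Cert.Kill11.rels) (r1 ▸ S.kill_hall h1) Cert.Kill11.mem).elim
  · exact (S.no_kill (rels := Cert.Kill12.rels) (r2 ▸ S.kill_hall h1) Cert.Kill12.mem).elim

theorem rel_one [Finite G] {w : List Nat} (hw : w ∈ relMain) : S.val w = 1 := by
  simp only [relMain, List.mem_append, List.mem_cons, List.not_mem_nil, or_false] at hw
  rcases hw with ((h | h) | rfl | rfl | rfl | rfl) | h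
  · exact S.val_hr h
  · exact S.val_tr h
  · exact S.val_R1
  · exact S.val_Ex1
  · exact S.val_R4 S.val_Ex1
  · exact S.val_Ex2
  · exact S.val_ext (List.mem_of_mem_take h)

/-- The map. -/
noncomputable def psi [Finite G] : PGrp →* G :=
  PresentedGroup.toGroup (f := S.gen) (rels := PRels) (by
    intro r hr
    obtain ⟨l, hl, rfl⟩ := List.mem_map.1 hr
    rw [index_rels] at hl
    obtain ⟨w, hw, rfl⟩ := List.mem_map.1 hl
    rw [lift_valOf]
    exact S.rel_one hw)

theorem psi_of [Finite G] (b : Fin 5) : S.psi (PresentedGroup.of b) = S.gen b := PresentedGroup.toGroup.of _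

end Std

end Cfsg.Agent.U43Type
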