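import Cfsg.Agent.U43Type.MatData

/-!
Finite facts about the table matrices.
-/

set_option autoImplicit false
set_option maxRecDepth 100000
set_option linter.all false

namespace Cfsg.Agent.U43Type

/-- Addition in the field with nine elements. -/
def fAdd (x y : Nat) : Nat := (x % 3 + y % 3) % 3 + 3 * ((x / 3 + y / 3) % 3)

/-- Multiplication in the field with nine elements. -/
def fMul (x y : Nat) : Nat :=
  (x % 3 * (y % 3) + 2 * (x / 3) * (y / 3)) % 3 + 3 * ((x % 3 * (y / 3) + x / 3 * (y % 3)) % 3)

/-- Negation. -/
def fNeg (x : Nat) : Nat := fMul 2 x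

/-- An entry. -/
def ent (A : List Nat) (i j : Nat) : Nat := A.getD (4 * i + j) 0

/-- The product of two tables. -/
def mulT (A B : List Nat) : List Nat :=
  (List.range 16).map fun n => fAdd (fAdd (fAdd (fMul (ent A (n / 4) 0) (ent B 0 (n % 4)))
    (fMul (ent A (n / 4) 1) (ent B 1 (n % 4)))) (fMul (ent A (n / 4) 2) (ent B 2 (n % 4))))
    (fMul (ent A (n / 4) 3) (ent B 3 (n % 4)))

/-- The conjugate transpose. -/
def starT (A : List Nat) : List Nat :=
  (List.range 16).map fun n => fMul (fMul (ent A (n % 4) (n / 4)) (ent A (n % 4) (n / 4))) (ent A (n % 4) (n / 4))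

/-- A scalar table. -/
def scalT (c : Nat) : List Nat := (List.range 16).map fun n => bif n / 4 == n % 4 then c else 0

/-- A determinant of order three. -/
def det3T (a b c d e f g h i : Nat) : Nat :=
  fAdd (fAdd (fMul a (fAdd (fMul e i) (fNeg (fMul f h)))) (fNeg (fMul b (fAdd (fMul d i) (fNeg (fMul f g))))))
    (fMul c (fAdd (fMul d h) (fNeg (fMul e g))))

/-- The determinant of a table. -/
def detT (A : List Nat) : Nat :=
  let m := ent A
  fAdd (fAdd (fAdd
    (fMul (m 0 0) (det3T (m 1 1) (m 1 2) (m 1 3) (m 2 1) (m 2 2) (m 2 3) (m 3 1) (m 3 2) (m 3 3)))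
    (fNeg (fMul (m 0 1) (det3T (m 1 0) (m 1 2) (m 1 3) (m 2 0) (m 2 2) (m 2 3) (m 3 0) (m 3 2) (m 3 3)))))
    (fMul (m 0 2) (det3T (m 1 0) (m 1 1) (m 1 3) (m 2 0) (m 2 1) (m 2 3) (m 3 0) (m 3 1) (m 3 3))))
    (fNeg (fMul (m 0 3) (det3T (m 1 0) (m 1 1) (m 1 2) (m 2 0) (m 2 1) (m 2 2) (m 3 0) (m 3 1) (m 3 2))))

/-- The table of a generator. -/
def genT (b : Nat) : List Nat := matList.getD b []

/-- The table of a letter. -/
def letT (x : Nat) : List Nat := bif Nat.beq (x % 2) 0 then genT (x / 2 % 5) else starT (genT (x / 2 % 5))

/-- The table of a word. -/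
def evalT : List Nat → List Nat
  | [] => scalT 1
  | x :: w => mulT (letT x) (evalT w)

/-- The table of the word is scalar. -/
def isScal (w : List Nat) : Bool := evalT w == scalT (ent (evalT w) 0 0)

/-- The table of the word fails to commute with a generator. -/
def notCen (w : List Nat) : Bool :=
  (List.range 5).any fun b => !(mulT (evalT w) (genT b) == mulT (genT b) (evalT w))

/-- The four elements of order three. -/
def fourThree : List (List Nat) := [sideX1, abW, conjW rpW abW, conjW (rpW ++ rpW) abW]

/-- A product of powers of them. -/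
def fourWord (a b c d : Nat) : List Nat :=
  (List.replicate a sideX1).flatten ++ (List.replicate b abW).flatten ++
    (List.replicate c (conjW rpW abW)).flatten ++ (List.replicate d (conjW (rpW ++ rpW) abW)).flatten

theorem gen_table : ((List.range 5).all fun b => (genT b).length == 16 && (genT b).all (fun x => Nat.blt x 9) &&
    (mulT (starT (genT b)) (genT b) == scalT 1) && (mulT (genT b) (starT (genT b)) == scalT 1) &&
    (detT (genT b) == 1)) = true := by decide +kernel

theorem rel_table : relMain.all isScal = true := by decide +kernel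

theorem four_table : (fourThree.all fun u => isScal (u ++ u ++ u) &&
    fourThree.all fun v => isScal (u ++ v ++ invW u ++ invW v)) = true ∧
    ((List.range 81).all fun n => (n == 0) ||
      notCen (fourWord (n % 3) (n / 3 % 3) (n / 9 % 3) (n / 27))) = true := by decide +kernel

theorem word_table : (isScal (List.replicate 7 wordSeven).flatten && notCen wordSeven &&
    isScal (List.replicate 5 wordFive).flatten && notCen wordFive && notCen [2, 2]) = true := by decide +kernel

theorem inv_table : ((List.range 9).all fun x => (List.range 9).all fun y => (x == y) ||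
    (List.range 9).any fun w => fMul w (fAdd x (fNeg y)) == 1) = true := by decide +kernel

end Cfsg.Agent.U43Type
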