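import Cfsg.Agent.U43Type.Words2
import Cfsg.Agent.U43Type.LocalWords

/-!
Matrices over the field with nine elements, as tables; the number `a + 3b` is `a + b u`, `u ^ 2 = -1`.
-/

set_option autoImplicit false

namespace Cfsg.Agent.U43Type

/-- The matrices of the five generators. -/
def matList : List (List Nat) := [[4, 4, 0, 0, 5, 7, 0, 0, 0, 0, 1, 0, 0, 0, 0, 1], [0, 2, 0, 0, 1, 0, 0, 0, 0, 0, 1, 0, 0, 0, 0, 1], [0, 0, 1, 0, 0, 0, 0, 1, 1, 0, 0, 0, 0, 1, 0, 0], [4, 4, 0, 0, 4, 8, 0, 0, 0, 0, 5, 5, 0, 0, 5, 7], [2, 6, 6, 1, 3, 2, 1, 3, 3, 1, 1, 6, 1, 6, 3, 1]]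

/-- A word whose image has order seven. -/
def wordSeven : List Nat := [0, 0, 2, 8]

/-- A word whose image has order five. -/
def wordFive : List Nat := [0, 4, 0, 8]

end Cfsg.Agent.U43Type
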