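import Cfsg.Agent.U43Type.Swap

/-!
The centraliser of `z` as a numbered group.
-/

set_option autoImplicit false
set_option maxRecDepth 100000
set_option linter.all false
set_option maxHeartbeats 1000000

namespace Cfsg.Agent.U43Type

open Subgroup

theorem mk_decode : ∀ h1 < 24, ∀ h2 < 24, ∀ a b : Bool,
    mk h1 h2 a b < 1152 ∧ cs (mk h1 h2 a b) = a ∧ cd (mk h1 h2 a b) = b ∧
      ((c1 (mk h1 h2 a b) = h1 ∧ c2 (mk h1 h2 a b) = h2) ∨
        (c1 (mk h1 h2 a b) = sm h1 sZ ∧ c2 (mk h1 h2 a b) = sm h2 sZ)) := by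
  decide +kernel

theorem mk_encode : ∀ i < 1152, c1 i < 24 ∧ c2 i < 24 ∧ mk (c1 i) (c2 i) (cs i) (cd i) = i ∧
    Nat.div i 96 < 12 := by
  decide +kernel

theorem srep_sign : ∀ p < 12, ∀ q < 12, srep p ≠ sm (srep q) sZ := by decide +kernel

theorem sact_sA : ∀ g < 24, ∀ e : Bool, sact g e sA ≠ sO ∧ sact g e sA ≠ sZ ∧
    (sact g false sA = st sA → sact g false sI ≠ st sI) := by decide +kernel

/-- Exponentiation by a bit. -/
def bp {G : Type*} [One G] (x : G) (b : Bool) : G := bif b then x else 1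

variable {G : Type*} [Group G]

theorem bp_mul {z s d : G} (hzz : z * z = 1) (ss : s * s = 1) (sz : s * z = z * s) (dz : d * z = z * d)
    {δ ε : Bool} (dd : d * d = bp z δ) (ds : d * s = bp z ε * (s * d)) (a b c e : Bool) :
    bp s a * bp d b * (bp s c * bp d e) =
      bp z (xor (b && c && ε) (b && e && δ)) * (bp s (xor a c) * bp d (xor b e)) := by
  have r1 : ∀ x, s * (s * x) = x := fun x => by rw [← mul_assoc, ss, one_mul]
  have r2 : ∀ x, z * (z * x) = x := fun x => by rw [← mul_assoc, hzz, one_mul]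
  have r3 : ∀ x, d * (d * x) = bp z δ * x := fun x => by rw [← mul_assoc, dd]
  have r4 : ∀ x, d * (s * x) = bp z ε * (s * (d * x)) := fun x => by rw [← mul_assoc, ds, mul_assoc, mul_assoc]
  have r5 : ∀ x, s * (z * x) = z * (s * x) := fun x => by rw [← mul_assoc, sz, mul_assoc]
  have r6 : ∀ x, d * (z * x) = z * (d * x) := fun x => by rw [← mul_assoc, dz, mul_assoc]
  cases δ <;> cases ε <;> cases a <;> cases b <;> cases c <;> cases e <;>
    simp_all [bp, mul_assoc]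

/-- The numbered centraliser. -/
structure Model (z : G) extends Framed z where
  δ : Bool
  ε : Bool
  φ : Nat → G
  φ_pair : ∀ h1 < 24, ∀ h2 < 24, φ (mk h1 h2 false false) = C.f1 h1 * C.f2 h2
  φ_s : φ (mk sO sO true false) = s
  φ_mul : ∀ i < 1152, ∀ j < 1152, hm δ ε i j < 1152 ∧ φ (hm δ ε i j) = φ i * φ j
  φ_inj : ∀ i < 1152, ∀ j < 1152, φ i = φ j → i = j
  φ_surj : ∀ x, x * z = z * x → ∃ i < 1152, φ i = x
  φ_cen : ∀ i < 1152, φ i * z = z * φ i
  keeper : ∃ g1 < 24, ∃ g2 < 24, inQ8 g1 = true ∧ inQ8 g2 = true ∧ toPair.inR (φ (mk g1 g2 false true))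

namespace Framed

variable {z : G} (F : Framed z)

theorem cen_K {x : G} (hz : x * z = z * x) (h1 : ∀ a < 24, x * F.C.f1 a = F.C.f1 a * x)
    (h2 : ∀ a < 24, x * F.C.f2 a = F.C.f2 a * x) : x = 1 ∨ x = z := by
  have hx : x ∈ F.QG := by
    refine F.self x hz fun q hq => ?_
    obtain ⟨a, ha, b, hb, -, -, rfl⟩ := (F.memQ q).1 hq
    exact ((Commute.mul_right (h1 a ha) (h2 b hb))).eq
  obtain ⟨a, ha, b, hb, qa, qb, rfl⟩ := (F.memQ x).1 hx
  obtain ⟨hne, hK, hP, qk, qp, -⟩ := q8_noncomm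
  have hlt := @Coords.lt_sm
  have c1 : ∀ u < 24, sm a u = sm u a := by
    intro u hu
    refine F.C.inj1 _ (hlt ha hu) _ (hlt hu ha) (mul_right_cancel (b := F.C.f2 b) ?_)
    rw [F.C.mul1 a ha u hu, F.C.mul1 u hu a ha]
    have h := h1 u hu
    rw [mul_assoc (F.C.f1 u), ← h, mul_assoc, mul_assoc, F.C.com u hu b hb]
  have c2 : ∀ u < 24, sm b u = sm u b := by
    intro u hu
    refine F.C.inj2 _ (hlt hb hu) _ (hlt hu hb) (mul_left_cancel (a := F.C.f1 a) ?_)
    rw [F.C.mul2 b hb u hu, F.C.mul2 u hu b hb]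
    have h := h2 u hu
    rw [← mul_assoc, h, ← mul_assoc, ← mul_assoc, F.C.com a ha u hu]
  rcases comm_two hK hP ha qk qp hne (c1 _ hK) (c1 _ hP) with rfl | rfl <;>
    rcases comm_two hK hP hb qk qp hne (c2 _ hK) (c2 _ hP) with rfl | rfl
  · exact Or.inl (by rw [F.C.one1, F.C.one2, one_mul])
  · exact Or.inr (by simp only [F.C.one1, F.C.zz2, one_mul])
  · exact Or.inr (by simp only [F.C.one2, F.C.zz1, mul_one])
  · exact Or.inl (by simpa only [F.C.zz1, F.C.zz2] using F.zsq)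

theorem s_f' {a : Nat} (ha : a < 24) : F.s * F.C.f2 a * F.s = F.C.f1 a := by
  rw [F.s_f a ha]
  calc F.s * (F.s * F.C.f1 a * F.s) * F.s = F.s * F.s * F.C.f1 a * (F.s * F.s) := by group
    _ = _ := by rw [F.s_sq, one_mul, mul_one]

/-- The element acting on both factors by the outer automorphism. -/
theorem exists_d : ∃ d : G, ∃ g1 < 24, ∃ g2 < 24, ∃ δ ε : Bool, inQ8 g1 = true ∧ inQ8 g2 = true ∧
    d * z = z * d ∧ (∀ a < 24, d * F.C.f1 a = F.C.f1 (st a) * d) ∧ (∀ a < 24, d * F.C.f2 a = F.C.f2 (st a) * d) ∧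
    d * d = bp z δ ∧ d * F.s = bp z ε * (F.s * d) ∧ F.inR (F.C.f1 g1 * F.C.f2 g2 * d) := by
  obtain ⟨-, r, Rr, nr, hr⟩ := F.exists_swap_keep
  obtain ⟨g1, hg1, g2, hg2, q1, q2, k1, k2⟩ := F.R_keeper Rr hr nr
  obtain ⟨h, hh⟩ : ∃ h, h = F.C.f1 g1 * F.C.f2 g2 := ⟨_, rfl⟩
  obtain ⟨d, hd⟩ : ∃ d, d = h⁻¹ * r := ⟨_, rfl⟩
  have hlt := @Coords.lt_sm
  have hst : ∀ a < 24, st a < 24 := fun a ha => (st_hom a ha a ha).2.1
  have d1 : ∀ a < 24, d * F.C.f1 a = F.C.f1 (st a) * d := by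
    intro a ha
    have e := k1 a ha
    rw [sact, cond_true, F.C.mul1 _ (hlt hg1 (hst a ha)) _ (sinv_mul g1 hg1).1, F.C.mul1 g1 hg1 _ (hst a ha),
      ← F.C.inv1 hg1] at e
    calc d * F.C.f1 a = h⁻¹ * (r * F.C.f1 a * r⁻¹) * r := by rw [hd]; group
      _ = (F.C.f2 g2)⁻¹ * F.C.f1 (st a) * (F.C.f2 g2) * ((F.C.f2 g2)⁻¹ * (F.C.f1 g1)⁻¹) * r := by
          rw [e, hh]; group
      _ = F.C.f1 (st a) * ((F.C.f2 g2)⁻¹ * (F.C.f1 g1)⁻¹) * r := by
          rw [mul_assoc (F.C.f2 g2)⁻¹ (F.C.f1 (st a)), F.C.com _ (hst a ha) g2 hg2]; group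
      _ = _ := by rw [hd, hh]; group
  have d2 : ∀ a < 24, d * F.C.f2 a = F.C.f2 (st a) * d := by
    intro a ha
    have e := k2 a ha
    rw [sact, cond_true, F.C.mul2 _ (hlt hg2 (hst a ha)) _ (sinv_mul g2 hg2).1, F.C.mul2 g2 hg2 _ (hst a ha),
      ← F.C.inv2 hg2] at e
    have hh' : h = F.C.f2 g2 * F.C.f1 g1 := hh.trans (F.C.com g1 hg1 g2 hg2)
    calc d * F.C.f2 a = h⁻¹ * (r * F.C.f2 a * r⁻¹) * r := by rw [hd]; group
      _ = (F.C.f1 g1)⁻¹ * F.C.f2 (st a) * (F.C.f1 g1) * ((F.C.f1 g1)⁻¹ * (F.C.f2 g2)⁻¹) * r := by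
          rw [e, hh']; group
      _ = F.C.f2 (st a) * ((F.C.f1 g1)⁻¹ * (F.C.f2 g2)⁻¹) * r := by
          rw [mul_assoc (F.C.f1 g1)⁻¹ (F.C.f2 (st a)), ← F.C.com g1 hg1 _ (hst a ha)]; group
      _ = _ := by rw [hd, hh']; group
  have dz : d * z = z * d := by
    have h' : h * z = z * h := by
      rw [hh, mul_assoc, F.C.z_comm2 hg2, ← mul_assoc, F.C.z_comm1 hg1, mul_assoc]
    have h'' : h⁻¹ * z = z * h⁻¹ := by
      calc h⁻¹ * z = h⁻¹ * (z * h) * h⁻¹ := by group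
        _ = h⁻¹ * (h * z) * h⁻¹ := by rw [h']
        _ = _ := by group
    rw [hd, mul_assoc, F.R_z Rr, ← mul_assoc, h'', mul_assoc]
  have dd : ∃ δ, d * d = bp z δ := by
    have hstst : ∀ a < 24, st (st a) = a := fun a ha => (st_hom a ha a ha).2.2
    rcases F.cen_K (x := d * d) (by rw [mul_assoc, dz, ← mul_assoc, dz, mul_assoc])
      (fun a ha => by rw [mul_assoc, d1 a ha, ← mul_assoc, d1 _ (hst a ha), hstst a ha, mul_assoc])
      (fun a ha => by rw [mul_assoc, d2 a ha, ← mul_assoc, d2 _ (hst a ha), hstst a ha, mul_assoc]) with e | e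
    · exact ⟨false, e⟩
    · exact ⟨true, e⟩
  have ds : ∃ ε, d * F.s = bp z ε * (F.s * d) := by
    have ssy : ∀ y, F.s * (F.s * y) = y := fun y => by rw [← mul_assoc, F.s_sq, one_mul]
    have m1 : ∀ a < 24, F.s * F.C.f1 a = F.C.f2 a * F.s := fun a ha => by
      rw [F.s_f a ha, mul_assoc, mul_assoc, F.s_sq, mul_one]
    have m2 : ∀ a < 24, F.s * F.C.f2 a = F.C.f1 a * F.s := fun a ha => by
      rw [← F.s_f' ha, mul_assoc, mul_assoc, F.s_sq, mul_one]
    have di : ∀ a < 24, d⁻¹ * F.C.f1 a = F.C.f1 (st a) * d⁻¹ ∧ d⁻¹ * F.C.f2 a = F.C.f2 (st a) * d⁻¹ := by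
      intro a ha
      have e1 := d1 _ (hst a ha)
      have e2 := d2 _ (hst a ha)
      rw [(st_hom a ha a ha).2.2] at e1 e2
      constructor
      · calc d⁻¹ * F.C.f1 a = d⁻¹ * (F.C.f1 a * d) * d⁻¹ := by group
          _ = _ := by rw [← e1]; group
      · calc d⁻¹ * F.C.f2 a = d⁻¹ * (F.C.f2 a * d) * d⁻¹ := by group
          _ = _ := by rw [← e2]; group
    have hsi : F.s⁻¹ = F.s := inv_eq_of_mul_eq_one_right F.s_sq
    have hstst : ∀ a < 24, st (st a) = a := fun a ha => (st_hom a ha a ha).2.2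
    rcases F.cen_K (x := d * F.s * d⁻¹ * F.s) (by
        have hz' : d⁻¹ * z = z * d⁻¹ := by
          calc d⁻¹ * z = d⁻¹ * (z * d) * d⁻¹ := by group
            _ = d⁻¹ * (d * z) * d⁻¹ := by rw [dz]
            _ = _ := by group
        exact (((Commute.mul_left dz F.s_z).mul_left hz').mul_left F.s_z).eq)
      (fun a ha => by
        rw [mul_assoc _ F.s, m1 a ha, ← mul_assoc, mul_assoc _ d⁻¹, (di a ha).2, ← mul_assoc, mul_assoc _ F.s,
          m2 _ (hst a ha), ← mul_assoc, d1 _ (hst a ha), hstst a ha]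
        simp only [mul_assoc])
      (fun a ha => by
        rw [mul_assoc _ F.s, m2 a ha, ← mul_assoc, mul_assoc _ d⁻¹, (di a ha).1, ← mul_assoc, mul_assoc _ F.s,
          m1 _ (hst a ha), ← mul_assoc, d2 _ (hst a ha), hstst a ha]
        simp only [mul_assoc]) with e | e
    · refine ⟨false, ?_⟩
      calc d * F.s = d * F.s * d⁻¹ * F.s * (F.s⁻¹ * d) := by group
        _ = _ := by rw [e, hsi]; rfl
    · refine ⟨true, ?_⟩
      calc d * F.s = d * F.s * d⁻¹ * F.s * (F.s⁻¹ * d) := by group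
        _ = _ := by rw [e, hsi]; rfl
  obtain ⟨δ, hδ⟩ := dd
  obtain ⟨ε, hε⟩ := ds
  refine ⟨d, g1, hg1, g2, hg2, δ, ε, q1, q2, dz, d1, d2, hδ, hε, ?_⟩
  rwa [← hh, hd, mul_inv_cancel_left]

include F in
theorem exists_model [Finite G] : Nonempty (Model z) := by
  classical
  obtain ⟨d, g1, hg1, g2, hg2, δ, ε, q1, q2, dz, d1, d2, hδ, hε, hR⟩ := F.exists_d
  have hlt := @Coords.lt_sm
  have hst : ∀ a < 24, st a < 24 := fun a ha => (st_hom a ha a ha).2.1
  obtain ⟨φ, hφ⟩ : ∃ φ : Nat → G, ∀ i, φ i = F.C.f1 (c1 i) * F.C.f2 (c2 i) * (bp F.s (cs i) * bp d (cd i)) :=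
    ⟨_, fun _ => rfl⟩
  have hmk : ∀ h1 < 24, ∀ h2 < 24, ∀ a b : Bool,
      φ (U43Type.mk h1 h2 a b) = F.C.f1 h1 * F.C.f2 h2 * (bp F.s a * bp d b) := by
    intro h1 hh1 h2 hh2 a b
    obtain ⟨-, ea, eb, e | e⟩ := mk_decode h1 hh1 h2 hh2 a b <;> rw [hφ, ea, eb, e.1, e.2]
    rw [F.C.neg_mul_neg hh1 hh2]
  have m1 : ∀ a < 24, F.s * F.C.f1 a = F.C.f2 a * F.s := fun a ha => by
    rw [F.s_f a ha, mul_assoc, mul_assoc, F.s_sq, mul_one]
  have m2 : ∀ a < 24, F.s * F.C.f2 a = F.C.f1 a * F.s := fun a ha => by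
    rw [← F.s_f' ha, mul_assoc, mul_assoc, F.s_sq, mul_one]
  have zc : ∀ i < 1152, φ i * z = z * φ i := by
    intro i hi
    obtain ⟨h1, h2, -, -⟩ := mk_encode i hi
    rw [hφ]
    have hs : ∀ a, Commute (bp F.s a) z := fun a => by cases a; exacts [Commute.one_left _, F.s_z]
    have hd : ∀ a, Commute (bp d a) z := fun a => by cases a; exacts [Commute.one_left _, dz]
    exact ((Commute.mul_left (F.C.z_comm1 h1) (F.C.z_comm2 h2)).mul_left ((hs _).mul_left (hd _))).eq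
  have hmul : ∀ i < 1152, ∀ j < 1152, hm δ ε i j < 1152 ∧ φ (hm δ ε i j) = φ i * φ j := by
    intro i hi j hj
    obtain ⟨hi1, hi2, -, -⟩ := mk_encode i hi
    obtain ⟨hj1, hj2, -, -⟩ := mk_encode j hj
    simp only [hm]
    obtain ⟨k1, hk1⟩ : ∃ k, k = (bif cd i then st (c1 j) else c1 j) := ⟨_, rfl⟩
    obtain ⟨k2, hk2⟩ : ∃ k, k = (bif cd i then st (c2 j) else c2 j) := ⟨_, rfl⟩
    rw [← hk1, ← hk2]
    have lk1 : k1 < 24 := by rw [hk1]; cases cd i; exacts [hj1, hst _ hj1]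
    have lk2 : k2 < 24 := by rw [hk2]; cases cd i; exacts [hj2, hst _ hj2]
    obtain ⟨u1, hu1⟩ : ∃ k, k = (bif cs i then k2 else k1) := ⟨_, rfl⟩
    obtain ⟨u2, hu2⟩ : ∃ k, k = (bif cs i then k1 else k2) := ⟨_, rfl⟩
    rw [← hu1, ← hu2]
    have lu1 : u1 < 24 := by rw [hu1]; cases cs i; exacts [lk1, lk2]
    have lu2 : u2 < 24 := by rw [hu2]; cases cs i; exacts [lk2, lk1]
    have mvd : bp d (cd i) * (F.C.f1 (c1 j) * F.C.f2 (c2 j)) = F.C.f1 k1 * F.C.f2 k2 * bp d (cd i) := by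
      rw [hk1, hk2]
      cases cd i
      · simp [bp]
      · simp only [bp, cond_true]
        rw [← mul_assoc, d1 _ hj1, mul_assoc, d2 _ hj2, mul_assoc]
    have mvs : bp F.s (cs i) * (F.C.f1 k1 * F.C.f2 k2) = F.C.f1 u1 * F.C.f2 u2 * bp F.s (cs i) := by
      rw [hu1, hu2]
      cases cs i
      · simp [bp]
      · simp only [bp, cond_true]
        rw [← mul_assoc, m1 _ lk1, mul_assoc, m2 _ lk2, ← mul_assoc, ← F.C.com k2 lk2 k1 lk1, mul_assoc]
    obtain ⟨w, hw⟩ : ∃ w, w = xor (cd i && cs j && ε) (cd i && cd j && δ) := ⟨_, rfl⟩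
    rw [← hw]
    have lr1 := hlt hi1 lu1
    have lr : (bif w then sm (sm (c1 i) u1) sZ else sm (c1 i) u1) < 24 := by
      cases w; exacts [lr1, hlt lr1 (by decide)]
    refine ⟨(mk_decode _ lr _ (hlt hi2 lu2) _ _).1, ?_⟩
    rw [hmk _ lr _ (hlt hi2 lu2)]
    have e1 : F.C.f1 (bif w then sm (sm (c1 i) u1) sZ else sm (c1 i) u1) * F.C.f2 (sm (c2 i) u2) =
        F.C.f1 (c1 i) * F.C.f2 (c2 i) * (F.C.f1 u1 * F.C.f2 u2) * bp z w := by
      rw [F.C.pair_mul hi1 hi2 lu1 lu2]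
      cases w
      · simp [bp]
      · simp only [bp, cond_true]
        rw [mul_assoc, F.C.z_comm2 (hlt hi2 lu2), ← mul_assoc]
        have h := F.C.mul1 _ lr1 sZ (by decide)
        simp only [F.C.zz1] at h
        rw [h]
    have e2 := bp_mul F.zsq F.s_sq F.s_z dz hδ hε (cs i) (cd i) (cs j) (cd j)
    rw [← hw] at e2
    rw [e1, hφ i, hφ j]
    calc _ = F.C.f1 (c1 i) * F.C.f2 (c2 i) * (F.C.f1 u1 * F.C.f2 u2) *
          (bp F.s (cs i) * bp d (cd i) * (bp F.s (cs j) * bp d (cd j))) := by rw [e2]; group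
      _ = F.C.f1 (c1 i) * F.C.f2 (c2 i) * (bp F.s (cs i) * (F.C.f1 k1 * F.C.f2 k2)) *
          (bp d (cd i) * (bp F.s (cs j) * bp d (cd j))) := by rw [mvs]; group
      _ = F.C.f1 (c1 i) * F.C.f2 (c2 i) * (bp F.s (cs i) * (bp d (cd i) * (F.C.f1 (c1 j) * F.C.f2 (c2 j)))) *
          (bp F.s (cs j) * bp d (cd j)) := by rw [mvd]; group
      _ = _ := by group
  have hinj : ∀ i < 1152, ∀ j < 1152, φ i = φ j → i = j := by
    intro i hi j hj h
    obtain ⟨hi1, hi2, ei, pi⟩ := mk_encode i hi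
    obtain ⟨hj1, hj2, ej, pj⟩ := mk_encode j hj
    rw [hφ, hφ] at h
    have act : ∀ a b : Bool, ∀ g g', g < 24 → g' < 24 → ∃ u < 24, u ≠ sO ∧ u ≠ sZ ∧
        F.C.f1 g * F.C.f2 g' * (bp F.s a * bp d b) * F.C.f1 sA =
          (bif a then F.C.f2 u else F.C.f1 u) * (F.C.f1 g * F.C.f2 g' * (bp F.s a * bp d b)) := by
      intro a b g g' hg hg'
      obtain ⟨v, hv⟩ : ∃ v, v = (bif b then st sA else sA) := ⟨_, rfl⟩
      have lv : v < 24 := by rw [hv]; cases b <;> decide +kernel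
      have e1 : bp d b * F.C.f1 sA = F.C.f1 v * bp d b := by
        rw [hv]; cases b
        · simp [bp]
        · exact d1 sA (by decide)
      cases a
      · have hs := sact_sA g hg b
        rw [sact, ← hv] at hs
        refine ⟨_, hlt (hlt hg lv) (sinv_mul g hg).1, hs.1, hs.2.1, ?_⟩
        simp only [cond_false, bp]
        rw [F.C.mul1 _ (hlt hg lv) _ (sinv_mul g hg).1, F.C.mul1 g hg v lv, ← F.C.inv1 hg]
        calc _ = F.C.f1 g * F.C.f2 g' * ((bif b then d else 1) * F.C.f1 sA) := by group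
          _ = F.C.f1 g * (F.C.f2 g' * F.C.f1 v) * (bif b then d else 1) := by
              rw [show (bif b then d else 1) = bp d b from rfl, e1]; group
          _ = _ := by rw [← F.C.com v lv g' hg']; group
      · have hs := sact_sA g' hg' b
        rw [sact, ← hv] at hs
        refine ⟨_, hlt (hlt hg' lv) (sinv_mul g' hg').1, hs.1, hs.2.1, ?_⟩
        simp only [cond_true]
        rw [F.C.mul2 _ (hlt hg' lv) _ (sinv_mul g' hg').1, F.C.mul2 g' hg' v lv, ← F.C.inv2 hg']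
        calc _ = F.C.f1 g * F.C.f2 g' * (bp F.s true * (bp d b * F.C.f1 sA)) := by group
          _ = F.C.f1 g * F.C.f2 g' * (F.s * F.C.f1 v) * bp d b := by rw [e1]; simp only [bp, cond_true]; group
          _ = F.C.f1 g * (F.C.f2 g' * F.C.f2 v) * F.s * bp d b := by rw [m1 v lv]; group
          _ = F.C.f1 g * (F.C.f2 g' * F.C.f2 v * (F.C.f2 g')⁻¹) * F.C.f2 g' * (bp F.s true * bp d b) := by
              simp only [bp, cond_true]; group
          _ = _ := by
              rw [← F.C.mul2 g' hg' v lv, F.C.inv2 hg', ← F.C.mul2 _ (hlt hg' lv) _ (sinv_mul g' hg').1,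
                F.C.com g hg _ (hlt (hlt hg' lv) (sinv_mul g' hg').1)]
              group
    obtain ⟨u, hu, u1, u2, eu⟩ := act (cs i) (cd i) _ _ hi1 hi2
    obtain ⟨v, hv, v1, v2, ev⟩ := act (cs j) (cd j) _ _ hj1 hj2
    rw [h, ev] at eu
    have euv := mul_right_cancel eu
    have hab : cs i = cs j := by
      rcases Bool.eq_false_or_eq_true (cs i) with ha | ha <;> rcases Bool.eq_false_or_eq_true (cs j) with hc | hc <;>
        rw [ha, hc] at euv ⊢
      · rcases F.C.meet v hv u hu (by simpa using euv) with e | e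
        · exact absurd e v1
        · exact absurd e v2
      · rcases F.C.meet u hu v hv (by simpa using euv.symm) with e | e
        · exact absurd e u1
        · exact absurd e u2
    rw [hab] at h
    have hbe : cd i = cd j := by
      by_contra hne
      have key : ∃ p < 24, ∃ q < 24, d = F.C.f1 p * F.C.f2 q := by
        have hc : ∀ a b c e, a < 24 → b < 24 → c < 24 → e < 24 → F.C.f1 a * F.C.f2 b * (bp F.s (cs j) * d) =
            F.C.f1 c * F.C.f2 e * (bp F.s (cs j) * 1) → ∃ p < 24, ∃ q < 24, d = F.C.f1 p * F.C.f2 q := by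
          intro a b c e ha hb hc he h'
          have hp := hlt (sinv_mul a ha).1 hc
          have hq := hlt (sinv_mul b hb).1 he
          have e3 : bp F.s (cs j) * d = F.C.f1 (sm (sinv a) c) * F.C.f2 (sm (sinv b) e) * bp F.s (cs j) := by
            rw [← F.C.pair_mul (sinv_mul a ha).1 (sinv_mul b hb).1 hc he, ← F.C.inv1 ha, ← F.C.inv2 hb,
              mul_assoc, ← mul_one (bp F.s (cs j)), ← h', F.C.com a ha b hb]
            group
          cases hcs : cs j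
          · rw [hcs] at e3
            exact ⟨_, hp, _, hq, by simpa [bp] using e3⟩
          · rw [hcs] at e3
            simp only [bp, cond_true] at e3
            refine ⟨_, hq, _, hp, ?_⟩
            calc d = F.s * (F.s * d) := by rw [← mul_assoc, F.s_sq, one_mul]
              _ = F.s * F.C.f1 (sm (sinv a) c) * F.C.f2 (sm (sinv b) e) * F.s := by rw [e3]; group
              _ = F.C.f2 (sm (sinv a) c) * (F.s * F.C.f2 (sm (sinv b) e)) * F.s := by rw [m1 _ hp]; group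
              _ = F.C.f2 (sm (sinv a) c) * F.C.f1 (sm (sinv b) e) * (F.s * F.s) := by rw [m2 _ hq]; group
              _ = _ := by rw [F.s_sq, mul_one, F.C.com _ hq _ hp]
        rcases Bool.eq_false_or_eq_true (cd i) with hb | hb <;> rcases Bool.eq_false_or_eq_true (cd j) with he | he <;>
          rw [hb, he] at h hne
        · exact absurd rfl hne
        · exact hc _ _ _ _ hi1 hi2 hj1 hj2 h
        · exact hc _ _ _ _ hj1 hj2 hi1 hi2 h.symm
        · exact absurd rfl hne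
      obtain ⟨p, hp, q, hq, epq⟩ := key
      have ps : ∀ a < 24, sact p false a = st a := fun a ha => by
        refine F.C.inj1 _ (sact_lt p hp a ha false) _ (hst a ha) ?_
        rw [sact, cond_false, F.C.mul1 _ (hlt hp ha) _ (sinv_mul p hp).1, F.C.mul1 p hp a ha, ← F.C.inv1 hp]
        have e := d1 a ha
        rw [epq, mul_assoc, ← F.C.com a ha q hq, ← mul_assoc, ← mul_assoc] at e
        rw [mul_inv_eq_iff_eq_mul]
        exact mul_right_cancel e
      exact (sact_sA p hp false).2.2 (ps sA (by decide)) (ps sI (by decide))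
    rw [hbe] at h
    rcases F.C.pair_inj hi1 hi2 hj1 hj2 (mul_right_cancel h) with ⟨p, q⟩ | ⟨p, -⟩
    · rw [← ei, ← ej, p, q, hab, hbe]
    · exact absurd p (srep_sign _ pi _ pj)
  have hsurj : ∀ x, x * z = z * x → ∃ i < 1152, φ i = x := by
    intro x hx
    let ψ : Fin 1152 → ↥(centralizer ({z} : Set G)) := fun i =>
      ⟨φ i, mem_centralizer_singleton_iff.2 (zc i i.2)⟩
    have hψ : Function.Injective ψ := fun a b e =>
      Fin.ext (hinj a a.2 b b.2 (congrArg Subtype.val e))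
    have hb := hψ.bijective_of_nat_card_le (by rw [F.card, Nat.card_fin])
    obtain ⟨i, hi⟩ := hb.2 ⟨x, mem_centralizer_singleton_iff.2 hx⟩
    exact ⟨i, i.2, congrArg Subtype.val hi⟩
  refine ⟨{ toFramed := F, δ := δ, ε := ε, φ := φ, φ_pair := ?_, φ_s := ?_, φ_mul := hmul, φ_inj := hinj,
            φ_surj := hsurj, φ_cen := zc, keeper := ⟨g1, hg1, g2, hg2, q1, q2, ?_⟩ }⟩
  · intro h1 hh1 h2 hh2
    rw [hmk h1 hh1 h2 hh2]; simp [bp]
  · rw [hmk sO (by decide) sO (by decide), F.C.one1, F.C.one2]; simp [bp]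
  · rw [hmk g1 hg1 g2 hg2]; simpa [bp] using hR

end Framed

end Cfsg.Agent.U43Type
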