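import Mathlib

/-!
Values of numeric words in a group.
-/

set_option autoImplicit false
set_option linter.all false

namespace Cfsg.Agent.U43Type

/-- A letter as a signed generator. -/
def sl5 (x : Nat) : Fin 5 × Bool := (Fin.ofNat 5 (x / 2), Nat.beq (x % 2) 0)

/-- The partner of a letter. -/
def flipL (x : Nat) : Nat := bif Nat.beq (x % 2) 0 then x + 1 else x - 1

/-- The inverse word. -/
def invW (w : List Nat) : List Nat := w.reverse.map flipL

variable {G : Type*} [Group G] (f : Fin 5 → G)

/-- The value of a letter. -/
def letterVal (x : Nat) : G := cond (sl5 x).2 (f (sl5 x).1) (f (sl5 x).1)⁻¹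

/-- The value of a word. -/
def valOf (w : List Nat) : G := (w.map (letterVal f)).prod

theorem lift_valOf (w : List Nat) : FreeGroup.lift f (FreeGroup.mk (w.map sl5)) = valOf f w := by
  rw [FreeGroup.lift_mk, List.map_map]
  rfl

@[simp] theorem valOf_nil : valOf f [] = 1 := rfl

@[simp] theorem valOf_cons (x : Nat) (w : List Nat) : valOf f (x :: w) = letterVal f x * valOf f w :=
  List.prod_cons

theorem valOf_append (u v : List Nat) : valOf f (u ++ v) = valOf f u * valOf f v := by
  simp [valOf, List.prod_append]

theorem letterVal_flip (x : Nat) : letterVal f (flipL x) = (letterVal f x)⁻¹ := by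
  have hb : Nat.beq 1 0 = false := rfl
  have hb' : Nat.beq 0 0 = true := rfl
  rcases Nat.mod_two_eq_zero_or_one x with h | h
  · have e1 : flipL x = x + 1 := by simp [flipL, h, hb, hb']
    have e2 : (x + 1) / 2 = x / 2 := by omega
    have e3 : (x + 1) % 2 = 1 := by omega
    simp [letterVal, sl5, e1, e2, e3, h, hb, hb']
  · have e1 : flipL x = x - 1 := by simp [flipL, h, hb, hb']
    have e2 : (x - 1) / 2 = x / 2 := by omega
    have e3 : (x - 1) % 2 = 0 := by omega
    simp [letterVal, sl5, e1, e2, e3, h, hb, hb']

theorem valOf_inv (w : List Nat) : valOf f (invW w) = (valOf f w)⁻¹ := by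
  induction w with
  | nil => simp [invW]
  | cons x w ih =>
    rw [show invW (x :: w) = invW w ++ [flipL x] by simp [invW], valOf_append, ih]
    simp [letterVal_flip]

theorem valOf_pow (w : List Nat) (k : Nat) : valOf f (List.replicate k w).flatten = valOf f w ^ k := by
  induction k with
  | zero => simp
  | succ k ih => rw [List.replicate_succ, List.flatten_cons, valOf_append, ih, pow_succ']

theorem map_valOf {H : Type*} [Group H] (ψ : G →* H) (w : List Nat) :
    ψ (valOf f w) = valOf (fun b => ψ (f b)) w := by
  induction w with
  | nil => simp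
  | cons x w ih =>
    rw [valOf_cons, valOf_cons, map_mul, ih]
    congr 1
    unfold letterVal
    cases (sl5 x).2 <;> simp

end Cfsg.Agent.U43Type
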