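import Cfsg.Agent.U43Type.Tables

/-!
Generated words; letters `2k` and `2k+1` are a generator and its inverse.
-/

set_option autoImplicit false

namespace Cfsg.Agent.U43Type

/-- The letters that lie in the centraliser. -/
def letterIdx : List Nat := [216, 828, 60, 24, 314, 314, 313, 349]

/-- Relators of the centraliser. -/
def relHr : List (List Nat) := [[0, 0, 0], [2, 2, 2, 2], [0, 2, 0, 2, 0, 2], [0, 3, 0, 3, 0, 3, 0, 3, 0, 3, 0, 3], [4, 4], [6, 6, 2, 2], [0, 2, 2, 1, 2, 2], [4, 0, 4, 0, 4, 1, 4, 1], [4, 0, 4, 2, 4, 1, 4, 3], [4, 2, 4, 2, 4, 3, 4, 3], [4, 2, 2, 4, 2, 2], [6, 0, 7, 1, 2, 1], [6, 2, 7, 2], [4, 6, 4, 7, 3, 3]]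

/-- Relators for the exchanging element. -/
def relTr : List (List Nat) := [[8, 2, 2, 9, 5, 3, 5, 3], [8, 2, 4, 2, 4, 9, 3, 3], [8, 3, 9, 1, 5, 0, 7, 0, 5, 1], [8, 0, 2, 1, 4, 0, 2, 1, 4, 9, 3, 5, 3], [8, 2, 4, 2, 9, 5, 0, 3, 1, 5, 0, 3, 1], [8, 0, 4, 1, 6, 1, 4, 0, 9, 2], [8, 8]]

/-- Relators of elements acting without fixed points. -/
def relExt : List (List Nat) := [[0, 3, 1, 8, 0, 3, 1, 8, 0, 3, 1, 8], [0, 4, 0, 8, 0, 4, 0, 8, 0, 4, 0, 8, 0, 4, 0, 8, 0, 4, 0, 8], [0, 3, 1, 8, 0, 3, 1, 8, 0, 3, 1, 8], [0, 4, 1, 8, 0, 4, 1, 8, 0, 4, 1, 8, 0, 4, 1, 8, 0, 4, 1, 8]]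

/-- A word of order three and its action on an element of order three. -/
def relR1 : List Nat := [8, 0, 4, 1, 3, 1, 8, 0, 4, 0, 8, 0, 4, 1, 3, 1, 8, 0, 4, 0, 8, 0, 4, 1, 3, 1, 8, 0, 4, 0]
def relEx1 : List Nat := [8, 0, 4, 1, 3, 1, 8, 0, 4, 0, 0, 4, 0, 4, 1, 5, 1, 9, 0, 2, 0, 5, 1, 9, 5, 3, 1, 5, 3, 1]
def relR4 : List Nat := [0, 4, 1, 4, 0, 4, 0, 6, 0, 4, 0, 6, 8, 0, 4, 1, 3, 1, 8, 0, 4, 0, 0, 4, 1, 4, 1, 5, 1, 9, 0, 2, 0, 5, 1, 9, 7, 1, 5, 1, 7, 1, 5, 1, 5, 0, 5, 1, 0, 4, 0, 6, 0, 4, 0, 6, 8, 0, 4, 1, 3, 1, 8, 0, 4, 0, 5, 0, 5, 1, 1, 5, 1, 9, 0, 2, 0, 5, 1, 9, 7, 1, 5, 1, 7, 1, 5, 1]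
def relEx2 : List Nat := [0, 4, 3, 1, 8, 0, 4, 1, 8, 0, 3, 1, 0, 4, 1, 4, 0, 2, 1, 9, 0, 5, 1, 9, 0, 2, 5, 1, 5, 0, 5, 1]

/-- The relators. -/
def relMain : List (List Nat) := relHr ++ relTr ++ [relR1, relEx1, relR4, relEx2] ++ relExt.take 2

/-- The data of side 1: the group of order sixteen, the two words and the possible actions. -/
def sideA1 : List Nat := [0, 2, 12, 14, 312, 314, 348, 350, 712, 714, 764, 766, 1112, 1114, 1132, 1134]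
def sideX1 : List Nat := [0, 4, 0, 4]
def sideR1 : List Nat := [8, 0, 4, 1, 3, 1, 8, 0, 4, 0]
def sideOpts1 : List Nat := [200, 512, 612, 1012]
def sideWords1 : List (List Nat) := [[8, 0, 4, 1, 3, 1, 8, 0, 4, 0, 0, 4, 0, 4, 1, 5, 1, 9, 0, 2, 0, 5, 1, 9, 5, 1, 5, 1], [8, 0, 4, 1, 3, 1, 8, 0, 4, 0, 0, 4, 0, 4, 1, 5, 1, 9, 0, 2, 0, 5, 1, 9, 5, 3, 1, 5, 3, 1], [8, 0, 4, 1, 3, 1, 8, 0, 4, 0, 0, 4, 0, 4, 1, 5, 1, 9, 0, 2, 0, 5, 1, 9, 5, 1, 3, 5, 1, 3], [8, 0, 4, 1, 3, 1, 8, 0, 4, 0, 0, 4, 0, 4, 1, 5, 1, 9, 0, 2, 0, 5, 1, 9, 7, 0, 5, 0, 7, 5]]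
def sideGood1 : Nat := 1

/-- The data of side 2: the group of order sixteen, the two words and the possible actions. -/
def sideA2 : List Nat := [0, 3, 12, 15, 312, 315, 348, 351, 728, 731, 748, 751, 1096, 1099, 1148, 1151]
def sideX2 : List Nat := [0, 4, 1, 4]
def sideR2 : List Nat := [0, 4, 3, 1, 8, 0, 4, 1, 8, 0, 3, 1]
def sideOpts2 : List Nat := [280, 528, 604, 964]
def sideWords2 : List (List Nat) := [[0, 4, 3, 1, 8, 0, 4, 1, 8, 0, 3, 1, 0, 4, 1, 4, 0, 2, 1, 9, 0, 5, 1, 9, 0, 2, 5, 1, 5, 0, 5, 1], [0, 4, 3, 1, 8, 0, 4, 1, 8, 0, 3, 1, 0, 4, 1, 4, 0, 2, 1, 9, 0, 5, 1, 9, 0, 2, 5, 1, 5, 2, 0, 5, 3, 1], [0, 4, 3, 1, 8, 0, 4, 1, 8, 0, 3, 1, 0, 4, 1, 4, 0, 2, 1, 9, 0, 5, 1, 9, 0, 2, 5, 1, 5, 0, 2, 5, 1, 3], [0, 4, 3, 1, 8, 0, 4, 1, 8, 0, 3, 1, 0, 4, 1, 4, 0, 2, 1, 9, 0, 5, 1, 9, 0,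 2, 5, 1, 7, 0, 5, 1, 7, 5]]
def sideGood2 : Nat := 0

end Cfsg.Agent.U43Type
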