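import Cfsg.Agent.U43Type.Stage
import Cfsg.Agent.U43Type.Words
import Cfsg.Agent.U43Type.Val

/-!
Evaluation of numeric words on the numbered centraliser.
-/

set_option autoImplicit false
set_option maxRecDepth 100000
set_option linter.all false

namespace Cfsg.Agent.U43Type

/-- The index of a letter of the centraliser. -/
def gIdx (x : Nat) : Nat := letterIdx.getD x oI

/-- The index of a word in the letters of the centraliser. -/
def hv : List Nat → Nat
  | [] => oI
  | x :: w => hh (gIdx x) (hv w)

/-- All letters are in the centraliser. -/
def hWord (w : List Nat) : Bool := w.all fun x => Nat.blt x 8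

/-- The action of one letter by conjugation. -/
def stepW (x u : Nat) : Nat :=
  bif Nat.blt u 1152 then
    bif Nat.blt x 8 then hh (hh (gIdx x) u) (gIdx (flipL x))
    else bif t0List.contains u && Nat.blt x 10 then fmap imgList u else 1152
  else 1152

/-- The action of a word by conjugation. -/
def actW : List Nat → Nat → Nat
  | [], u => u
  | x :: w, u => stepW x (actW w u)

/-- A relator of the exchanging element. -/
def trOk (w : List Nat) : Bool :=
  decide (w = [8, 8]) ||
    let u := w.tail.takeWhile (fun x => Nat.blt x 8)
    let v := (w.tail.dropWhile (fun x => Nat.blt x 8)).tail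
    decide (w = 8 :: u ++ 9 :: v) && t0List.contains (hv u) && hWord v && (hh (fmap imgList (hv u)) (hv v) == oI)

/-- A power relator of an element acting without fixed points. -/
def fpfOk (A : List Nat) (w : List Nat) (k : Nat) : Bool :=
  A.contains zI &&
  (A.all fun a => Nat.blt a 1152 && A.contains (actW w a) && (!(actW w a == a) || (a == oI)) &&
    (actW (List.replicate k w).flatten a == a)) &&
  (List.range 1152).all fun c => !(A.all fun a => hh c a == hh a c) || A.contains c

/-- The conjugate of one word by another. -/
def conjW (r x : List Nat) : List Nat := r ++ x ++ invW r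

/-- The possible actions of one side. -/
def optOk (A r x : List Nat) (opts : List Nat) (words : List (List Nat)) : Bool :=
  hWord x && (hh (hv x) (hh (hv x) (hv x)) == oI) && (actW (conjW r x) zI == zI) &&
  (A.all fun a => Nat.blt a 1152 && Nat.blt (actW (conjW r x) a) 1152) &&
  ((List.range 1152).all fun h => !((hh h (hh h h) == oI) &&
    A.all fun a => hh h a == hh (actW (conjW r x) a) h) || opts.contains h) &&
  opts.all fun h => words.any fun w =>
    let v := w.drop (conjW r x).length
    decide (w = conjW r x ++ v) && hWord v && Nat.blt h 1152 && (hh h (hv v) == oI)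

theorem hr_ok : (relHr.all fun w => hWord w && (hv w == oI)) = true := by decide +kernel

theorem tr_ok : relTr.all trOk = true := by decide +kernel

theorem ext_ok : fpfOk sideA1 sideR1 3 = true ∧
    (relExt.all fun w => [sideA1, sideA2].any fun A => [3, 5].any fun k =>
      decide (w = (List.replicate k (w.take (w.length / k))).flatten) && fpfOk A (w.take (w.length / k)) k) = true ∧
    relR1 = (List.replicate 3 sideR1).flatten := by decide +kernel

theorem opts_ok : optOk sideA1 sideR1 sideX1 sideOpts1 sideWords1 = true ∧
    optOk sideA2 sideR2 sideX2 sideOpts2 sideWords2 = true ∧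
    sideWords1.getD sideGood1 [] = relEx1 ∧ sideWords2.getD sideGood2 [] = relEx2 := by decide +kernel

theorem letters_ok : ((List.range 8).all fun x => Nat.blt (gIdx x) 1152 && (hh (gIdx x) (gIdx (flipL x)) == oI) &&
    Nat.blt (flipL x) 8) = true ∧ Nat.blt oI 1152 = true := by decide +kernel

end Cfsg.Agent.U43Type
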