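import Cfsg.Agent.U43Type.Fixed
import Cfsg.Agent.U43Type.Words2

/-!
Relations that hold in the group.
-/

set_option autoImplicit false
set_option maxRecDepth 100000
set_option linter.all false

namespace Cfsg.Agent.U43Type

variable {G : Type*} [Group G]

namespace Std

variable {z : G} (S : Std z)

/-- The images of the five generators. -/
def gen (b : Fin 5) : G := if b.val = 4 then S.t else S.φ (gIdx (2 * b.val))

/-- The value of a word. -/
def val (w : List Nat) : G := valOf S.gen w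

theorem gIdx_lt {x : Nat} (hx : x < 8) : gIdx x < 1152 ∧ hh (gIdx x) (gIdx (flipL x)) = oI ∧ flipL x < 8 := by
  have h := List.all_eq_true.1 letters_ok.1 x (List.mem_range.2 hx)
  simp only [Bool.and_eq_true, beq_iff_eq] at h
  exact ⟨Nat.ble_eq.mp h.1.1, h.1.2, Nat.ble_eq.mp h.2⟩

theorem oI_lt : oI < 1152 := Nat.ble_eq.mp letters_ok.2

theorem t_inv : S.t⁻¹ = S.t := inv_eq_of_mul_eq_one_right S.t_sq

theorem letter_H {x : Nat} (hx : x < 8) : letterVal S.gen x = S.φ (gIdx x) := by
  have hg := gIdx_lt hx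
  have key : ∀ y < 8, y % 2 = 0 → letterVal S.gen y = S.φ (gIdx y) := by
    intro y hy he
    have hv : ((Fin.ofNat 5 (y / 2)).val) = y / 2 := Nat.mod_eq_of_lt (by omega)
    simp only [letterVal, sl5, he, gen, hv]
    rw [if_neg (by omega), show 2 * (y / 2) = y by omega]
    rfl
  rcases Nat.mod_two_eq_zero_or_one x with h | h
  · exact key x hx h
  · have hb : Nat.beq 1 0 = false := rfl
    have e : flipL x = x - 1 := by simp [flipL, h, hb]
    have h1 := letterVal_flip S.gen x
    rw [e, key (x - 1) (by omega) (by omega)] at h1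
    have h2 := (S.φ_mul _ hg.1 _ (gIdx_lt hg.2.2).1).2
    rw [hg.2.1, S.φ_one, e, h1] at h2
    exact (mul_inv_eq_one.1 h2.symm).symm

theorem letter_t {x : Nat} (h8 : ¬ x < 8) (h10 : x < 10) : letterVal S.gen x = S.t := by
  have hv : ((Fin.ofNat 5 (x / 2)).val) = 4 := by
    show x / 2 % 5 = 4
    omega
  unfold letterVal
  have h5 : x / 2 % 5 = 4 := hv
  cases (sl5 x).2 <;> simp [sl5, gen, h5, S.t_inv]

theorem val_cons (x : Nat) (w : List Nat) : S.val (x :: w) = letterVal S.gen x * S.val w := valOf_cons _ _ _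

theorem val_append (u v : List Nat) : S.val (u ++ v) = S.val u * S.val v := valOf_append _ _ _

theorem val_inv (w : List Nat) : S.val (invW w) = (S.val w)⁻¹ := valOf_inv _ _

theorem val_conj (r x : List Nat) : S.val (conjW r x) = S.val r * S.val x * (S.val r)⁻¹ := by
  rw [conjW, val_append, val_append, val_inv]

theorem val_H : ∀ {w : List Nat}, hWord w = true → hv w < 1152 ∧ S.val w = S.φ (hv w) := by
  intro w
  induction w with
  | nil => exact fun _ => ⟨oI_lt, by rw [hv, S.φ_one]; rfl⟩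
  | cons x w ih =>
    intro h
    simp only [hWord, List.all_cons, Bool.and_eq_true] at h
    have hx : x < 8 := Nat.ble_eq.mp h.1
    obtain ⟨hl, he⟩ := ih h.2
    have hg := (gIdx_lt hx).1
    exact ⟨(S.φ_mul _ hg _ hl).1, by rw [val_cons, S.letter_H hx, he, hv, (S.φ_mul _ hg _ hl).2]⟩

theorem step_sound {x u : Nat} (h : stepW x u < 1152) :
    u < 1152 ∧ letterVal S.gen x * S.φ u = S.φ (stepW x u) * letterVal S.gen x := by
  unfold stepW at h ⊢
  cases hu : Nat.blt u 1152
  · rw [hu] at h; simp at h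
  · rw [hu] at h
    have hu' : u < 1152 := Nat.ble_eq.mp hu
    refine ⟨hu', ?_⟩
    simp only [cond_true] at h ⊢
    cases hx : Nat.blt x 8
    · rw [hx] at h
      simp only [cond_false] at h ⊢
      cases hc : (t0List.contains u && Nat.blt x 10)
      · rw [hc] at h; simp at h
      · simp only [cond_true]
        simp only [Bool.and_eq_true, List.contains_iff_mem] at hc
        have hn : ¬ x < 8 := fun hh' => by
          have hb : Nat.blt x 8 = true := Nat.ble_eq.mpr hh'
          rw [hx] at hb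
          exact Bool.noConfusion hb
        rw [S.letter_t hn (Nat.ble_eq.mp hc.2), ← (S.t_act u hc.1).2, mul_assoc, S.t_sq, mul_one]
    · simp only [cond_true]
      have hx' : x < 8 := Nat.ble_eq.mp hx
      obtain ⟨h1, h2, h3⟩ := gIdx_lt hx'
      have h4 := (gIdx_lt h3).1
      have hinv : S.φ (gIdx (flipL x)) * S.φ (gIdx x) = 1 := by
        have := (S.φ_mul _ h1 _ h4).2
        rw [h2, S.φ_one] at this
        exact mul_eq_one_comm.1 this.symm
      rw [S.letter_H hx', (S.φ_mul _ (S.φ_mul _ h1 u hu').1 _ h4).2, (S.φ_mul _ h1 u hu').2, mul_assoc _ (S.φ (gIdx (flipL x))),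
        hinv, mul_one]

theorem act_sound : ∀ {w : List Nat} {u : Nat}, actW w u < 1152 →
    u < 1152 ∧ S.val w * S.φ u = S.φ (actW w u) * S.val w := by
  intro w
  induction w with
  | nil => exact fun {u} h => ⟨h, by simp [val, actW]⟩
  | cons x w ih =>
    intro u h
    obtain ⟨h1, e1⟩ := S.step_sound (x := x) (u := actW w u) h
    obtain ⟨h2, e2⟩ := ih h1
    refine ⟨h2, ?_⟩
    rw [val_cons, mul_assoc, e2, ← mul_assoc, e1, mul_assoc]
    rfl

theorem val_hr {w : List Nat} (hw : w ∈ relHr) : S.val w = 1 := by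
  have h := List.all_eq_true.1 hr_ok w hw
  simp only [Bool.and_eq_true, beq_iff_eq] at h
  rw [(S.val_H h.1).2, h.2, S.φ_one]

theorem val_tr {w : List Nat} (hw : w ∈ relTr) : S.val w = 1 := by
  have h := List.all_eq_true.1 tr_ok w hw
  simp only [trOk, Bool.or_eq_true, decide_eq_true_eq, Bool.and_eq_true, beq_iff_eq, List.contains_iff_mem] at h
  rcases h with rfl | ⟨⟨⟨hsplit, hu⟩, hv'⟩, hone⟩
  · rw [val_cons, val_cons, S.letter_t (by norm_num) (by norm_num)]
    simp [val, S.t_sq]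
  · rw [hsplit]
    have hhu : hWord (w.tail.takeWhile fun x => Nat.blt x 8) = true :=
      List.all_eq_true.2 fun x hx => List.mem_takeWhile_imp (p := fun x => Nat.blt x 8) hx
    obtain ⟨l1, e1⟩ := S.val_H hhu
    obtain ⟨l2, e2⟩ := S.val_H hv'
    obtain ⟨l3, e3⟩ := S.t_act _ hu
    rw [List.cons_append, val_cons, val_append, val_cons, e1, e2, S.letter_t (by norm_num) (by norm_num),
      S.letter_t (by norm_num) (by norm_num), ← mul_assoc, ← mul_assoc, e3, ← (S.φ_mul _ l3 _ l2).2, hone, S.φ_one]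

theorem val_pow (w : List Nat) (k : Nat) : S.val (List.replicate k w).flatten = S.val w ^ k := valOf_pow _ _ _

theorem val_fpf {A w : List Nat} {k : Nat} (h : fpfOk A w k = true) : S.val w ^ k = 1 := by
  simp only [fpfOk, Bool.and_eq_true, List.all_eq_true, List.mem_range, List.contains_iff_mem, beq_iff_eq,
    Bool.or_eq_true, Bool.not_eq_true', beq_eq_false_iff_ne] at h
  obtain ⟨⟨hz, hA⟩, hcen⟩ := h
  have hlt : ∀ a ∈ A, a < 1152 := fun a ha => Nat.ble_eq.mp (hA a ha).1.1.1
  have hfix : ∀ a ∈ A, S.val w ^ k * S.φ a = S.φ a * S.val w ^ k := by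
    intro a ha
    have e := (hA a ha).2
    have := (S.act_sound (w := (List.replicate k w).flatten) (u := a) (by rw [e]; exact hlt a ha)).2
    rwa [e, S.val_pow] at this
  obtain ⟨c, hc, ec⟩ := S.φ_surj (S.val w ^ k) (by have := hfix zI hz; rwa [S.φ_z] at this)
  have hcA : c ∈ A := by
    rcases hcen c hc with h' | h'
    · exfalso
      obtain ⟨a, ha, hne⟩ := List.all_eq_false.1 h'
      simp only [beq_iff_eq] at hne
      refine hne (S.φ_inj _ (S.φ_mul c hc a (hlt a ha)).1 _ (S.φ_mul a (hlt a ha) c hc).1 ?_)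
      rw [(S.φ_mul c hc a (hlt a ha)).2, (S.φ_mul a (hlt a ha) c hc).2, ec, hfix a ha]
    · exact h'
  have hb := hlt _ (hA c hcA).1.1.2
  have e := (S.act_sound hb).2
  rw [ec, ← pow_succ', pow_succ] at e
  have e' : actW w c = c := S.φ_inj _ hb c hc (by rw [ec]; exact (mul_right_cancel e).symm)
  rcases (hA c hcA).1.2 with h' | h'
  · exact absurd e' h'
  · rw [← ec, h', S.φ_one]

theorem val_ext {w : List Nat} (hw : w ∈ relExt) : S.val w = 1 := by
  obtain ⟨A, -, h⟩ := List.any_eq_true.1 (List.all_eq_true.1 ext_ok.2.1 w hw)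
  obtain ⟨k, -, h⟩ := List.any_eq_true.1 h
  simp only [Bool.and_eq_true, decide_eq_true_eq] at h
  rw [h.1, S.val_pow]
  exact S.val_fpf h.2

theorem val_R1 : S.val relR1 = 1 := by
  rw [ext_ok.2.2, S.val_pow]
  exact S.val_fpf ext_ok.1

theorem val_opt {A r x opts : List Nat} {words : List (List Nat)} (h : optOk A r x opts words = true) :
    ∃ w ∈ words, S.val w = 1 := by
  simp only [optOk, Bool.and_eq_true, List.all_eq_true, List.mem_range, List.contains_iff_mem, beq_iff_eq,
    Bool.or_eq_true, Bool.not_eq_true', List.any_eq_true, decide_eq_true_eq] at h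
  obtain ⟨⟨⟨⟨⟨hx, hx3⟩, hz⟩, hA⟩, hcls⟩, hwords⟩ := h
  obtain ⟨lx, ex⟩ := S.val_H hx
  have hX3 : S.val (conjW r x) * (S.val (conjW r x) * S.val (conjW r x)) = 1 := by
    rw [S.val_conj, ex]
    calc _ = S.val r * (S.φ (hv x) * (S.φ (hv x) * S.φ (hv x))) * (S.val r)⁻¹ := by group
      _ = 1 := by
        rw [← (S.φ_mul _ lx _ lx).2, ← (S.φ_mul _ lx _ (S.φ_mul _ lx _ lx).1).2, hx3, S.φ_one, mul_one,
          mul_inv_cancel]
  have hzl : zI < 1152 := by decide +kernel
  have ez := (S.act_sound (w := conjW r x) (u := zI) (by rw [hz]; exact hzl)).2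
  rw [hz, S.φ_z] at ez
  obtain ⟨h0, l0, e0⟩ := S.φ_surj _ ez
  have hmem : h0 ∈ opts := by
    rcases hcls h0 l0 with h' | h'
    · exfalso
      simp only [Bool.and_eq_false_iff, beq_eq_false_iff_ne] at h'
      rcases h' with h' | h'
      · refine h' (S.φ_inj _ (S.φ_mul _ l0 _ (S.φ_mul _ l0 _ l0).1).1 _ oI_lt ?_)
        rw [(S.φ_mul _ l0 _ (S.φ_mul _ l0 _ l0).1).2, (S.φ_mul _ l0 _ l0).2, S.φ_one, e0]
        exact hX3
      · obtain ⟨a, ha, hne⟩ := List.all_eq_false.1 h'
        simp only [beq_iff_eq] at hne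
        have la := Nat.ble_eq.mp (hA a ha).1
        have lb := Nat.ble_eq.mp (hA a ha).2
        refine hne (S.φ_inj _ (S.φ_mul _ l0 _ la).1 _ (S.φ_mul _ lb _ l0).1 ?_)
        rw [(S.φ_mul _ l0 _ la).2, (S.φ_mul _ lb _ l0).2, e0]
        exact (S.act_sound lb).2
    · exact h'
  obtain ⟨w, hw, ⟨⟨e, hv'⟩, hh'⟩, hone⟩ := hwords h0 hmem
  refine ⟨w, hw, ?_⟩
  obtain ⟨lv, ev⟩ := S.val_H hv'
  rw [e, val_append, ev, ← e0, ← (S.φ_mul _ l0 _ lv).2, hone, S.φ_one]

end Std

end Cfsg.Agent.U43Type
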