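import Cfsg.Agent.U43Type.Tables

/-!
Finite facts on the table of `SL(2,3)`.
-/

set_option autoImplicit false
set_option maxRecDepth 100000
set_option linter.all false

namespace Cfsg.Agent.U43Type

theorem slMat_det : ∀ a < 24, (slMat a).det = 1 := by decide +kernel

theorem slMat_inj : ∀ a < 24, ∀ b < 24, slMat a = slMat b → a = b := by decide +kernel

theorem slMat_mul : ∀ a < 24, ∀ b < 24, slMat (sm a b) = slMat a * slMat b ∧ sm a b < 24 := by decide +kernel

theorem slMat_one : slMat sO = 1 := by decide +kernel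

theorem slMat_neg : slMat sZ = -1 := by decide +kernel

theorem slMat_surj : ∀ a b c d : ZMod 3, a * d - b * c = 1 → ∃ i < 24, slMat i = !![a, b; c, d] := by
  decide +kernel

/-- The table as a map to the group. -/
def slEl (a : Nat) : Matrix.SpecialLinearGroup (Fin 2) (ZMod 3) :=
  ⟨slMat (if a < 24 then a else sO), slMat_det _ (by split <;> first | assumption | decide)⟩

theorem slEl_val {a : Nat} (ha : a < 24) : (slEl a).1 = slMat a := by
  show slMat (if a < 24 then a else sO) = slMat a
  rw [if_pos ha]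

theorem slEl_mul {a b : Nat} (ha : a < 24) (hb : b < 24) : slEl (sm a b) = slEl a * slEl b := by
  apply Subtype.ext
  rw [Matrix.SpecialLinearGroup.coe_mul, slEl_val ha, slEl_val hb, slEl_val (slMat_mul a ha b hb).2,
    (slMat_mul a ha b hb).1]

theorem slEl_inj {a b : Nat} (ha : a < 24) (hb : b < 24) (h : slEl a = slEl b) : a = b :=
  slMat_inj a ha b hb (by rw [← slEl_val ha, h, slEl_val hb])

theorem slEl_surj (g : Matrix.SpecialLinearGroup (Fin 2) (ZMod 3)) : ∃ a < 24, slEl a = g := by
  obtain ⟨i, hi, h⟩ := slMat_surj (g.1 0 0) (g.1 0 1) (g.1 1 0) (g.1 1 1)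
    (by rw [← Matrix.det_fin_two]; exact g.2)
  refine ⟨i, hi, Subtype.ext ?_⟩
  rw [slEl_val hi, h, ← Matrix.eta_fin_two]

theorem slEl_one : slEl sO = 1 := by
  apply Subtype.ext
  rw [slEl_val (by decide), slMat_one]
  rfl

theorem st_hom : ∀ a < 24, ∀ b < 24, st (sm a b) = sm (st a) (st b) ∧ st a < 24 ∧ st (st a) = a := by
  decide +kernel

theorem sZ_central : ∀ a < 24, sm a sZ = sm sZ a ∧ st sZ = sZ ∧ sm sO a = a ∧ sm a sO = a ∧ sm (sm a sZ) sZ = a := by
  decide +kernel

/-- Elements of two-power order modulo the centre. -/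
theorem q8_of_pow : ∀ a < 24,
    (sm (sm (sm a a) (sm a a)) (sm (sm a a) (sm a a)) = sO ∨ sm (sm (sm a a) (sm a a)) (sm (sm a a) (sm a a)) = sZ) →
      inQ8 a = true := by decide +kernel

theorem q8_facts : ∀ a < 24, inQ8 a = true →
    sm (sm a a) (sm a a) = sO ∧ (∀ b < 24, inQ8 b = true → inQ8 (sm a b) = true) ∧
    (∀ g < 24, ∀ b < 24, sm g b = sm a g → inQ8 b = true) := by decide +kernel

theorem sq_central : ∀ a < 24, inQ8 a = true → a ≠ sO → a ≠ sZ → sm a a = sZ := by decide +kernel

/-- Every element is a product of three elements whose cube is one. -/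
theorem gen_three : ∀ a < 24, ∃ u < 24, ∃ v < 24, ∃ w < 24,
    sm (sm u u) u = sO ∧ sm (sm v v) v = sO ∧ sm (sm w w) w = sO ∧ a = sm (sm u v) w := by decide +kernel

/-- Conjugation by `g` after the outer automorphism, if `e`. -/
def sinv (a : Nat) : Nat := sm (sm (sm (sm (sm (sm (sm (sm (sm (sm a a) a) a) a) a) a) a) a) a) a

theorem sinv_mul : ∀ a < 24, sinv a < 24 ∧ sm a (sinv a) = sO ∧ sm (sinv a) a = sO := by decide +kernel

def sact (g : Nat) (e : Bool) (x : Nat) : Nat := sm (sm g (bif e then st x else x)) (sinv g)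

/-- The automorphisms are inner up to the outer one. -/
theorem aut_class {u v : Nat} (hu : u < 24) (hv : v < 24) (hu1 : u ≠ sO) (hu3 : sm (sm u u) u = sO)
    (hv2 : sm v v = sZ) (huv : sm (sm (sm u v) (sm u v)) (sm u v) = sO) :
    ∃ g < 24, ∃ e : Bool, sact g e sA = u ∧ sact g e sI = v := by
  have h : ((List.range 24).all fun u => (List.range 24).all fun v =>
      decide (u = sO) || !decide (sm (sm u u) u = sO) || !decide (sm v v = sZ) ||
      !decide (sm (sm (sm u v) (sm u v)) (sm u v) = sO) ||
      (List.range 24).any fun g => [false, true].any fun e =>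
        decide (sact g e sA = u) && decide (sact g e sI = v)) = true := by decide +kernel
  have h1 := List.all_eq_true.1 (List.all_eq_true.1 h u (List.mem_range.2 hu)) v (List.mem_range.2 hv)
  simp only [Bool.or_eq_true, Bool.not_eq_true', decide_eq_true_eq, decide_eq_false_iff_not, List.any_eq_true,
    List.mem_range, Bool.and_eq_true, hu1, hu3, hv2, huv, not_true_eq_false, false_or] at h1
  obtain ⟨g, hg, e, -, h2⟩ := h1
  exact ⟨g, hg, e, h2⟩

/-- The words of the elements in `sA` and `sI`. -/
theorem gen_words : ∀ a < 24, ∃ l : Fin 5 → Fin 3,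
    a = List.foldl (fun x b => if b = (0 : Fin 3) then x else if b = 1 then sm x sA else sm x sI) sO
      (List.ofFn l) := by decide +kernel

end Cfsg.Agent.U43Type
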