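import Cfsg.Agent.U43Type.Pair

/-!
An involution exchanging the two factors, and the coordinates it gives.
-/

set_option autoImplicit false
set_option maxRecDepth 100000
set_option linter.all false

namespace Cfsg.Agent.U43Type

open Subgroup

theorem inFour_neg : ∀ u < 24, ∀ v < 24, inFour (sm u sZ) (sm v sZ) = inFour u v := by decide +kernel

theorem sm_pow4 : ∀ a < 24, (sm (sm a a) (sm a a) = sO ∨ sm (sm a a) (sm a a) = sZ) → inQ8 a = true := by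
  decide +kernel

/-- The classes of an element of the second two-core normalising both factors. -/
theorem keeper_class : ∀ σ : Bool, ∀ g1 < 24, ∀ g2 < 24, ∀ e1 e2 : Bool,
    ((sact g1 e1 sK = sK ∧ sact g2 e2 (yk σ) = yk σ) ∨
      (sact g1 e1 sK = sm sK sZ ∧ sact g2 e2 (yk σ) = sm (yk σ) sZ)) →
    inFour (sm (sact g1 e1 sP) (sinv sP)) (sm (sact g2 e2 sP) (sinv sP)) = true →
    e1 = e2 ∧ (e1 = true → inQ8 g1 = true ∧ inQ8 g2 = true) := by
  have h : ([false, true].all fun σ => (List.range 24).all fun g1 => (List.range 24).all fun g2 =>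
      [false, true].all fun e1 => [false, true].all fun e2 => decide (((sact g1 e1 sK = sK ∧ sact g2 e2 (yk σ) = yk σ) ∨
      (sact g1 e1 sK = sm sK sZ ∧ sact g2 e2 (yk σ) = sm (yk σ) sZ)) →
    inFour (sm (sact g1 e1 sP) (sinv sP)) (sm (sact g2 e2 sP) (sinv sP)) = true →
    e1 = e2 ∧ (e1 = true → inQ8 g1 = true ∧ inQ8 g2 = true))) = true := by
    decide +kernel
  intro σ g1 h1 g2 h2 e1 e2
  have hb : ∀ b : Bool, b ∈ [false, true] := by decide
  exact of_decide_eq_true (List.all_eq_true.1 (List.all_eq_true.1 (List.all_eq_true.1 (List.all_eq_true.1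
    (List.all_eq_true.1 h σ (hb σ)) g1 (List.mem_range.2 h1)) g2 (List.mem_range.2 h2)) e1 (hb e1)) e2 (hb e2))

theorem sact_lt : ∀ g < 24, ∀ a < 24, ∀ e : Bool, sact g e a < 24 := by
  intro g hg a ha e
  refine Coords.lt_sm (Coords.lt_sm hg ?_) (sinv_mul g hg).1
  cases e
  · exact ha
  · exact (st_hom a ha a ha).2.1

variable {G : Type*} [Group G]

namespace Setup

variable {z : G} (S : Setup z)

theorem inK_mul {x y : G} (hx : S.C.inK x) (hy : S.C.inK y) : S.C.inK (x * y) := by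
  obtain ⟨a, ha, b, hb, rfl⟩ := hx
  obtain ⟨c, hc, e, he, rfl⟩ := hy
  exact ⟨_, Coords.lt_sm ha hc, _, Coords.lt_sm hb he, S.C.pair_mul ha hb hc he⟩

theorem QG_inK {x : G} (hx : x ∈ S.QG) : S.C.inK x := by
  obtain ⟨a, ha, b, hb, -, -, rfl⟩ := (S.memQ x).1 hx
  exact ⟨a, ha, b, hb, rfl⟩

end Setup

namespace Pair

variable {z : G} (P : Pair z)

/-- The second involution. -/
def Y : G := P.C.f1 sK * P.C.f2 (yk P.σ)

theorem Y_mem : P.Y ∈ P.QG :=
  P.inQ_pair (by decide) (yk_facts _).1 q8_noncomm.2.2.2.1 (yk_facts _).2.1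

theorem tz : P.t * z * P.t⁻¹ = P.Y := P.hzy

theorem tY : P.t * P.Y * P.t⁻¹ = z := P.hyz

theorem Y_ne_one : P.Y ≠ 1 := fun e => P.zne (by
  calc z = P.t⁻¹ * (P.t * z * P.t⁻¹) * P.t := by group
    _ = 1 := by rw [P.tz, e]; group)

theorem Y_ne_z : P.Y ≠ z := fun e => by
  have h : P.C.f1 sK * P.C.f2 (yk P.σ) = P.C.f1 sZ * P.C.f2 sO := by
    rw [P.C.one2, mul_one]
    simpa only [P.C.zz1, Y] using e
  have hn : sK ≠ sZ ∧ sK ≠ sm sZ sZ := by decide +kernel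
  rcases P.C.pair_inj (by decide) (yk_facts _).1 (by decide) (by decide) h with ⟨h1, -⟩ | ⟨h1, -⟩
  · exact hn.1 h1
  · exact hn.2 h1

theorem commYz : P.Y * z = z * P.Y := P.Q_comm P.Y_mem

/-- Membership in the four group. -/
def inE (x : G) : Prop := x ∈ P.QG ∧ P.t⁻¹ * x * P.t ∈ P.QG

/-- The subgroup of the four group. -/
def ESub : Subgroup G := P.QG ⊓ P.QG.map (MulAut.conj P.t).toMonoidHom

theorem mem_ESub (x : G) : x ∈ P.ESub ↔ P.inE x := by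
  rw [ESub, mem_inf, mem_map]
  refine and_congr_right fun _ => ⟨?_, fun h => ⟨_, h, by simp [mul_assoc]⟩⟩
  rintro ⟨w, hw, rfl⟩
  simpa [mul_assoc] using hw

theorem E_Y : P.inE P.Y := ⟨P.Y_mem, by
  rw [show P.t⁻¹ * P.Y * P.t = z by rw [← P.tz]; group]
  exact P.z_mem⟩

theorem E_z : P.inE z := ⟨P.z_mem, by
  rw [show P.t⁻¹ * z * P.t = P.Y from (by rw [show P.t⁻¹ * z * P.t = P.t⁻¹ * (P.t * P.Y * P.t⁻¹) * P.t by rw [P.tY]]; group)]
  exact P.Y_mem⟩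

theorem E_cases {x : G} (hx : P.inE x) : x = 1 ∨ x = z ∨ x = P.Y ∨ x = z * P.Y := by
  classical
  have h4 : Nat.card P.ESub = 4 := P.qq P.t (by rw [P.tz]; exact P.Y_mem) (by rw [P.tz]; exact P.Y_ne_z)
  let F : Finset G := {1, z, P.Y, z * P.Y}
  have hF : (F : Set G) ⊆ P.ESub := by
    intro u hu
    simp only [F, Finset.coe_insert, Finset.coe_singleton, Set.mem_insert_iff, Set.mem_singleton_iff] at hu
    rcases hu with rfl | rfl | rfl | rfl
    · exact P.ESub.one_mem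
    · exact (P.mem_ESub _).2 P.E_z
    · exact (P.mem_ESub _).2 P.E_Y
    · exact P.ESub.mul_mem ((P.mem_ESub _).2 P.E_z) ((P.mem_ESub _).2 P.E_Y)
  have hcard : F.card = 4 := by
    have n1 : z * P.Y ≠ 1 := fun e => P.Y_ne_z (by
      rw [← mul_right_inj z, e, P.zsq])
    have n2 : z * P.Y ≠ z := fun e => P.Y_ne_one (mul_eq_left.1 e)
    have n3 : z * P.Y ≠ P.Y := fun e => P.zne (mul_eq_right.1 e)
    rw [show F = {1, z, P.Y, z * P.Y} from rfl, Finset.card_insert_of_notMem, Finset.card_insert_of_notMem,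
      Finset.card_insert_of_notMem, Finset.card_singleton]
    · simpa using n3.symm
    · simp only [Finset.mem_insert, Finset.mem_singleton]
      rintro (e | e)
      · exact P.Y_ne_z e.symm
      · exact n2 e.symm
    · simp only [Finset.mem_insert, Finset.mem_singleton]
      rintro (e | e | e)
      · exact P.zne e.symm
      · exact P.Y_ne_one e.symm
      · exact n1 e.symm
  have hfin : (P.ESub : Set G).Finite := by
    by_contra hh
    rw [← SetLike.coe_sort_coe, Nat.card_coe_set_eq, Set.Infinite.ncard hh] at h4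
    omega
  have heq : (F : Set G) = P.ESub := Set.eq_of_subset_of_ncard_le hF (by
    rw [Set.ncard_coe_finset, hcard, ← h4, ← SetLike.coe_sort_coe, Nat.card_coe_set_eq]) hfin
  have hx' : x ∈ (F : Set G) := heq ▸ (P.mem_ESub x).2 hx
  simpa [F] using hx'

theorem E_pair {a b : Nat} (ha : a < 24) (hb : b < 24) (h : P.inE (P.C.f1 a * P.C.f2 b)) :
    inFour a b = true := by
  have hk := yk_facts P.σ
  have key : ∀ u v, u < 24 → v < 24 → inFour u v = true → P.C.f1 a * P.C.f2 b = P.C.f1 u * P.C.f2 v →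
      inFour a b = true := by
    intro u v hu hv hf e
    rcases P.C.pair_inj ha hb hu hv e with ⟨rfl, rfl⟩ | ⟨rfl, rfl⟩
    · exact hf
    · rw [inFour_neg u hu v hv]; exact hf
  have f0 : inFour sO sO = true ∧ inFour sZ sO = true ∧
      (∀ σ, inFour sK (yk σ) = true ∧ inFour (sm sZ sK) (yk σ) = true) := by decide +kernel
  rcases P.E_cases h with e | e | e | e
  · exact key sO sO (by decide) (by decide) f0.1 (e.trans (by rw [P.C.one1, P.C.one2, one_mul]))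
  · exact key sZ sO (by decide) (by decide) f0.2.1 (e.trans (by simp only [P.C.one2, P.C.zz1, mul_one]))
  · exact key sK _ (by decide) hk.1 (f0.2.2 _).1 e
  · refine key (sm sZ sK) _ (by decide +kernel) hk.1 (f0.2.2 _).2 (e.trans ?_)
    have hm := P.C.mul1 sZ (by decide) sK (by decide)
    simp only [P.C.zz1] at hm
    rw [hm, mul_assoc]; rfl

/-- The part of the two-core of the conjugate that centralises `z`. -/
def inR (x : G) : Prop := P.t⁻¹ * x * P.t ∈ P.QG ∧ P.t⁻¹ * x * P.t * P.Y = P.Y * (P.t⁻¹ * x * P.t)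

theorem R_z {x : G} (hx : P.inR x) : x * z = z * x := by
  calc x * z = P.t * (P.t⁻¹ * x * P.t * P.Y) * P.t⁻¹ := by nth_rw 1 [← P.tY]; group
    _ = P.t * (P.Y * (P.t⁻¹ * x * P.t)) * P.t⁻¹ := by rw [hx.2]
    _ = P.t * P.Y * P.t⁻¹ * x := by group
    _ = _ := by rw [P.tY]

theorem R_Y {x : G} (hx : P.inR x) : x * P.Y = P.Y * x := by
  calc x * P.Y = P.t * (P.t⁻¹ * x * P.t * z) * P.t⁻¹ := by nth_rw 1 [← P.tz]; group
    _ = P.t * (z * (P.t⁻¹ * x * P.t)) * P.t⁻¹ := by rw [P.Q_comm hx.1]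
    _ = P.t * z * P.t⁻¹ * x := by group
    _ = _ := by rw [P.tz]

theorem R_mul {x y : G} (hx : P.inR x) (hy : P.inR y) : P.inR (x * y) := by
  have e : P.t⁻¹ * (x * y) * P.t = P.t⁻¹ * x * P.t * (P.t⁻¹ * y * P.t) := by group
  unfold inR
  rw [e]
  refine ⟨P.QG.mul_mem hx.1 hy.1, ?_⟩
  rw [mul_assoc, hy.2, ← mul_assoc, hx.2, mul_assoc]

/-- Commutators with the centraliser of `Y` in the two-core. -/
theorem R_comm {x c : G} (hx : P.inR x) (hc : c ∈ P.QG) (hcY : c * P.Y = P.Y * c) :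
    P.inE (x * c * x⁻¹ * c⁻¹) := by
  refine ⟨P.QG.mul_mem (P.qnormal x (P.R_z hx) c hc) (P.QG.inv_mem hc), ?_⟩
  have hc' : P.t⁻¹ * c * P.t * z = z * (P.t⁻¹ * c * P.t) := by
    calc P.t⁻¹ * c * P.t * z = P.t⁻¹ * (c * (P.t * z * P.t⁻¹)) * P.t := by group
      _ = P.t⁻¹ * (P.t * z * P.t⁻¹ * c) * P.t := by rw [P.tz, hcY]
      _ = _ := by group
  have h1 := P.qnormal _ hc' _ (P.QG.inv_mem hx.1)
  have h2 := P.QG.mul_mem hx.1 h1
  simpa [mul_assoc] using h2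

theorem R_QG {x : G} (hx : P.inR x) (h : x ∈ P.QG) : P.inE x := ⟨h, hx.1⟩

theorem R_inK {x : G} (hx : P.inR x) (h : P.C.inK x) : P.inE x := by
  obtain ⟨a, ha, b, hb, rfl⟩ := h
  have hlt := @Coords.lt_sm
  refine P.R_QG hx ?_
  obtain ⟨c, hc, e, he, qc, qe, ece⟩ := (P.memQ _).1 hx.1
  have h4 : ∀ w : G, w = P.C.f1 c * P.C.f2 e → w * w * (w * w) = 1 := by
    rintro w rfl
    rw [P.C.pair_mul hc he hc he, P.C.pair_mul (hlt hc hc) (hlt he he) (hlt hc hc) (hlt he he),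
      (q8_facts c hc qc).1, (q8_facts e he qe).1, P.C.one1, P.C.one2, one_mul]
  have h4' := h4 _ ece
  have h4'' : P.C.f1 a * P.C.f2 b * (P.C.f1 a * P.C.f2 b) * (P.C.f1 a * P.C.f2 b * (P.C.f1 a * P.C.f2 b)) =
      P.C.f1 sO * P.C.f2 sO := by
    rw [P.C.one1, P.C.one2, one_mul]
    calc _ = P.t * (P.t⁻¹ * (P.C.f1 a * P.C.f2 b) * P.t * (P.t⁻¹ * (P.C.f1 a * P.C.f2 b) * P.t) *
          (P.t⁻¹ * (P.C.f1 a * P.C.f2 b) * P.t * (P.t⁻¹ * (P.C.f1 a * P.C.f2 b) * P.t))) * P.t⁻¹ := by group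
      _ = 1 := by rw [h4']; group
  rw [P.C.pair_mul ha hb ha hb, P.C.pair_mul (hlt ha ha) (hlt hb hb) (hlt ha ha) (hlt hb hb)] at h4''
  rcases P.C.pair_inj (hlt (hlt ha ha) (hlt ha ha)) (hlt (hlt hb hb) (hlt hb hb)) (by decide) (by decide) h4'' with
    ⟨p, q⟩ | ⟨p, q⟩
  · exact P.inQ_pair ha hb (sm_pow4 a ha (Or.inl p)) (sm_pow4 b hb (Or.inl q))
  · rw [show sm sO sZ = sZ by decide +kernel] at p q
    exact P.inQ_pair ha hb (sm_pow4 a ha (Or.inr p)) (sm_pow4 b hb (Or.inr q))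

/-- The classes of a keeper. -/
theorem R_keeper {x : G} (hx : P.inR x) (hk : P.C.Keeps x) (hne : ¬ P.inE x) :
    ∃ g1 < 24, ∃ g2 < 24, inQ8 g1 = true ∧ inQ8 g2 = true ∧
      (∀ a < 24, x * P.C.f1 a * x⁻¹ = P.C.f1 (sact g1 true a)) ∧
      ∀ a < 24, x * P.C.f2 a * x⁻¹ = P.C.f2 (sact g2 true a) := by
  obtain ⟨g1, hg1, g2, hg2, e1, e2, k1, k2⟩ := P.C.keeps_class hk (P.R_z hx)
  have hlt := @Coords.lt_sm
  have hK : sK < 24 := by decide
  have hP : sP < 24 := by decide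
  have hy := (yk_facts P.σ).1
  have h1 : (sact g1 e1 sK = sK ∧ sact g2 e2 (yk P.σ) = yk P.σ) ∨
      (sact g1 e1 sK = sm sK sZ ∧ sact g2 e2 (yk P.σ) = sm (yk P.σ) sZ) := by
    refine P.C.pair_inj (sact_lt _ hg1 _ hK _) (sact_lt _ hg2 _ hy _) hK hy ?_
    rw [← k1 sK hK, ← k2 _ hy]
    calc x * P.C.f1 sK * x⁻¹ * (x * P.C.f2 (yk P.σ) * x⁻¹) = x * P.Y * x⁻¹ := by rw [Y]; group
      _ = P.Y := by rw [P.R_Y hx]; group
  have hpY : P.C.f1 sP * P.C.f2 sP * P.Y = P.Y * (P.C.f1 sP * P.C.f2 sP) := by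
    have f : ∀ σ, sm sP sK = sm (sm sK sP) sZ ∧ sm sP (yk σ) = sm (sm (yk σ) sP) sZ := by decide +kernel
    rw [Y, P.C.pair_mul hP hP hK hy, P.C.pair_mul hK hy hP hP, (f P.σ).1, (f P.σ).2,
      P.C.neg_mul_neg (hlt hK hP) (hlt hy hP)]
  have h2 : inFour (sm (sact g1 e1 sP) (sinv sP)) (sm (sact g2 e2 sP) (sinv sP)) = true := by
    refine P.E_pair (hlt (sact_lt _ hg1 _ hP _) (sinv_mul _ hP).1) (hlt (sact_lt _ hg2 _ hP _) (sinv_mul _ hP).1) ?_
    have h := P.R_comm hx (P.inQ_pair hP hP q8_noncomm.2.2.2.2.1 q8_noncomm.2.2.2.2.1) hpY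
    rwa [show x * (P.C.f1 sP * P.C.f2 sP) * x⁻¹ = x * P.C.f1 sP * x⁻¹ * (x * P.C.f2 sP * x⁻¹) by group,
      k1 sP hP, k2 sP hP, P.C.com sP hP sP hP, mul_inv_rev, P.C.inv1 hP, P.C.inv2 hP,
      P.C.pair_mul (sact_lt _ hg1 _ hP _) (sact_lt _ hg2 _ hP _) (sinv_mul _ hP).1 (sinv_mul _ hP).1] at h
  obtain ⟨he, hq⟩ := keeper_class P.σ g1 hg1 g2 hg2 e1 e2 h1 h2
  subst he
  cases e1
  · exfalso
    refine hne (P.R_inK hx ?_)
    obtain ⟨h, hh⟩ : ∃ h, h = P.C.f1 g1 * P.C.f2 g2 := ⟨_, rfl⟩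
    have hz : h⁻¹ * x * z = z * (h⁻¹ * x) := by
      have h' : h * z = z * h := by
        rw [hh, mul_assoc, P.C.z_comm2 hg2, ← mul_assoc, P.C.z_comm1 hg1, mul_assoc]
      calc h⁻¹ * x * z = h⁻¹ * (z * x) := by rw [mul_assoc, P.R_z hx]
        _ = h⁻¹ * (z * h) * (h⁻¹ * x) := by group
        _ = h⁻¹ * (h * z) * (h⁻¹ * x) := by rw [h']
        _ = _ := by group
    have a1 : ∀ a < 24, h * P.C.f1 a * h⁻¹ = P.C.f1 (sact g1 false a) := fun a ha => by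
      have c0 : P.C.f2 g2 * P.C.f1 a * (P.C.f2 g2)⁻¹ = P.C.f1 a := by rw [← P.C.com a ha g2 hg2]; group
      rw [sact, cond_false, P.C.mul1 _ (hlt hg1 ha) _ (sinv_mul g1 hg1).1, P.C.mul1 g1 hg1 a ha, ← P.C.inv1 hg1]
      calc h * P.C.f1 a * h⁻¹ = P.C.f1 g1 * (P.C.f2 g2 * P.C.f1 a * (P.C.f2 g2)⁻¹) * (P.C.f1 g1)⁻¹ := by
            rw [hh]; group
        _ = _ := by rw [c0]
    have a2 : ∀ a < 24, h * P.C.f2 a * h⁻¹ = P.C.f2 (sact g2 false a) := fun a ha => by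
      have c0 : P.C.f1 g1 * P.C.f2 a * (P.C.f1 g1)⁻¹ = P.C.f2 a := by rw [P.C.com g1 hg1 a ha]; group
      rw [sact, cond_false, P.C.mul2 _ (hlt hg2 ha) _ (sinv_mul g2 hg2).1, P.C.mul2 g2 hg2 a ha, ← P.C.inv2 hg2]
      calc h * P.C.f2 a * h⁻¹ = P.C.f2 g2 * (P.C.f1 g1 * P.C.f2 a * (P.C.f1 g1)⁻¹) * (P.C.f2 g2)⁻¹ := by
            rw [hh, P.C.com g1 hg1 g2 hg2]; group
        _ = _ := by rw [c0]
    have hc : h⁻¹ * x ∈ P.QG := by
      refine P.self _ hz fun q hq => ?_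
      obtain ⟨a, ha, b, hb, -, -, rfl⟩ := (P.memQ q).1 hq
      have w1 : Commute (h⁻¹ * x) (P.C.f1 a) := by
        show _ = _
        calc h⁻¹ * x * P.C.f1 a = h⁻¹ * (x * P.C.f1 a * x⁻¹) * x := by group
          _ = h⁻¹ * (h * P.C.f1 a * h⁻¹) * x := by rw [k1 a ha, a1 a ha]
          _ = _ := by group
      have w2 : Commute (h⁻¹ * x) (P.C.f2 b) := by
        show _ = _
        calc h⁻¹ * x * P.C.f2 b = h⁻¹ * (x * P.C.f2 b * x⁻¹) * x := by group
          _ = h⁻¹ * (h * P.C.f2 b * h⁻¹) * x := by rw [k2 b hb, a2 b hb]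
          _ = _ := by group
      exact (w1.mul_right w2).eq
    have := P.inK_mul (x := h) ⟨g1, hg1, g2, hg2, hh⟩ (P.QG_inK hc)
    rwa [mul_inv_cancel_left] at this
  · exact ⟨g1, hg1, g2, hg2, (hq rfl).1, (hq rfl).2, k1, k2⟩

/-- The three lifts. -/
theorem lifts : ∃ u v w : G, u = P.t * (P.C.f1 sK) * P.t⁻¹ ∧ v = P.t * (P.C.f1 sP * P.C.f2 sP) * P.t⁻¹ ∧ w = u * v ∧
    P.inR u ∧ P.inR v ∧ P.inR w ∧ ¬ P.inE u ∧ ¬ P.inE v ∧ ¬ P.inE w ∧ v * v = 1 ∧ w * w = 1 := by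
  have hlt := @Coords.lt_sm
  have hK : sK < 24 := by decide
  have hP : sP < 24 := by decide
  have hO : sO < 24 := by decide
  have hy := (yk_facts P.σ).1
  have qk := q8_noncomm.2.2.2.1
  have qp := q8_noncomm.2.2.2.2.1
  have cK : P.C.f1 sK * P.Y = P.Y * P.C.f1 sK :=
    ((Commute.refl _).mul_right (P.C.com sK hK _ hy)).eq
  have cP : P.C.f1 sP * P.C.f2 sP * P.Y = P.Y * (P.C.f1 sP * P.C.f2 sP) := by
    have f : ∀ σ, sm sP sK = sm (sm sK sP) sZ ∧ sm sP (yk σ) = sm (sm (yk σ) sP) sZ := by decide +kernel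
    rw [Y, P.C.pair_mul hP hP hK hy, P.C.pair_mul hK hy hP hP, (f P.σ).1, (f P.σ).2,
      P.C.neg_mul_neg (hlt hK hP) (hlt hy hP)]
  have hR : ∀ c ∈ P.QG, c * P.Y = P.Y * c → P.inR (P.t * c * P.t⁻¹) := by
    intro c hc hcY
    unfold inR
    rw [show P.t⁻¹ * (P.t * c * P.t⁻¹) * P.t = c by group]
    exact ⟨hc, hcY⟩
  have hE : ∀ c, P.inE (P.t * c * P.t⁻¹) → P.inE c := by
    intro c h
    have e : ∀ d, P.t * c * P.t⁻¹ = d → c = P.t⁻¹ * d * P.t := fun d hd => by rw [← hd]; group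
    have eY : P.t⁻¹ * P.Y * P.t = z := by rw [← P.tz]; group
    have ez : P.t⁻¹ * z * P.t = P.Y := by
      calc P.t⁻¹ * z * P.t = P.t⁻¹ * (P.t * P.Y * P.t⁻¹) * P.t := by rw [P.tY]
        _ = _ := by group
    rcases P.E_cases h with h' | h' | h' | h' <;> have h'' := e _ h'
    · rw [h'', mul_one, inv_mul_cancel]; exact (P.mem_ESub 1).1 P.ESub.one_mem
    · rw [h'', ez]; exact P.E_Y
    · rw [h'', eY]; exact P.E_z
    · rw [h'', show P.t⁻¹ * (z * P.Y) * P.t = P.t⁻¹ * z * P.t * (P.t⁻¹ * P.Y * P.t) by group, ez, eY]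
      exact (P.mem_ESub _).1 (P.ESub.mul_mem ((P.mem_ESub _).2 P.E_Y) ((P.mem_ESub _).2 P.E_z))
  have fn : inFour sK sO = false ∧ inFour sP sP = false ∧ inFour (sm sK sP) sP = false ∧
      sm sP sP = sZ ∧ sm (sm sK sP) (sm sK sP) = sZ := by decide +kernel
  have eK : P.C.f1 sK = P.C.f1 sK * P.C.f2 sO := by rw [P.C.one2, mul_one]
  have eW : P.C.f1 sK * (P.C.f1 sP * P.C.f2 sP) = P.C.f1 (sm sK sP) * P.C.f2 sP := by
    rw [P.C.mul1 sK hK sP hP, mul_assoc]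
  have u0 := hR _ (P.f1_mem hK qk) cK
  have v0 := hR _ (P.inQ_pair hP hP qp qp) cP
  refine ⟨_, _, _, rfl, rfl, rfl, u0, v0, P.R_mul u0 v0, ?_, ?_, ?_, ?_, ?_⟩
  · intro h
    have := hE _ h
    rw [eK] at this
    exact absurd (P.E_pair hK hO this) (by rw [fn.1]; simp)
  · intro h
    exact absurd (P.E_pair hP hP (hE _ h)) (by rw [fn.2.1]; simp)
  · intro h
    rw [show P.t * P.C.f1 sK * P.t⁻¹ * (P.t * (P.C.f1 sP * P.C.f2 sP) * P.t⁻¹) =
      P.t * (P.C.f1 sK * (P.C.f1 sP * P.C.f2 sP)) * P.t⁻¹ by group] at h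
    have := hE _ h
    rw [eW] at this
    exact absurd (P.E_pair (hlt hK hP) hP this) (by rw [fn.2.2.1]; simp)
  · rw [show P.t * (P.C.f1 sP * P.C.f2 sP) * P.t⁻¹ * (P.t * (P.C.f1 sP * P.C.f2 sP) * P.t⁻¹) =
      P.t * (P.C.f1 sP * P.C.f2 sP * (P.C.f1 sP * P.C.f2 sP)) * P.t⁻¹ by group, P.C.pair_mul hP hP hP hP, fn.2.2.2.1]
    simp only [P.C.zz1, P.C.zz2, P.zsq]
    group
  · rw [show P.t * P.C.f1 sK * P.t⁻¹ * (P.t * (P.C.f1 sP * P.C.f2 sP) * P.t⁻¹) =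
      P.t * (P.C.f1 sK * (P.C.f1 sP * P.C.f2 sP)) * P.t⁻¹ by group, eW]
    rw [show P.t * (P.C.f1 (sm sK sP) * P.C.f2 sP) * P.t⁻¹ * (P.t * (P.C.f1 (sm sK sP) * P.C.f2 sP) * P.t⁻¹) =
      P.t * (P.C.f1 (sm sK sP) * P.C.f2 sP * (P.C.f1 (sm sK sP) * P.C.f2 sP)) * P.t⁻¹ by group,
      P.C.pair_mul (hlt hK hP) hP (hlt hK hP) hP, fn.2.2.2.1, fn.2.2.2.2]
    simp only [P.C.zz1, P.C.zz2, P.zsq]
    group

theorem keeps_mul {x y : G} (hx : P.C.Keeps x) (hy : P.C.Keeps y) : P.C.Keeps (x * y) := by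
  constructor <;> intro a ha
  · obtain ⟨a1, h1, e1⟩ := hy.1 a ha
    obtain ⟨a2, h2, e2⟩ := hx.1 a1 h1
    exact ⟨a2, h2, by rw [← e2, ← e1]; group⟩
  · obtain ⟨a1, h1, e1⟩ := hy.2 a ha
    obtain ⟨a2, h2, e2⟩ := hx.2 a1 h1
    exact ⟨a2, h2, by rw [← e2, ← e1]; group⟩

theorem swaps_mul {x y : G} (hx : P.C.Swaps x) (hy : P.C.Swaps y) : P.C.Keeps (x * y) := by
  constructor <;> intro a ha
  · obtain ⟨a1, h1, e1⟩ := hy.1 a ha
    obtain ⟨a2, h2, e2⟩ := hx.2 a1 h1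
    exact ⟨a2, h2, by rw [← e2, ← e1]; group⟩
  · obtain ⟨a1, h1, e1⟩ := hy.2 a ha
    obtain ⟨a2, h2, e2⟩ := hx.1 a1 h1
    exact ⟨a2, h2, by rw [← e2, ← e1]; group⟩

/-- An involution of the second two-core exchanging the factors, and a keeper outside the four group. -/
theorem exists_swap_keep : (∃ s, P.inR s ∧ s * s = 1 ∧ P.C.Swaps s) ∧
    ∃ r, P.inR r ∧ ¬ P.inE r ∧ P.C.Keeps r := by
  obtain ⟨u, v, w, -, -, hw, Ru, Rv, Rw, nu, nv, nw, v2, w2⟩ := P.lifts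
  have hv' : v⁻¹ = v := inv_eq_of_mul_eq_one_right v2
  have huw : u = w * v := by rw [hw, mul_assoc, v2, mul_one]
  rcases P.dich v (P.R_z Rv) with hv | hv
  · rcases P.dich w (P.R_z Rw) with hw' | hw'
    · exfalso
      have ku : P.C.Keeps u := huw ▸ P.keeps_mul hw' hv
      obtain ⟨a1, ha1, a2, ha2, -, -, ku1, ku2⟩ := P.R_keeper Ru ku nu
      obtain ⟨b1, hb1, b2, hb2, -, -, kv1, kv2⟩ := P.R_keeper Rv hv nv
      obtain ⟨c1, hc1, c2, hc2, -, -, kw1, kw2⟩ := P.R_keeper Rw hw' nw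
      have f : ∀ a < 24, ∀ b < 24, ∀ c < 24, ¬ (sact a true (sact b true sA) = sact c true sA ∧
          sact a true (sact b true sI) = sact c true sI) := by decide +kernel
      have key : ∀ p < 24, sact a1 true (sact b1 true p) = sact c1 true p := fun p hp =>
        P.C.inj1 _ (sact_lt _ ha1 _ (sact_lt _ hb1 _ hp _) _) _ (sact_lt _ hc1 _ hp _) (by
          rw [← ku1 _ (sact_lt _ hb1 _ hp _), ← kv1 p hp, ← kw1 p hp, hw]; group)
      exact f a1 ha1 b1 hb1 c1 hc1 ⟨key sA (by decide), key sI (by decide)⟩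
    · exact ⟨⟨w, Rw, w2, hw'⟩, v, Rv, nv, hv⟩
  · refine ⟨⟨v, Rv, v2, hv⟩, ?_⟩
    rcases P.dich w (P.R_z Rw) with hw' | hw'
    · exact ⟨w, Rw, nw, hw'⟩
    · exact ⟨u, Ru, nu, huw ▸ P.swaps_mul hw' hv⟩

end Pair

/-- Coordinates interchanged by an involution of the second two-core. -/
structure Framed (z : G) extends Pair z where
  s : G
  s_sq : s * s = 1
  s_z : s * z = z * s
  s_R : toPair.inR s
  s_f : ∀ a < 24, C.f2 a = s * C.f1 a * s

theorem Pair.exists_framed {z : G} (P : Pair z) : Nonempty (Framed z) := by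
  obtain ⟨⟨s, Rs, s2, hs⟩, -⟩ := P.exists_swap_keep
  have si : s⁻¹ = s := inv_eq_of_mul_eq_one_right s2
  have ss : ∀ w : G, s * (s * w) = w := fun w => by rw [← mul_assoc, s2, one_mul]
  have toOld : ∀ a < 24, ∃ a' < 24, s * P.C.f1 a * s = P.C.f2 a' := fun a ha => by
    obtain ⟨a', ha', e⟩ := hs.1 a ha
    exact ⟨a', ha', by rw [← e, si]⟩
  have toNew : ∀ b < 24, ∃ a < 24, P.C.f2 b = s * P.C.f1 a * s := fun b hb => by
    obtain ⟨a, ha, e⟩ := hs.2 b hb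
    exact ⟨a, ha, by rw [← e, si]; simp [mul_assoc, ss, s2]⟩
  have conjz : s * z * s = z := by rw [P.R_z Rs, mul_assoc, s2, mul_one]
  let C' : Coords z :=
    { f1 := P.C.f1
      f2 := fun a => s * P.C.f1 a * s
      mul1 := P.C.mul1
      mul2 := fun a ha b hb => by
        rw [P.C.mul1 a ha b hb]
        calc s * (P.C.f1 a * P.C.f1 b) * s = s * P.C.f1 a * (s * s) * P.C.f1 b * s := by rw [s2]; group
          _ = _ := by group
      inj1 := P.C.inj1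
      inj2 := fun a ha b hb h => P.C.inj1 a ha b hb (mul_left_cancel (mul_right_cancel h))
      zz1 := P.C.zz1
      zz2 := by simpa only [P.C.zz1] using conjz
      com := fun a ha b hb => by
        obtain ⟨b', hb', e⟩ := toOld b hb
        rw [e]
        exact P.C.com a ha b' hb'
      meet := fun a ha b hb h => by
        obtain ⟨b', hb', e⟩ := toOld b hb
        exact P.C.meet a ha b' hb' (h.trans e) }
  have f1Q : ∀ a < 24, P.C.f1 a ∈ P.QG → inQ8 a = true := by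
    intro a ha h
    obtain ⟨c, hc, e, he, qc, qe, hce⟩ := (P.memQ _).1 h
    rcases P.C.pair_inj ha (show sO < 24 by decide) hc he (by rw [P.C.one2, mul_one]; exact hce) with ⟨rfl, -⟩ | ⟨rfl, -⟩
    · exact qc
    · exact (q8_facts c hc qc).2.1 sZ (by decide) q8_noncomm.2.2.2.2.2.2.2.2.2.2
  have memQ' : ∀ x, x ∈ P.QG ↔ C'.inQ x := by
    intro x
    constructor
    · intro hx
      obtain ⟨a, ha, b, hb, qa, qb, rfl⟩ := (P.memQ x).1 hx
      obtain ⟨b', hb', e⟩ := toNew b hb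
      refine ⟨a, ha, b', hb', qa, f1Q b' hb' ?_, by rw [e]⟩
      have h := P.qnormal s (P.R_z Rs) _ ((P.memQ _).2 ⟨sO, by decide, b, hb, q8_noncomm.2.2.2.2.2.2.2.2.2.1, qb,
        by rw [P.C.one1, one_mul]⟩)
      rw [e, si] at h
      simpa [mul_assoc, ss, s2] using h
    · rintro ⟨a, ha, b, hb, qa, qb, rfl⟩
      refine P.QG.mul_mem (P.f1_mem ha qa) ?_
      have := P.qnormal s (P.R_z Rs) _ (P.f1_mem hb qb)
      rwa [si] at this
  let S' : Setup z :=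
    { C := C'
      QG := P.QG
      memQ := memQ'
      qnormal := P.qnormal
      self := P.self
      dich := fun x hx => by
        rcases P.dich x hx with hk | hk
        · refine Or.inl ⟨hk.1, fun a ha => ?_⟩
          obtain ⟨a', ha', e⟩ := toOld a ha
          obtain ⟨a'', ha'', e'⟩ := hk.2 a' ha'
          obtain ⟨b, hb, e''⟩ := toNew a'' ha''
          exact ⟨b, hb, by show x * (s * P.C.f1 a * s) * x⁻¹ = _; rw [e, e', e'']⟩
        · refine Or.inr ⟨fun a ha => ?_, fun a ha => ?_⟩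
          · obtain ⟨a', ha', e⟩ := hk.1 a ha
            obtain ⟨b, hb, e''⟩ := toNew a' ha'
            exact ⟨b, hb, by show x * P.C.f1 a * x⁻¹ = _; rw [e, e'']⟩
          · obtain ⟨a', ha', e⟩ := toOld a ha
            obtain ⟨a'', ha'', e'⟩ := hk.2 a' ha'
            exact ⟨a'', ha'', by show x * (s * P.C.f1 a * s) * x⁻¹ = _; rw [e, e']⟩
      card := P.card
      nwc := P.nwc
      qq := P.qq }
  have hy := (yk_facts P.σ)
  obtain ⟨u, hu, eu⟩ := toNew _ hy.1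
  have hY : s * (P.C.f1 sK * P.C.f2 (yk P.σ)) * s = P.C.f1 u * (s * P.C.f1 sK * s) := by
    rw [eu]
    calc s * (P.C.f1 sK * (s * P.C.f1 u * s)) * s = s * P.C.f1 sK * s * P.C.f1 u * (s * s) := by group
      _ = s * P.C.f1 sK * s * P.C.f1 u := by rw [s2, mul_one]
      _ = _ := by
        obtain ⟨k', hk', ek⟩ := toOld sK (by decide)
        rw [ek]; exact (P.C.com u hu k' hk').symm
  have hfix : s * P.Y * s = P.Y := by rw [P.R_Y Rs, mul_assoc, s2, mul_one]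
  have hcases : u = sK ∨ u = sm sK sZ := by
    have h : C'.f1 u * C'.f2 sK = C'.f1 sK * C'.f2 u := by
      have := hfix
      rw [Pair.Y, hY] at this
      exact this.trans (congrArg (P.C.f1 sK * ·) eu)
    rcases C'.pair_inj hu (by decide) (by decide) hu h with ⟨p, -⟩ | ⟨p, -⟩
    · exact Or.inl p
    · exact Or.inr p
  obtain ⟨σ', hσ⟩ : ∃ σ', u = yk σ' := by
    rcases hcases with h | h
    · exact ⟨false, h⟩
    · exact ⟨true, h⟩
  have hY' : C'.f1 sK * C'.f2 (yk σ') = P.C.f1 sK * P.C.f2 (yk P.σ) := by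
    show P.C.f1 sK * (s * P.C.f1 (yk σ') * s) = _
    rw [eu, hσ]
  let P' : Pair z :=
    { toSetup := S'
      σ := σ'
      t := P.t
      hzy := by show _ = C'.f1 sK * C'.f2 (yk σ'); rw [hY']; exact P.hzy
      hyz := by show P.t * (C'.f1 sK * C'.f2 (yk σ')) * P.t⁻¹ = z; rw [hY']; exact P.hyz
      zne := P.zne
      zsq := P.zsq }
  refine ⟨{ toPair := P', s := s, s_sq := s2, s_z := P.R_z Rs, s_R := ⟨Rs.1, ?_⟩, s_f := fun a ha => rfl }⟩
  have h := Rs.2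
  rw [Pair.Y] at h ⊢
  show P.t⁻¹ * s * P.t * (C'.f1 sK * C'.f2 (yk σ')) = C'.f1 sK * C'.f2 (yk σ') * (P.t⁻¹ * s * P.t)
  rw [hY']
  exact h

end Cfsg.Agent.U43Type
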