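import Mathlib

/-!
Tables for `SL(2,3)` and for the candidate centralisers of order 1152, on natural numbers.
-/

set_option autoImplicit false

namespace Cfsg.Agent.U43Type

/-- Entry `i` of a packed table with five bits per entry. -/
def getFive (t i : Nat) : Nat := Nat.land (Nat.shiftRight t (Nat.mul 5 i)) 31

/-- Multiplication in `SL(2,3)`. -/
def sm (a b : Nat) : Nat :=
  getFive 0x785b501e4250d3129a8465ed09a16e889d70a2805955021e636daaf9192c8019611a614916f1a245756f1a1d4d24ce5828766a03770a2b050cc4c9f51c9047acb571856602090cced552372d0c38a49761c15685ea1490e5ce165a54e635063ca74adaef8444008c854a96c6b8c745253bd6d17c0011146452d2d730e834e92b5eb08bc22010a303202358299bc8b90d152ba34bb4ea13a2145c0ba40aa990f61b5f2ab0c90b5e03d44a94469a14d723213b390b3926a2c1a3b06e8145c0a2d2663eb2316891c584b82a70bda292968742d340e4b23dc5a8ac6041819a5476c6f4aded2a4df18358e525673206520402b56f39520f8b1cd4ad4641c8328041bdab49ca307b9ac5a928398a41882064006b09330ade44486ea96978a9a76bc27a815212623350acb927682dc874448b857402a053cc8db0e557a586a18b148eec254e07b432509cb45a709206f592ae2d8c283013485aa3de9199c90516cd1dd018b854581893564f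 (Nat.add (Nat.mul a 24) b)

/-- The outer automorphism: conjugation by a reflection. -/
def st (a : Nat) : Nat := getFive 0x9d256bd6117a9696b9874184101483 a

/-- The position of the sign class. -/
def spos (a : Nat) : Nat := getFive 0x3a0ca5a4851ad4941cc520c2200820 a

/-- The representative of a sign class. -/
def srep (p : Nat) : Nat := getFive 0x7358b5250730820 p

/-- The matrices. -/
def slMat : Nat → Matrix (Fin 2) (Fin 2) (ZMod 3)
  | 0 => !![0, 1; 2, 0]
  | 1 => !![0, 1; 2, 1]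
  | 2 => !![0, 1; 2, 2]
  | 3 => !![0, 2; 1, 0]
  | 4 => !![0, 2; 1, 1]
  | 5 => !![0, 2; 1, 2]
  | 6 => !![1, 0; 0, 1]
  | 7 => !![1, 0; 1, 1]
  | 8 => !![1, 0; 2, 1]
  | 9 => !![1, 1; 0, 1]
  | 10 => !![1, 1; 1, 2]
  | 11 => !![1, 1; 2, 0]
  | 12 => !![1, 2; 0, 1]
  | 13 => !![1, 2; 1, 0]
  | 14 => !![1, 2; 2, 2]
  | 15 => !![2, 0; 0, 2]
  | 16 => !![2, 0; 1, 2]
  | 17 => !![2, 0; 2, 2]
  | 18 => !![2, 1; 0, 2]
  | 19 => !![2, 1; 1, 1]
  | 20 => !![2, 1; 2, 0]
  | 21 => !![2, 2; 0, 2]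
  | 22 => !![2, 2; 1, 0]
  | _ => !![2, 2; 2, 1]

/-- The identity, the central involution and four special elements. -/
abbrev sO : Nat := 6
abbrev sZ : Nat := 15
abbrev sK : Nat := 0
abbrev sP : Nat := 10
abbrev sA : Nat := 2
abbrev sI : Nat := 3

/-- Membership in the quaternion subgroup. -/
def inQ8 (a : Nat) : Bool := Nat.testBit 8963145 a

/-- The index of `h₁ h₂ s^a d^b`. -/
def mk (h1 h2 : Nat) (a b : Bool) : Nat :=
  let p := spos h1
  let h2' := bif Nat.beq (srep p) h1 then h2 else sm h2 sZ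
  Nat.add (Nat.mul (Nat.add (Nat.mul (Nat.add (Nat.mul p 24) h2') 2) (bif a then 1 else 0)) 2) (bif b then 1 else 0)

def c1 (i : Nat) : Nat := srep (Nat.div i 96)
def c2 (i : Nat) : Nat := Nat.mod (Nat.div i 4) 24
def cs (i : Nat) : Bool := Nat.beq (Nat.mod (Nat.div i 2) 2) 1
def cd (i : Nat) : Bool := Nat.beq (Nat.mod i 2) 1

/-- Multiplication in the candidate with parameters `δ ε`. -/
def hm (δ ε : Bool) (i j : Nat) : Nat :=
  let k1 := bif cd i then st (c1 j) else c1 j
  let k2 := bif cd i then st (c2 j) else c2 j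
  let r1 := sm (c1 i) (bif cs i then k2 else k1)
  let r2 := sm (c2 i) (bif cs i then k1 else k2)
  mk (bif xor (cd i && cs j && ε) (cd i && cd j && δ) then sm r1 sZ else r1) r2
    (xor (cs i) (cs j)) (xor (cd i) (cd j))

end Cfsg.Agent.U43Type
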